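import Cfsg.Agent.SymNineRecog.MatCheck

/-!
# The three frames
-/

set_option autoImplicit false

namespace CfsgLib.SymNineRecog

set_option maxRecDepth 100000

/-- The matrices of the three frames. -/
def frameT : Fin 3 → Mat
  | 0 => Mat.one
  | 1 => .mk (.mk .z .o .o) (.mk .o .z .o) (.mk .o .o .z)
  | 2 => .mk (.mk .t .o .o) (.mk .o .t .o) (.mk .o .o .t)

/-- Their inverses. -/
def frameInv : Fin 3 → Mat
  | 0 => Mat.one
  | 1 => .mk (.mk .o .t .t) (.mk .t .o .t) (.mk .t .t .o)
  | 2 => .mk (.mk .z .t .t) (.mk .t .z .t) (.mk .t .t .z)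

/-- Preserving a frame. -/
def monoOf : Fin 3 → Mat → Bool
  | 0 => mono0
  | 1 => mono1
  | 2 => mono2

/-- The diagonal matrices of signs. -/
def diag (a b c : T3) : Mat := .mk (.mk a .z .z) (.mk .z b .z) (.mk .z .z c)

/-- The signed permutation matrices. -/
def signed : List Mat :=
  [diag .o .o .o, diag .t .o .o, diag .o .t .o, diag .o .o .t, diag .o .t .t, diag .t .o .t,
    diag .t .t .o, diag .t .t .t].flatMap fun a => pmats.map fun p => a.mul p

/-- The list of the matrices preserving a frame. -/
def monoList (i : Fin 3) : List Mat :=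
  signed.map fun s => ((frameT i).mul s).mul (frameInv i)

/-- Membership in the list. -/
def inList (i : Fin 3) (m : Mat) : Bool :=
  m.force fun m => !monoOf i m || m.det.beq .z || (monoList i).any fun n => m.beq n

theorem inList_all :
    (Vec.all fun A => Vec.all fun B => Vec.all fun C =>
      inList 0 (.mk A B C) && inList 1 (.mk A B C) && inList 2 (.mk A B C)) = true := by
  decide +kernel

theorem inList_eq (i : Fin 3) (m : Mat) : inList i m = true := by
  rcases m with ⟨A, B, C⟩
  have h := Vec.forall_of_all (Vec.forall_of_all (Vec.forall_of_all inList_all A) B) C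
  simp only [Bool.and_eq_true] at h
  fin_cases i
  · exact h.1.1
  · exact h.1.2
  · exact h.2

/-- Two elements of different frames off the line generate one of no frame. -/
theorem pair_check : ∀ i k : Fin 3, i ≠ k → ((monoList i).all fun a => fixLine a ||
    ((monoList k).all fun b => fixLine b || !(fixLine (a.mul b) || mono0 (a.mul b) ||
      mono1 (a.mul b) || mono2 (a.mul b)))) = true := by
  decide +kernel

theorem frame_facts : ∀ i : Fin 3,
    (∀ v w, (frameT i).app (v.add w) = ((frameT i).app v).add ((frameT i).app w)) ∧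
    (∀ v, (frameInv i).app ((frameT i).app v) = v) ∧
    (∀ v, (frameT i).app ((frameInv i).app v) = v) ∧
    (∀ v, (frameT i).app (Mat.cyc.app v) = Mat.cyc.app ((frameT i).app v)) ∧
    (∀ v, (frameT i).app (Mat.swp.app v) = Mat.swp.app ((frameT i).app v)) ∧
    ((frameT i).app xVec = xVec ∨ (frameT i).app xVec = yVec) := by
  decide +kernel

/-- The vectors of a frame and their negatives. -/
def inFrame (i : Fin 3) (v : Vec) : Prop :=
  v = (frameT i).app eVec1 ∨ v = (frameT i).app eVec2 ∨ v = (frameT i).app eVec3 ∨
    v = negVec ((frameT i).app eVec1) ∨ v = negVec ((frameT i).app eVec2) ∨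
    v = negVec ((frameT i).app eVec3)

instance (i : Fin 3) : DecidablePred (inFrame i) := fun _ => inferInstanceAs (Decidable (_ ∨ _))

/-- The six signed coordinate vectors. -/
def isUnitVec (v : Vec) : Prop :=
  v = eVec1 ∨ v = eVec2 ∨ v = eVec3 ∨ v = negVec eVec1 ∨ v = negVec eVec2 ∨ v = negVec eVec3

instance : DecidablePred isUnitVec := fun _ => inferInstanceAs (Decidable (_ ∨ _))

theorem frame_units : ∀ i v, inFrame i ((frameT i).app v) → isUnitVec v := by decide +kernel

theorem monoList_units : ∀ i, ∀ m ∈ monoList i, ∀ v, isUnitVec v →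
    inFrame i (m.app ((frameT i).app v)) := by decide +kernel

theorem units_mono (m : Mat) (h1 : isUnitVec (m.app eVec1)) (h2 : isUnitVec (m.app eVec2))
    (h3 : isUnitVec (m.app eVec3)) : mono0 m = true := by
  rcases m with ⟨A, B, C⟩
  have key : (∀ v : Vec, isUnitVec v → (v.beq (.mk .o .z .z) || v.beq (.mk .z .o .z) ||
      v.beq (.mk .z .z .o) || v.beq (Vec.smul .t (.mk .o .z .z)) ||
      v.beq (Vec.smul .t (.mk .z .o .z)) || v.beq (Vec.smul .t (.mk .z .z .o))) = true) := by
    decide +kernel
  simp only [mono0, monoAt]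
  rw [Bool.and_eq_true, Bool.and_eq_true]
  exact ⟨⟨key _ h1, key _ h2⟩, key _ h3⟩

/-- A signed permutation of the stabiliser preserves every frame. -/
def pmCheck (m : Mat) : Bool := !isPM m || (mono0 m && mono1 m && mono2 m)

theorem pmCheck_all :
    (Vec.all fun A => Vec.all fun B => Vec.all fun C => pmCheck (.mk A B C)) = true := by
  decide +kernel

theorem monoOf_of_isPM {m : Mat} (h : isPM m = true) (i : Fin 3) : monoOf i m = true := by
  rcases m with ⟨A, B, C⟩
  have h' := Vec.forall_of_all (Vec.forall_of_all (Vec.forall_of_all pmCheck_all A) B) C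
  simp only [pmCheck, h, Bool.not_true, Bool.false_or, Bool.and_eq_true] at h'
  fin_cases i
  · exact h'.1.1
  · exact h'.1.2
  · exact h'.2

end CfsgLib.SymNineRecog
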