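import Cfsg.Agent.SymNineRecog.Local
import Cfsg.Agent.SymNineRecog.FrameCheck

/-!
# The automiser of the base consists of signed permutation matrices

After a change of coordinates commuting with `c` and `s`, every element of `H` permutes the three
coordinate lines of the base.
-/

set_option autoImplicit false
set_option linter.unusedSectionVars false

namespace CfsgLib.SymNineRecog

set_option maxRecDepth 100000

universe u

instance : Inhabited Vec := ⟨oVec⟩

namespace Setup

variable {G : Type u} [Group G] [Finite G] (d : Setup G)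

/-- The action of an element of `H` on the coordinates. -/
noncomputable def act (g : G) (v : Vec) : Vec := Function.invFun d.el (g * d.el v * g⁻¹)

/-- The matrix of an element of `H`. -/
noncomputable def mat (g : G) : Mat := .mk (d.act g eVec1) (d.act g eVec2) (d.act g eVec3)

theorem act_spec {g : G} (hg : g ∈ d.H) (v : Vec) : d.el (d.act g v) = g * d.el v * g⁻¹ :=
  Function.invFun_eq (d.mem_H.1 hg v)

theorem act_eq {g : G} (hg : g ∈ d.H) {v w : Vec} (h : g * d.el v * g⁻¹ = d.el w) :
    d.act g v = w := d.el_inj (by rw [d.act_spec hg, h])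

theorem act_mul {g h : G} (hg : g ∈ d.H) (hh : h ∈ d.H) (v : Vec) :
    d.act (g * h) v = d.act g (d.act h v) := by
  refine d.act_eq (mul_mem hg hh) ?_
  rw [d.act_spec hg, d.act_spec hh]
  group

theorem act_add {g : G} (hg : g ∈ d.H) (v w : Vec) :
    d.act g (v.add w) = (d.act g v).add (d.act g w) := by
  refine d.act_eq hg ?_
  rw [d.el_add (d.act g v), d.act_spec hg, d.act_spec hg, d.el_add]
  group

theorem act_zero {g : G} (hg : g ∈ d.H) : d.act g oVec = oVec :=
  d.act_eq hg (by rw [d.el_zero]; simp)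

theorem act_smul {g : G} (hg : g ∈ d.H) (a : T3) (v : Vec) :
    d.act g (Vec.smul a v) = Vec.smul a (d.act g v) := by
  obtain ⟨-, -, -, -, h0, h1, h2⟩ := vec_facts.1 v
  obtain ⟨-, -, -, -, h0', h1', h2'⟩ := vec_facts.1 (d.act g v)
  cases a
  · rw [h0, h0', d.act_zero hg]
  · rw [h1, h1']
  · change d.act g (negVec v) = negVec _
    rw [← h2, ← h2', d.act_add hg]

theorem mat_app {g : G} (hg : g ∈ d.H) (v : Vec) : (d.mat g).app v = d.act g v := by
  obtain ⟨a, b, c⟩ := v
  conv_rhs => rw [mat_facts.2.1 a b c]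
  rw [d.act_add hg, d.act_add hg, d.act_smul hg, d.act_smul hg, d.act_smul hg]
  rfl

theorem mat_mul {g h : G} (hg : g ∈ d.H) (hh : h ∈ d.H) :
    d.mat (g * h) = (d.mat g).mul (d.mat h) := by
  change Mat.mk _ _ _ = Mat.mk ((d.mat g).app (d.act h eVec1)) _ _
  simp only [d.act_mul hg hh, d.mat_app hg]

theorem mat_one : d.mat 1 = Mat.one := by
  have h : ∀ v, d.act 1 v = v := fun v => d.act_eq (one_mem _) (by simp)
  simp only [mat, h]
  rfl

theorem mat_of (t : Tri) : d.mat (d.of t) = pmat t.2.1 t.2.2 := by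
  have h : ∀ v, d.act (d.of t) v = tact t.2.1 t.2.2 v := fun v =>
    d.act_eq (d.of_mem_H t) (by rw [d.of_act, mul_inv_cancel_right])
  simp only [mat, h]
  rfl

theorem mat_c : d.mat d.c = Mat.cyc := by
  rw [show d.c = d.of (oVec, 1, 0) by simp [Frame.of, d.el_zero], d.mat_of]
  exact pmat_facts.2.2.2.1

theorem mat_s : d.mat d.s = Mat.swp := by
  rw [show d.s = d.of (oVec, 0, 1) by simp [Frame.of, d.el_zero], d.mat_of]
  exact pmat_facts.2.2.2.2.1

theorem act_x_iff {g : G} (hg : g ∈ d.H) : d.act g xVec = xVec ↔ g * d.x = d.x * g := by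
  refine ⟨fun h => ?_, fun h => d.act_eq hg ?_⟩
  · have h' := d.act_spec hg xVec
    rw [h] at h'
    exact mul_inv_eq_iff_eq_mul.1 h'.symm
  · show g * d.x * g⁻¹ = d.x
    rw [h, mul_inv_cancel_right]

/-- The elements fixing `x` are permutation matrices. -/
theorem mat_mem_pmats {g : G} (hg : g ∈ d.H) (h : (d.mat g).app xVec = xVec) :
    d.mat g ∈ pmats := by
  rw [d.mat_app hg] at h
  obtain ⟨t, rfl⟩ := d.mem_cent_iff.1 ((d.act_x_iff hg).1 h)
  rw [d.mat_of]
  exact pmat_facts.1 _ _

theorem eq_of_mat_one {g : G} (hg : g ∈ d.H) (h : d.mat g = Mat.one) : g ∈ d.J := by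
  refine d.centJ fun v => mul_inv_eq_iff_eq_mul.1 ?_
  rw [← d.act_spec hg, ← d.mat_app hg, h, mat_facts.1]

theorem mat_det {g : G} (hg : g ∈ d.H) : (d.mat g).det.beq .z = false := by
  by_contra hd
  rw [Bool.not_eq_false] at hd
  have h := (checks_eq (d.mat g)).1
  simp only [ordCheck, Mat.force_eq, hd, if_true, Bool.not_eq_true'] at h
  have hall : Vec.all (fun v => v.beq oVec || !((d.mat g).app v).beq oVec) = true := by
    have hv : ∀ v, (v.beq oVec || !((d.mat g).app v).beq oVec) = true := by
      intro v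
      by_cases hv : v = oVec
      · simp [hv, Vec.beq_iff]
      · simp only [Bool.or_eq_true, Bool.not_eq_true']
        right
        rw [Bool.eq_false_iff]
        intro e
        rw [Vec.beq_iff, d.mat_app hg] at e
        refine hv (d.el_inj ?_)
        have h' := d.act_spec hg v
        rw [e, d.el_zero] at h'
        rw [d.el_zero]
        exact conj_eq_one_iff.1 h'.symm
    simp [Vec.all, T3.all, hv]
  rw [hall] at h
  exact Bool.noConfusion h

/-! ### The orbit of `x` -/

/-- The centraliser of `x`. -/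
def C : Subgroup G := Subgroup.centralizer ({d.x} : Set G)

theorem mem_C {g : G} : g ∈ d.C ↔ g * d.x = d.x * g := Subgroup.mem_centralizer_singleton_iff

theorem card_C : Nat.card d.C = 162 := by
  rw [← Nat.card_congr (Equiv.ofBijective
    (fun t : Tri => (⟨d.of t, d.mem_C.2 (d.mem_cent_iff.2 ⟨t, rfl⟩)⟩ : d.C))
    ⟨fun a b e => d.of_injective (congrArg Subtype.val e),
      fun ⟨g, hg⟩ => (d.mem_cent_iff.1 (d.mem_C.1 hg)).imp fun t ht => Subtype.ext ht⟩),
    Nat.card_eq_fintype_card]
  rfl

/-- The length of the orbit of `x`. -/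
noncomputable def orb : ℕ := d.C.relIndex d.H

theorem card_H : Nat.card d.H = 162 * d.orb := by
  rw [← d.card_C, ← Nat.card_congr (Subgroup.subgroupOfEquivOfLe
    (show d.C ≤ d.H from fun g hg => d.cent_le_H (d.mem_C.1 hg))).toEquiv]
  exact (Subgroup.card_mul_index _).symm

theorem orb_le : d.orb ≤ 26 := by
  let f : d.H ⧸ d.C.subgroupOf d.H → {v : Vec // v ≠ oVec} := fun q =>
    ⟨d.act (q.out : d.H) xVec, fun e => d.x_ne (conj_eq_one_iff.1 (by
      have h := d.act_spec (q.out : d.H).2 xVec
      rw [e, d.el_zero] at h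
      exact h.symm))⟩
  have hf : Function.Injective f := by
    intro p q e
    have e' : d.act (p.out : d.H) xVec = d.act (q.out : d.H) xVec := congrArg Subtype.val e
    rw [← p.out_eq', ← q.out_eq', QuotientGroup.eq]
    refine Subgroup.mem_subgroupOf.2 (d.mem_C.2 ((d.act_x_iff (p.out⁻¹ * q.out).2).1 ?_))
    rw [Subgroup.coe_mul, d.act_mul (p.out⁻¹ : d.H).2 (q.out : d.H).2, ← e',
      ← d.act_mul (p.out⁻¹ : d.H).2 (p.out : d.H).2]
    exact d.act_eq (mul_mem (p.out⁻¹ : d.H).2 (p.out : d.H).2) (by simp)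
  calc d.orb = Nat.card (d.H ⧸ d.C.subgroupOf d.H) := rfl
    _ ≤ Nat.card {v : Vec // v ≠ oVec} := Nat.card_le_card_of_injective f hf
    _ = 26 := by rw [Nat.card_eq_fintype_card]; rfl

theorem not_three_dvd_orb : ¬ 3 ∣ d.orb := by
  intro h
  refine d.not_dvd_card (dvd_trans ?_ (Subgroup.card_subgroup_dvd_card d.H))
  rw [d.card_H]
  exact (show 3 ^ 5 ∣ 162 * 3 from ⟨2, rfl⟩).trans (Nat.mul_dvd_mul_left _ h)

theorem mat_pow_two {g : G} (hg : g ∈ d.H) (n : ℕ) :
    d.mat (g ^ (2 * n)) = (d.mat (g ^ n)).mul (d.mat (g ^ n)) := by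
  rw [two_mul, pow_add, d.mat_mul (pow_mem hg n) (pow_mem hg n)]

/-- No element of `H` acts with order thirteen. -/
theorem pow_thirteen {g : G} (hg : g ∈ d.H) (h : d.mat (g ^ 13) = Mat.one) :
    d.mat g = Mat.one := by
  haveI : Fact (Nat.Prime 13) := ⟨by norm_num⟩
  -- the action on the coordinates
  let θ : d.H →* Function.End Vec :=
    { toFun := fun h => fun v => d.act h v
      map_one' := funext fun v => d.act_eq (one_mem _) (w := v) (by simp)
      map_mul' := fun a b => funext fun v => d.act_mul a.2 b.2 v }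
  let R := θ.toHomUnits.range
  have hker : ∀ a b : d.H, θ.toHomUnits a = θ.toHomUnits b ↔ d.mat a = d.mat b := by
    intro a b
    constructor
    · intro e
      have e' := congrArg (fun u : (Function.End Vec)ˣ => (u : Function.End Vec)) e
      simp only [mat]
      rw [show d.act a = d.act b from e']
    · intro e
      refine Units.ext (funext fun v => ?_)
      show d.act a v = d.act b v
      rw [← d.mat_app a.2, ← d.mat_app b.2, e]
  by_contra hne
  haveI : Finite R := Finite.of_surjective _ θ.toHomUnits.rangeRestrict_surjective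
  set q : R := θ.toHomUnits.rangeRestrict ⟨g, hg⟩ with hq
  have hq1 : q ≠ 1 := by
    intro e
    apply hne
    have := (hker ⟨g, hg⟩ 1).1 (by
      rw [map_one]; exact congrArg Subtype.val e)
    simpa [d.mat_one] using this
  have hq13 : orderOf q = 13 := by
    refine orderOf_eq_prime ?_ hq1
    rw [hq, ← map_pow]
    refine Subtype.ext ?_
    show θ.toHomUnits (⟨g, hg⟩ ^ 13) = 1
    rw [← map_one θ.toHomUnits, hker]
    simpa [d.mat_one] using h
  -- the image has order `6 * orb`
  have hcard : Nat.card R ∣ 6 * d.orb := by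
    have hJ : d.J.subgroupOf d.H ≤ θ.toHomUnits.ker := by
      rintro ⟨a, ha⟩ hj
      rw [MonoidHom.mem_ker, ← map_one θ.toHomUnits, hker]
      obtain ⟨v, rfl⟩ := (hj : a ∈ d.J)
      show d.mat (d.el v) = d.mat 1
      rw [← d.of_zero v, d.mat_of, d.mat_one]
      exact pmat_facts.2.2.2.2.2
    have h27 : 27 ∣ Nat.card θ.toHomUnits.ker := by
      have := Subgroup.card_dvd_of_le hJ
      rwa [Nat.card_congr (Subgroup.subgroupOfEquivOfLe d.J_le_H).toEquiv, d.card_J] at this
    have hmul : Nat.card θ.toHomUnits.ker * Nat.card R = 162 * d.orb := by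
      rw [← Subgroup.index_ker, Subgroup.card_mul_index, d.card_H]
    obtain ⟨k, hk⟩ := h27
    refine ⟨k, ?_⟩
    rw [hk] at hmul
    nlinarith [hmul]
  have h13 : 13 ∣ Nat.card R := hq13 ▸ orderOf_dvd_natCard q
  have horb : d.orb = 13 ∨ d.orb = 26 := by
    have h' : 13 ∣ d.orb := (Nat.Coprime.dvd_mul_left (by norm_num)).1 (h13.trans hcard)
    have := d.orb_le
    have h0 : d.orb ≠ 0 := fun e => by
      have := d.card_H
      rw [e, mul_zero] at this
      exact (Nat.card_pos (α := d.H)).ne' this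
    obtain ⟨m, hm⟩ := h'
    omega
  -- so the subgroup of order thirteen is normal
  have hle : ∀ S : Sylow 13 R, Nat.card S = 13 := by
    intro S
    obtain ⟨k, hk⟩ := IsPGroup.iff_card.1 S.2
    have h1 : 13 ∣ Nat.card S := (S.dvd_card_of_dvd_card h13)
    have h2 : Nat.card S ∣ 6 * d.orb := (Subgroup.card_subgroup_dvd_card _).trans hcard
    rw [hk] at h1 h2 ⊢
    rcases k with _ | _ | k
    · norm_num at h1
    · norm_num
    · exfalso
      have h3 : 13 ^ 2 ∣ 6 * d.orb := (pow_dvd_pow 13 (by omega)).trans h2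
      rcases horb with e | e <;> rw [e] at h3 <;> norm_num at h3
  obtain ⟨S, hS⟩ := (IsPGroup.of_card (p := 13) (n := 1)
    (G := Subgroup.zpowers q) (by rw [Nat.card_zpowers, hq13, pow_one])).exists_le_sylow
  have hSeq : (S : Subgroup R) = Subgroup.zpowers q :=
    (Subgroup.eq_of_le_of_card_ge hS (by rw [Nat.card_zpowers, hq13]; exact (hle S).le)).symm
  have hnum : Nat.card (Sylow 13 R) = 1 := by
    have h1 := card_sylow_modEq_one 13 R
    have h2 : Nat.card (Sylow 13 R) ∣ 12 := by
      have hd : Nat.card (Sylow 13 R) ∣ Nat.card R / 13 := by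
        rw [show Nat.card R / 13 = (S : Subgroup R).index by
          have := Subgroup.card_mul_index (S : Subgroup R)
          rw [show Nat.card (S : Subgroup R) = 13 from hle S] at this
          omega]
        exact S.card_dvd_index
      obtain ⟨a, ha⟩ := h13
      rw [ha, Nat.mul_div_cancel_left _ (by norm_num : 0 < 13)] at hd
      have h12 : 13 * a ∣ 13 * 12 := by
        rw [← ha]
        refine hcard.trans ?_
        rcases horb with e | e <;> rw [e] <;> norm_num
      exact hd.trans (Nat.dvd_of_mul_dvd_mul_left (by norm_num) h12)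
    have h3 := Nat.le_of_dvd (by norm_num) h2
    unfold Nat.ModEq at h1
    omega
  haveI : Subsingleton (Sylow 13 R) := (Nat.card_eq_one_iff_unique.1 hnum).1
  have hnorm : ∀ y : R, ∃ a : ℤ, y * q * y⁻¹ = q ^ a := fun y => by
    have h' : y * q * y⁻¹ ∈ (y • S : Sylow 13 R).toSubgroup := by
      rw [Sylow.coe_subgroup_smul]
      exact ⟨q, hS (Subgroup.mem_zpowers q), rfl⟩
    rw [Subsingleton.elim (y • S) S, hSeq] at h'
    exact (Subgroup.mem_zpowers_iff.1 h').imp fun a ha => ha.symm
  set γ : R := θ.toHomUnits.rangeRestrict ⟨d.c, d.c_mem_H⟩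
  set σ : R := θ.toHomUnits.rangeRestrict ⟨d.s, d.s_mem_H⟩
  have hrel : σ * γ = γ * γ * σ := by
    rw [← map_mul, ← map_mul, ← map_mul]
    exact congrArg _ (Subtype.ext d.s_c)
  have hcomm : γ * q = q * γ := by
    obtain ⟨a, ha⟩ := hnorm γ
    obtain ⟨b, hb⟩ := hnorm σ
    have hz : ∀ (y : R) (m : ℤ), y * q ^ m * y⁻¹ = (y * q * y⁻¹) ^ m := fun y m =>
      (conj_zpow (i := m) (a := y) (b := q)).symm
    have h1 : σ * γ * q * (σ * γ)⁻¹ = q ^ (b * a) := by
      rw [show σ * γ * q * (σ * γ)⁻¹ = σ * (γ * q * γ⁻¹) * σ⁻¹ by group, ha, hz, hb, ← zpow_mul]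
    have h2 : γ * γ * σ * q * (γ * γ * σ)⁻¹ = q ^ (a * a * b) := by
      rw [show γ * γ * σ * q * (γ * γ * σ)⁻¹ = γ * (γ * (σ * q * σ⁻¹) * γ⁻¹) * γ⁻¹ by group, hb,
        hz, ha, ← zpow_mul, hz, ha, ← zpow_mul, mul_assoc]
    rw [hrel, h2] at h1
    have hqb : Subgroup.zpowers (q ^ b) = Subgroup.zpowers q := by
      refine Subgroup.eq_of_le_of_card_ge (Subgroup.zpowers_le.2 ⟨b, rfl⟩) ?_
      rw [Nat.card_zpowers, Nat.card_zpowers, ← hb]
      exact (orderOf_injective (MulAut.conj σ).toMonoidHom (MulAut.conj σ).injective q).ge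
    have hfix : γ * (q ^ b) * γ⁻¹ = q ^ b := by
      rw [hz, ha, ← zpow_mul]
      refine (MulAut.conj γ).injective ?_
      show γ * q ^ (a * b) * γ⁻¹ = γ * q ^ b * γ⁻¹
      rw [hz, hz, ha, ← zpow_mul, ← zpow_mul]
      convert h1 using 2 <;> ring
    obtain ⟨e, he⟩ := Subgroup.mem_zpowers_iff.1 (hqb.symm ▸ Subgroup.mem_zpowers q :
      q ∈ Subgroup.zpowers (q ^ b))
    refine mul_inv_eq_iff_eq_mul.1 ?_
    conv_lhs => rw [← he]
    rw [← (conj_zpow (i := e) (a := γ) (b := q ^ b)), hfix, he]
  -- hence `q` fixes `x` up to sign, and so fixes it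
  have hcs : ∀ v, d.act d.c (d.act g v) = d.act g (d.act d.c v) := by
    intro v
    have e := congrArg (fun u : R => ((u : (Function.End Vec)ˣ) : Function.End Vec) v) hcomm
    exact e
  have hcx : d.act d.c xVec = xVec := (d.act_x_iff d.c_mem_H).2 (d.P_comm_x d.c_mem_P)
  have hline : ∀ v, Mat.cyc.app v = v → v = oVec ∨ v = xVec ∨ v = yVec := by decide +kernel
  have hgx : d.act g xVec = xVec := by
    rcases hline (d.act g xVec) (by rw [← d.mat_c, d.mat_app d.c_mem_H, hcs, hcx]) with e | e | e
    · exfalso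
      have h' := d.act_spec hg xVec
      rw [e, d.el_zero] at h'
      exact d.x_ne (conj_eq_one_iff.1 h'.symm)
    · exact e
    · exfalso
      have hy : d.act g yVec = xVec := by
        rw [show yVec = Vec.smul .t xVec from rfl, d.act_smul hg, e]
        rfl
      have hev : ∀ n : ℕ, d.act (g ^ (2 * n)) xVec = xVec := by
        intro n
        induction n with
        | zero => exact d.act_eq (by simp) (by simp [Frame.x])
        | succ n ih =>
          rw [show g ^ (2 * (n + 1)) = g ^ (2 * n) * (g * g) by rw [← pow_two, ← pow_add]; ring_nf,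
            d.act_mul (pow_mem hg _) (mul_mem hg hg), d.act_mul hg hg, e, hy, ih]
      have h' : d.act (g ^ 13) xVec = yVec := by
        rw [show g ^ 13 = g * g ^ (2 * 6) by rw [← pow_succ'], d.act_mul hg (pow_mem hg _), hev, e]
      rw [← d.mat_app (pow_mem hg _), h, mat_facts.1] at h'
      exact absurd h' (by decide)
  obtain ⟨t, ht⟩ := d.mem_cent_iff.1 ((d.act_x_iff hg).1 hgx)
  have h6 : ∀ p ∈ pmats, (((p.mul p).mul (p.mul p)).mul (p.mul p)) = Mat.one := by decide +kernel
  have hq6 : q ^ 6 = 1 := by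
    rw [hq, ← map_pow]
    refine Subtype.ext ?_
    show θ.toHomUnits (⟨g, hg⟩ ^ 6) = 1
    rw [← map_one θ.toHomUnits, hker]
    show d.mat (g ^ 6) = d.mat 1
    rw [show g ^ 6 = g * g * (g * g) * (g * g) by simp [pow_succ, mul_assoc],
      d.mat_mul (mul_mem (mul_mem hg hg) (mul_mem hg hg)) (mul_mem hg hg),
      d.mat_mul (mul_mem hg hg) (mul_mem hg hg), d.mat_mul hg hg, d.mat_one]
    exact h6 _ (by rw [← ht, d.mat_of]; exact pmat_facts.1 _ _)
  have := orderOf_dvd_of_pow_eq_one hq6
  rw [hq13] at this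
  norm_num at this

/-- Every element of `H` passes the test on one power. -/
theorem okPow_mat {g : G} (hg : g ∈ d.H) : okPow (d.mat g) = true := by
  by_cases hfl : fixLine (d.mat g) = true
  · simp only [okPow, hfl, Bool.not_true, Bool.false_or]
    simp only [fixLine, Bool.or_eq_true, Vec.beq_iff] at hfl
    rcases hfl with h | h
    · exact (pmat_facts.2.2.1 _ (d.mat_mem_pmats hg h)).1
    have hc := (checks_eq (d.mat g)).2
    simp only [minusCheck, Bool.or_eq_true, Bool.not_eq_true'] at hc
    refine hc.resolve_left ?_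
    rw [Bool.not_eq_false]
    have hneg : ∀ v, negVec (negVec v) = v := fun v => (vec_facts.1 v).2.2.2.1
    have hgy : d.act g yVec = xVec := by
      rw [show yVec = negVec xVec by decide, show negVec xVec = Vec.smul .t xVec from rfl,
        d.act_smul hg, ← d.mat_app hg, h]
      decide
    have hsq : (d.mat (g * g)).app xVec = xVec := by
      rw [d.mat_app (mul_mem hg hg), d.act_mul hg hg, ← d.mat_app hg xVec, h, hgy]
    have hconj : ∀ a ∈ d.H, d.act a xVec = xVec → (d.mat (g * a * g⁻¹)).app xVec = xVec := by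
      intro a ha hax
      have hgi : d.act g⁻¹ xVec = yVec := by
        refine d.act_eq (inv_mem hg) ?_
        have h' := d.act_spec hg yVec
        rw [hgy] at h'
        rw [h']; group
      rw [d.mat_app (mul_mem (mul_mem hg ha) (inv_mem hg)),
        d.act_mul (mul_mem hg ha) (inv_mem hg), hgi, d.act_mul hg ha,
        show yVec = negVec xVec by decide, show negVec xVec = Vec.smul .t xVec from rfl,
        d.act_smul ha, hax]
      exact hgy
    have hmem : ∀ a ∈ d.H, d.act a xVec = xVec →
        pmats.any (fun p => ((d.mat g).mul (d.mat a)).beq (p.mul (d.mat g))) = true := by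
      intro a ha hax
      refine List.any_eq_true.2 ⟨d.mat (g * a * g⁻¹),
        d.mat_mem_pmats (mul_mem (mul_mem hg ha) (inv_mem hg)) (hconj a ha hax), ?_⟩
      rw [Mat.beq_iff, ← d.mat_mul hg ha, ← d.mat_mul (mul_mem (mul_mem hg ha) (inv_mem hg)) hg,
        inv_mul_cancel_right]
    simp only [minusCond, Mat.force_eq, Bool.and_eq_true, Bool.not_eq_true']
    refine ⟨⟨⟨⟨(Vec.beq_iff _ _).2 h, d.mat_det hg⟩, ?_⟩, ?_⟩, ?_⟩
    · refine List.any_eq_true.2 ⟨_, d.mat_mem_pmats (mul_mem hg hg) hsq, ?_⟩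
      rw [Mat.beq_iff, d.mat_mul hg hg]
    · rw [← d.mat_c]
      exact hmem _ d.c_mem_H ((d.act_x_iff d.c_mem_H).2 (d.P_comm_x d.c_mem_P))
    · rw [← d.mat_s]
      refine hmem _ d.s_mem_H ((d.act_x_iff d.s_mem_H).2 ?_)
      exact d.mem_cent_iff.2 ⟨(oVec, 0, 1), by simp [Frame.of, d.el_zero]⟩
  · simp [okPow, hfl]

/-- Every element of `H` passes the test. -/
theorem ok_mat {g : G} (hg : g ∈ d.H) : ok (d.mat g) = true := by
  have hp : ∀ n, g ^ n ∈ d.H := pow_mem hg
  have h2 : (d.mat g).mul (d.mat g) = d.mat (g ^ 2) := by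
    rw [pow_two, d.mat_mul hg hg]
  have h3 : (d.mat (g ^ 2)).mul (d.mat g) = d.mat (g ^ 3) := by
    rw [← d.mat_mul (hp 2) hg, ← pow_succ]
  have hd : ∀ n, (d.mat (g ^ n)).mul (d.mat (g ^ n)) = d.mat (g ^ (2 * n)) := fun n =>
    (d.mat_pow_two hg n).symm
  have hm : ∀ m n, (d.mat (g ^ m)).mul (d.mat (g ^ n)) = d.mat (g ^ (m + n)) := fun m n => by
    rw [← d.mat_mul (hp m) (hp n), pow_add]
  simp only [ok, Mat.force_eq, h2, h3, hd, hm, Bool.and_eq_true, Nat.reduceMul, Nat.reduceAdd]
  refine ⟨d.okPow_mat hg, d.okPow_mat (hp 2), d.okPow_mat (hp 3), d.okPow_mat (hp 4),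
    (Mat.beq_iff _ _).2 ?_⟩
  have hc := (checks_eq (d.mat g)).1
  simp only [ordCheck, Mat.force_eq, d.mat_det hg, Bool.false_eq_true, if_false, h2, hd, hm,
    Bool.or_eq_true, Mat.beq_iff, Nat.reduceMul, Nat.reduceAdd] at hc
  rcases hc with h | h
  · exact h
  have h26 : d.mat ((g ^ 2) ^ 13) = Mat.one := by rw [← pow_mul]; exact h
  have h13 := d.pow_thirteen (hp 2) h26
  have hpow : ∀ n, d.mat (g ^ (2 * n)) = Mat.one := by
    intro n
    induction n with
    | zero => simpa using d.mat_one
    | succ n ih =>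
      rw [mul_add, mul_one, pow_add, d.mat_mul (hp _) (hp 2), ih, h13]
      decide
  exact hpow 48

/-- An element of `H` is a permutation of the stabiliser of the line or preserves a frame. -/
theorem mat_classified {g : G} (hg : g ∈ d.H) :
    isPM (d.mat g) = true ∨ ∃ i, monoOf i (d.mat g) = true := by
  have hS := d.s_mem_H
  have hC := d.c_mem_H
  have hw : okWords (d.mat g) = true := by
    simp only [okWords, Mat.force_eq, ← d.mat_s, ← d.mat_c, Bool.and_eq_true]
    repeat' first
      | refine ⟨?_, ?_⟩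
      | rw [← d.mat_mul (by aesop (add safe apply mul_mem)) (by aesop (add safe apply mul_mem))]
    all_goals exact d.ok_mat (by aesop (add safe apply mul_mem))
  have h := classified_eq (d.mat g)
  simp only [classified, hw, Bool.not_true, Bool.or_false, d.mat_det hg, Bool.false_or,
    Bool.or_eq_true] at h
  rcases h with ((h | h) | h) | h
  · left
    have := d.okPow_mat hg
    simpa [okPow, h] using this
  · exact Or.inr ⟨0, h⟩
  · exact Or.inr ⟨1, h⟩
  · exact Or.inr ⟨2, h⟩

/-- All elements of `H` preserve one frame. -/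
theorem exists_monoOf : ∃ i, ∀ g ∈ d.H, monoOf i (d.mat g) = true := by
  by_cases hall : ∀ g ∈ d.H, fixLine (d.mat g) = true
  · refine ⟨0, fun g hg => monoOf_of_isPM ?_ 0⟩
    have := d.okPow_mat hg
    simpa [okPow, hall g hg] using this
  push Not at hall
  obtain ⟨g, hg, hgl⟩ := hall
  have hpm : ∀ k ∈ d.H, fixLine (d.mat k) = true → isPM (d.mat k) = true := fun k hk h => by
    have := d.okPow_mat hk
    simpa [okPow, h] using this
  have hfix : ∀ m : Mat, isPM m = true → m.det.beq .z = false → ∀ i, monoOf i m = true :=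
    fun m h _ i => monoOf_of_isPM h i
  rcases d.mat_classified hg with h | ⟨i, hi⟩
  · exfalso
    refine hgl ?_
    have key : ∀ p : Mat, isPM p = true → fixLine p = true := by
      intro p hp
      rcases p with ⟨A, B, C⟩
      have hv : ∀ A B C : Vec, isPM (.mk A B C) = true → fixLine (.mk A B C) = true := by
        decide +kernel
      exact hv A B C hp
    exact key _ h
  refine ⟨i, fun k hk => ?_⟩
  by_cases hkl : fixLine (d.mat k) = true
  · exact monoOf_of_isPM (hpm k hk hkl) i
  rcases d.mat_classified hk with h | ⟨j, hj⟩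
  · exact monoOf_of_isPM h i
  by_cases hij : j = i
  · exact hij ▸ hj
  exfalso
  have hmem : ∀ (m : Mat) (i : Fin 3), monoOf i m = true → m.det.beq .z = false →
      m ∈ monoList i := by
    intro m i hm hdet
    have h := inList_eq i m
    simp only [inList, Mat.force_eq, hm, Bool.not_true, hdet, Bool.false_or, List.any_eq_true,
      Mat.beq_iff] at h
    obtain ⟨n, hn, rfl⟩ := h
    exact hn
  have h := List.all_eq_true.1 (pair_check i j (Ne.symm hij)) _
    (hmem _ i hi (d.mat_det hg))
  simp only [hgl, Bool.false_or, List.all_eq_true] at h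
  have h' := h _ (hmem _ j hj (d.mat_det hk))
  simp only [hkl, Bool.false_or, Bool.not_eq_true', ← d.mat_mul hg hk, Bool.or_eq_false_iff] at h'
  rcases d.mat_classified (mul_mem hg hk) with e | ⟨l, e⟩
  · exact Bool.noConfusion ((monoOf_of_isPM e 0).symm.trans h'.1.1.2)
  · fin_cases l
    · exact Bool.noConfusion (e.symm.trans h'.1.1.2)
    · exact Bool.noConfusion (e.symm.trans h'.1.2)
    · exact Bool.noConfusion (e.symm.trans h'.2)

/-- The coordinates can be chosen so that `H` consists of signed permutations. -/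
theorem exists_mono : ∃ d' : Setup G, d'.J = d.J ∧ (d'.x = d.x ∨ d'.x = d.x⁻¹) ∧
    ∀ g ∈ d'.H, mono0 (d'.mat g) = true := by
  obtain ⟨i, hi⟩ := d.exists_monoOf
  obtain ⟨hTadd, hTl, hTr, hTc, hTs, hTx⟩ := frame_facts i
  have hx' : d.el ((frameT i).app xVec) = d.x ∨ d.el ((frameT i).app xVec) = d.x⁻¹ := by
    rcases hTx with e | e <;> rw [e]
    · exact Or.inl rfl
    · right
      rw [show yVec = negVec xVec by decide, d.el_neg]
      rfl
  let f : Frame G :=
    { el := fun v => d.el ((frameT i).app v)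
      el_add := fun v w => by rw [hTadd, d.el_add]
      el_inj := fun v w e => by rw [← hTl v, d.el_inj e, hTl]
      c := d.c, s := d.s, c_cube := d.c_cube, s_sq := d.s_sq, s_c := d.s_c
      conj_c := fun v => by rw [hTc, d.conj_c]
      conj_s := fun v => by rw [hTs, d.conj_s]
      cent := fun g hg => by
        have hg' : g * d.el xVec = d.el xVec * g := by
          rcases hx' with e | e <;> simp only [e] at hg
          · exact hg
          · have := (Commute.inv_right (hg : Commute g d.x⁻¹))
            rwa [inv_inv] at this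
        obtain ⟨v, a, b, e⟩ := d.cent g hg'
        exact ⟨(frameInv i).app v, a, b, by simp only [hTr]; exact e⟩ }
  let d' : Setup G :=
    { toFrame := f
      sig := fun K h3 hK => d.sig K h3 fun v k hk => by
        have := hK ((frameInv i).app v) k hk
        simp only [f, hTr] at this
        exact this }
  have hJ : d'.J = d.J := by
    ext g
    exact ⟨fun ⟨v, e⟩ => ⟨_, e⟩, fun ⟨v, e⟩ => ⟨(frameInv i).app v, by simp [d', f, hTr, e]⟩⟩
  refine ⟨d', hJ, hx', fun g hg => ?_⟩
  have hgd : g ∈ d.H := by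
    rw [Setup.H, ← hJ]
    exact hg
  have hm : d.mat g ∈ monoList i := by
    have h := inList_eq i (d.mat g)
    simp only [inList, Mat.force_eq, hi g hgd, Bool.not_true, d.mat_det hgd, Bool.false_or,
      List.any_eq_true, Mat.beq_iff] at h
    obtain ⟨n, hn, e⟩ := h
    exact e ▸ hn
  have key : ∀ v, isUnitVec v → isUnitVec ((d'.mat g).app v) := by
    intro v hv
    refine frame_units i _ ?_
    have e : (frameT i).app ((d'.mat g).app v) = (d.mat g).app ((frameT i).app v) := by
      refine d.el_inj ?_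
      rw [d.mat_app hgd, d.act_spec hgd]
      have := d'.act_spec hg v
      rw [← d'.mat_app hg] at this
      exact this
    rw [e]
    exact monoList_units i _ hm v hv
  exact units_mono _ (key _ (by decide)) (key _ (by decide)) (key _ (by decide))

end Setup

end CfsgLib.SymNineRecog
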