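import Cfsg.Agent.SymNineRecog.TwoSub

/-!
# The automiser is `Sym 3`
-/

set_option autoImplicit false
set_option linter.style.haveILetI false
set_option linter.unusedSectionVars false

namespace CfsgLib.SymNineRecog

set_option maxRecDepth 100000

universe u

theorem caseA_facts : sylList listA = [Mat.one, Mat.swp] ∧ centTwoCheck listA := by decide +kernel

namespace Setup

variable {G : Type u} [Group G] [Finite G] (d : Setup G)

/-- Then the base is normal. -/
theorem normal_caseA (hA : d.AutList listA) : d.J.Normal := by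
  haveI : Fact (Nat.Prime 2) := ⟨Nat.prime_two⟩
  obtain ⟨hsyl, hchk⟩ := caseA_facts
  obtain ⟨T⟩ := d.exists_twoSub hA lists_facts.2.1 lists_sub.1 1 81
    (by rw [lists_facts.2.2.2.2.2.1]; norm_num) (by decide) (by norm_num) (by rw [hsyl]; rfl)
  have hC : Subgroup.centralizer ({d.s} : Set G) ≤ d.H :=
    d.cent_invol_le d.s_mem_H d.s_sq hA (by rw [d.mat_s]; exact involCheck_A)
      fun u _ hu => d.cent_all hA allSmall_A hu
  have hmem : ∀ a ∈ T.S, a = 1 ∨ a = d.s := by
    intro a ha
    have h := T.image a ha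
    rw [hsyl] at h
    simp only [List.mem_cons, List.not_mem_nil, or_false] at h
    exact h.imp (fun e => d.eq_of_mat_eq T.isP T.le ha (one_mem _) (by rw [e, d.mat_one]))
      fun e => d.eq_of_mat_eq T.isP T.le ha T.s_mem (by rw [e, d.mat_s])
  have hs1 : d.s ≠ 1 := fun e => by
    have := d.mat_s
    rw [e, d.mat_one] at this
    exact absurd this (by decide)
  have hconj : ∀ g : G, g * d.s * g⁻¹ ∈ T.S → g * d.s * g⁻¹ = d.s := fun g hg =>
    (hmem _ hg).resolve_left fun e => hs1 (conj_eq_one_iff.1 e)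
  obtain ⟨P, hP⟩ := exists_sylow_eq T.isP T.s_mem
    (fun g hg => ⟨1, one_mem _, by rw [hconj g hg]; simp⟩)
    (fun R hR hRs hle => d.two_cent_le hA hchk lists_sub.1 hC T hR hRs lists_facts.2.1
      (by rw [lists_facts.2.2.2.2.2.1]; norm_num) hle)
  refine d.normal_of_burnside P fun g hg => ?_
  rw [hP] at hg ⊢
  refine Subgroup.mem_centralizer_iff.2 fun a ha => ?_
  have hgs := hconj g ((Subgroup.mem_normalizer_iff.1 hg d.s).1 T.s_mem)
  rcases hmem a ha with rfl | rfl
  · simp
  · exact (mul_inv_eq_iff_eq_mul.1 hgs).symm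

end Setup

end CfsgLib.SymNineRecog
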