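import Cfsg.Agent.SymNineRecog.Cases

/-!
# A Sylow 2-subgroup of `H` through a given involution
-/

set_option autoImplicit false
set_option linter.style.haveILetI false
set_option linter.unusedSectionVars false

namespace CfsgLib.SymNineRecog

set_option maxRecDepth 100000

universe u

theorem two_sixteen : ∀ m ∈ listF,
    (((m.mul m).mul (m.mul m)).mul ((m.mul m).mul (m.mul m))).mul
      (((m.mul m).mul (m.mul m)).mul ((m.mul m).mul (m.mul m))) = Mat.one →
    twoMat m = true := by decide +kernel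

theorem lists_sub :
    (∀ m ∈ listA, m ∈ listF) ∧ (∀ m ∈ listB, m ∈ listF) ∧ ∀ m ∈ listE, m ∈ listF := by
  decide +kernel

/-- The elements commuting with the transposition of `2`-power order. -/
def centTwoCheck (L : List Mat) : Prop :=
  ∀ m ∈ L, m.mul Mat.swp = Mat.swp.mul m → twoMat m = true → m ∈ sylList L

instance (L : List Mat) : Decidable (centTwoCheck L) :=
  inferInstanceAs (Decidable (∀ _ ∈ L, _))

/-- A Sylow 2-subgroup of `H` through `s`, with its matrices. -/
structure TwoSub {G : Type u} [Group G] [Finite G] (d : Setup G) (L : List Mat) where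
  S : Subgroup G
  isP : IsPGroup 2 S
  le : S ≤ d.H
  s_mem : d.s ∈ S
  image : ∀ a ∈ S, d.mat a ∈ sylList L
  onto : ∀ m ∈ sylList L, ∃ a ∈ S, d.mat a = m
  card : Nat.card S = (sylList L).length

namespace Setup

variable {G : Type u} [Group G] [Finite G] (d : Setup G)

theorem exists_twoSub {L : List Mat} (hA : d.AutList L) (hnd : L.Nodup)
    (hsub : ∀ m ∈ L, m ∈ listF) (n m : ℕ) (hlen : 27 * L.length = 2 ^ n * m) (hm : Odd m)
    (hn : n ≤ 4) (hsyl : (sylList L).length = 2 ^ n) :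
    Nonempty (TwoSub d L) := by
  haveI : Fact (Nat.Prime 2) := ⟨Nat.prime_two⟩
  have hp : IsPGroup 2 (Subgroup.zpowers (⟨d.s, d.s_mem_H⟩ : d.H)) := by
    obtain ⟨i, -, hi⟩ := (Nat.dvd_prime_pow Nat.prime_two).1
      (show orderOf (⟨d.s, d.s_mem_H⟩ : d.H) ∣ 2 ^ 1 by
        rw [pow_one]; exact orderOf_dvd_of_pow_eq_one (Subtype.ext (by simp [pow_two, d.s_sq])))
    exact IsPGroup.of_card (n := i) (by rw [Nat.card_zpowers, hi])
  obtain ⟨P, hP⟩ := hp.exists_le_sylow
  have hcardP : Nat.card (P : Subgroup d.H) = 2 ^ n := by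
    rw [Sylow.card_eq_multiplicity, d.card_H_list hA hnd, hlen,
      Nat.factorization_mul (pow_ne_zero n (by norm_num)) (fun e => by simp [e] at hm),
      Finsupp.add_apply, Nat.Prime.factorization_pow Nat.prime_two, Finsupp.single_eq_same,
      Nat.factorization_eq_zero_of_not_dvd (fun h => by
        have h1 := Nat.odd_iff.1 hm
        omega), add_zero]
  set S := (P : Subgroup d.H).map d.H.subtype with hS
  have hSp : IsPGroup 2 S := P.2.map _
  have hSH : S ≤ d.H := Subgroup.map_subtype_le _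
  have hsS : d.s ∈ S := ⟨⟨d.s, d.s_mem_H⟩, hP (Subgroup.mem_zpowers _), rfl⟩
  have hcard : Nat.card S = 2 ^ n := by
    rw [hS, Subgroup.card_map_of_injective d.H.subtype_injective]; exact hcardP
  have h16 : ∀ a ∈ S, twoMat (d.mat a) = true := by
    intro a ha
    refine two_sixteen _ (hsub _ (hA.1 a (hSH ha))) ?_
    have h : a ^ 16 = 1 := by
      have h1 : a ^ Nat.card S = 1 :=
        congrArg Subtype.val (pow_card_eq_one' (x := (⟨a, ha⟩ : S)))
      rw [hcard] at h1
      obtain ⟨k, hk⟩ := Nat.pow_dvd_pow 2 hn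
      rw [show 16 = 2 ^ 4 from rfl, hk, pow_mul, h1, one_pow]
    have hH := hSH ha
    rw [← d.mat_mul hH hH, ← d.mat_mul (mul_mem hH hH) (mul_mem hH hH),
      ← d.mat_mul (mul_mem (mul_mem hH hH) (mul_mem hH hH))
        (mul_mem (mul_mem hH hH) (mul_mem hH hH)),
      ← d.mat_mul (mul_mem (mul_mem (mul_mem hH hH) (mul_mem hH hH))
          (mul_mem (mul_mem hH hH) (mul_mem hH hH)))
        (mul_mem (mul_mem (mul_mem hH hH) (mul_mem hH hH))
          (mul_mem (mul_mem hH hH) (mul_mem hH hH))),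
      show a * a * (a * a) * (a * a * (a * a)) * (a * a * (a * a) * (a * a * (a * a))) = a ^ 16 by
        simp [pow_succ, mul_assoc], h, d.mat_one]
  have himg : ∀ a ∈ S, d.mat a ∈ sylList L := fun a ha => by
    refine List.mem_filter.2 ⟨hA.1 a (hSH ha), ?_⟩
    rw [← d.mat_s, ← d.mat_mul (hSH ha) d.s_mem_H, ← d.mat_mul d.s_mem_H (hSH ha),
      h16 a ha, h16 _ (mul_mem ha hsS), h16 _ (mul_mem hsS ha)]
    rfl
  refine ⟨⟨S, hSp, hSH, hsS, himg, fun m hm' => ?_, hcard.trans hsyl.symm⟩⟩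
  classical
  let f : S → {m : Mat // m ∈ sylList L} := fun a => ⟨d.mat a, himg a a.2⟩
  have hinj : Function.Injective f := fun a b e =>
    Subtype.ext (d.eq_of_mat_eq hSp hSH a.2 b.2 (congrArg Subtype.val e))
  haveI : Finite {m : Mat // m ∈ sylList L} := by
    haveI : Fintype {m : Mat // m ∈ sylList L} := Fintype.subtype (sylList L).toFinset (by simp)
    infer_instance
  have hb : Function.Bijective f := (Nat.bijective_iff_injective_and_card f).2 ⟨hinj, by
    rw [Nat.subtype_card (sylList L).toFinset (fun m => List.mem_toFinset),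
      List.toFinset_card_of_nodup (show (sylList L).Nodup from hnd.filter _), hcard, hsyl]⟩
  obtain ⟨a, ha⟩ := hb.2 ⟨m, hm'⟩
  exact ⟨a, a.2, congrArg Subtype.val ha⟩

/-- Only the obvious `2`-subgroups centralise `s`. -/
theorem two_cent_le {L : List Mat} (hA : d.AutList L) (hchk : centTwoCheck L)
    (hsub : ∀ m ∈ L, m ∈ listF)
    (hC : Subgroup.centralizer ({d.s} : Set G) ≤ d.H) (T : TwoSub d L) {R : Subgroup G}
    (hR : IsPGroup 2 R) (hRs : ∀ r ∈ R, r * d.s = d.s * r) (hnd : L.Nodup) (h48 : L.length ∣ 48)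
    (hle : T.S ⊓ Subgroup.centralizer ({d.s} : Set G) ≤ R) : R ≤ T.S := by
  have hRH : R ≤ d.H := fun r hr => hC (Subgroup.mem_centralizer_singleton_iff.2 (hRs r hr))
  have h8 : ∀ r ∈ R, r ^ 16 = 1 := by
    intro r hr
    obtain ⟨k, hk⟩ := hR ⟨r, hr⟩
    have hk' : r ^ 2 ^ k = 1 := congrArg Subtype.val hk
    obtain ⟨j, -, hj⟩ := (Nat.dvd_prime_pow Nat.prime_two).1 (orderOf_dvd_of_pow_eq_one hk')
    have hd : orderOf r ∣ 27 * 48 := by
      have h1 := Subgroup.orderOf_dvd_natCard d.H (hRH hr)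
      rw [d.card_H_list hA hnd] at h1
      exact h1.trans (Nat.mul_dvd_mul_left 27 h48)
    rw [hj] at hd
    have h4 : j ≤ 4 := by
      by_contra h
      exact absurd ((Nat.pow_dvd_pow 2 (show 5 ≤ j by omega)).trans hd) (by norm_num)
    refine orderOf_dvd_iff_pow_eq_one.1 ?_
    rw [hj, show 16 = 2 ^ 4 from rfl]
    exact Nat.pow_dvd_pow 2 h4
  intro r hr
  have hrH := hRH hr
  have htwo : twoMat (d.mat r) = true := by
    refine two_sixteen _ (hsub _ (hA.1 r hrH)) ?_
    rw [← d.mat_mul hrH hrH, ← d.mat_mul (mul_mem hrH hrH) (mul_mem hrH hrH),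
      ← d.mat_mul (mul_mem (mul_mem hrH hrH) (mul_mem hrH hrH))
        (mul_mem (mul_mem hrH hrH) (mul_mem hrH hrH)),
      ← d.mat_mul (mul_mem (mul_mem (mul_mem hrH hrH) (mul_mem hrH hrH))
          (mul_mem (mul_mem hrH hrH) (mul_mem hrH hrH)))
        (mul_mem (mul_mem (mul_mem hrH hrH) (mul_mem hrH hrH))
          (mul_mem (mul_mem hrH hrH) (mul_mem hrH hrH))),
      show r * r * (r * r) * (r * r * (r * r)) * (r * r * (r * r) * (r * r * (r * r))) = r ^ 16 by
        simp [pow_succ, mul_assoc], h8 r hr, d.mat_one]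
  have hm : d.mat r ∈ sylList L := hchk _ (hA.1 r hrH) (by
    rw [← d.mat_s, ← d.mat_mul hrH d.s_mem_H, ← d.mat_mul d.s_mem_H hrH, hRs r hr]) htwo
  obtain ⟨a, ha, e⟩ := T.onto _ hm
  have has : a * d.s = d.s * a := by
    refine d.eq_of_mat_eq T.isP T.le (mul_mem ha T.s_mem) (mul_mem T.s_mem ha) ?_
    rw [d.mat_mul (T.le ha) d.s_mem_H, d.mat_mul d.s_mem_H (T.le ha), e, ← d.mat_mul hrH d.s_mem_H,
      ← d.mat_mul d.s_mem_H hrH, hRs r hr]
  have haR : a ∈ R := hle ⟨ha, Subgroup.mem_centralizer_singleton_iff.2 has⟩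
  rwa [d.eq_of_mat_eq hR hRH hr haR e.symm]

/-- A Sylow 2-subgroup central in its normaliser makes the base normal. -/
theorem normal_of_burnside (P : Sylow 2 G)
    (hle : Subgroup.normalizer ((P : Subgroup G) : Set G) ≤
      Subgroup.centralizer ((P : Subgroup G) : Set G)) : d.J.Normal := by
  obtain ⟨N, hN, hodd, hcard⟩ := exists_odd_complement P hle
  haveI := hN
  refine d.normal_of_odd (fun e => ?_) hodd
  rw [e, Subgroup.card_bot, one_mul] at hcard
  obtain ⟨k, hk⟩ := IsPGroup.iff_card.1 P.2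
  have h3 : 3 ∣ Nat.card G := ((show 3 ∣ 27 by norm_num).trans
    (dvd_of_eq d.card_J.symm)).trans (Subgroup.card_subgroup_dvd_card d.J)
  rw [← hcard, hk] at h3
  exact absurd (Nat.prime_three.dvd_of_dvd_pow h3) (by norm_num)

/-- An odd order normal subgroup of a normal subgroup. -/
theorem normal_of_odd_sub {K : Subgroup G} [K.Normal] {N : Subgroup K} (hN : N.Normal)
    (hne : N ≠ ⊥) (hodd : Odd (Nat.card N)) : d.J.Normal := by
  haveI := hN
  haveI : ((Cfsg.pPrimeCore 2 K).map K.subtype).Normal := by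
    haveI : (Cfsg.pPrimeCore 2 K).Characteristic := PLocal.pPrimeCoreCharacteristic 2 K
    exact ConjAct.normal_of_characteristic_of_normal
  have hle : N ≤ Cfsg.pPrimeCore 2 K := PLocal.le_pPrimeCore hodd.coprime_two_right
  refine d.normal_of_odd (N := (Cfsg.pPrimeCore 2 K).map K.subtype) (fun e => hne ?_) ?_
  · rw [Subgroup.map_eq_bot_iff_of_injective _ K.subtype_injective] at e
    exact le_bot_iff.1 (e ▸ hle)
  · rw [Subgroup.card_map_of_injective K.subtype_injective]
    exact Nat.coprime_two_right.1 (PLocal.coprime_card_pPrimeCore 2 K)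

end Setup

end CfsgLib.SymNineRecog
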