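import Cfsg.Agent.SymNineRecog.Lists
import Cfsg.Agent.SymNineRecog.TwoSub

/-!
# Facts on the automiser `2 × Sym 3`
-/

set_option autoImplicit false

namespace CfsgLib.SymNineRecog

set_option maxRecDepth 100000

/-- Minus the transposition. -/
def zMat : Mat := Mat.negOne.mul Mat.swp

/-- The vector fixed by it. -/
def wVec : Vec := .mk .o .t .z

/-- The rotations. -/
def rotB : List Mat := [pmat 0 0, pmat 1 0, pmat 2 0]

/-- The kernel of the product of the two signs. -/
def evenB : List Mat := rotB ++ rotB.map fun p => zMat.mul p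

/-- The sign of the permutation of the lines. -/
def permSign (m : Mat) : ℤˣ :=
  if (rotB ++ rotB.map fun p => Mat.negOne.mul p).any (fun n => m.beq n) then 1 else -1

theorem permSign_facts : (∀ m ∈ listB, ∀ n ∈ listB, permSign (m.mul n) = permSign m * permSign n) ∧
    permSign Mat.one = 1 ∧ permSign Mat.swp = -1 ∧ permSign Mat.negOne = 1 := by decide +kernel

theorem sylB_facts : sylList listB = [Mat.one, Mat.swp, Mat.negOne, zMat] ∧
    centTwoCheck listB ∧
    (∀ m ∈ sylList listB, (∃ p ∈ listB, p.mul m = Mat.swp.mul p) → m = Mat.swp) ∧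
    (∀ m ∈ listB, m.mul Mat.swp = Mat.swp.mul m → ∀ n ∈ sylList listB, m.mul n = n.mul m) := by
  decide +kernel

theorem invol_classesB : ∀ m ∈ listB, m.mul m = Mat.one → m ≠ Mat.one →
    (∃ p ∈ listB, p.mul m = Mat.swp.mul p) ∨ m = Mat.negOne ∨
      ∃ p ∈ listB, p.mul m = zMat.mul p := by decide +kernel

theorem lineB_facts : (Finset.univ.filter fun u => zMat.app u = u).card = 3 ∧
    (∀ m ∈ listB, m.mul Mat.swp = Mat.swp.mul m → (m.mul m).mul m = Mat.one → m = Mat.one) ∧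
    (∀ m ∈ listB, m.mul zMat = zMat.mul m → (m.mul m).mul m = Mat.one → m = Mat.one) := by
  decide +kernel

theorem zMat_facts : zMat.mul zMat = Mat.one ∧ zMat ≠ Mat.one ∧ Mat.negOne.mul Mat.swp = zMat ∧
    Mat.negOne.mul Mat.negOne = Mat.one ∧
    zMat.app wVec = wVec ∧ Mat.swp.app wVec = negVec wVec ∧
    (∀ u, zMat.app u = u → u = oVec ∨ u = wVec ∨ u = negVec wVec) ∧
    (∀ u, zMat.app u = u → Mat.swp.app u = u → u = oVec) := by decide +kernel

theorem evenB_facts : (∀ m ∈ evenB, m ∈ listB) ∧ Mat.one ∈ evenB ∧ zMat ∈ evenB ∧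
    Mat.cyc ∈ evenB ∧
    (∀ m ∈ listB, m ∈ evenB ∨ m.mul Mat.swp ∈ evenB) ∧
    (∀ m ∈ evenB, ∃ p ∈ listB, (p.mul p).mul p = Mat.one ∧ (m = p ∨ m = zMat.mul p)) ∧
    (∀ m ∈ listB, m.mul zMat = zMat.mul m → m.app wVec = wVec → m = Mat.one ∨ m = zMat) ∧
    (∀ m ∈ listB, m.mul Mat.swp = Mat.swp.mul m → m ∈ evenB → m = Mat.one ∨ m = zMat) := by
  decide +kernel

end CfsgLib.SymNineRecog
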