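import Mathlib.GroupTheory.SpecificGroups.Quaternion
import Mathlib.GroupTheory.PGroup
import Mathlib.Tactic

/-!
# A two-group with a group of order six acting with small fixed points

If an element of order three and an involution inverting it act on a two-group with fixed points in a
central subgroup of order two, the group has order two or is the quaternion group of order eight.
-/

set_option autoImplicit false

namespace CfsgLib.SymNineRecog

universe u

theorem quat_index : (∀ i j : ZMod (2 * 2), (i + j).val = (i.val + j.val) % 4) ∧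
    (∀ i j : ZMod (2 * 2), (j - i).val = (3 * i.val + j.val) % 4) ∧
    (∀ i j : ZMod (2 * 2), (((2 : ℕ) : ZMod (2 * 2)) + j - i).val = (2 + (3 * i.val + j.val)) % 4) := by
  decide +kernel

/-- Two elements satisfying the relations give the quaternion group. -/
theorem nonempty_quaternion {M : Type u} [Group M] [Finite M] (h8 : Nat.card M = 8) {a b z : M}
    (ha : a * a = z) (hb : b * b = z) (hz : z * z = 1) (hz1 : z ≠ 1) (hba : b * a = a⁻¹ * b)
    (hb1 : b ≠ 1) (hb2 : b ≠ z) (hb3 : b ≠ a) (hb4 : b ≠ a⁻¹) :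
    Nonempty (M ≃* QuaternionGroup 2) := by
  have hA : a ^ 4 = 1 := by
    rw [show (4 : ℕ) = 2 * 2 from rfl, pow_mul, pow_two a, ha, pow_two, hz]
  have hmod : ∀ k, a ^ (k % 4) = a ^ k := fun k => (pow_eq_pow_mod k hA).symm
  have hi : a⁻¹ = a ^ 3 := (eq_inv_of_mul_eq_one_left (by rw [← pow_succ]; exact hA)).symm
  have hcomm : ∀ k : ℕ, a ^ k * b = b * a ^ (3 * k) := by
    have h1 : a * b = b * a ^ 3 := by
      rw [← hi, eq_mul_inv_iff_mul_eq, mul_assoc, hba, mul_inv_cancel_left]
    intro k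
    induction k with
    | zero => simp
    | succ k ih =>
      rw [pow_succ, mul_assoc, h1, ← mul_assoc, ih, mul_assoc, ← pow_add, Nat.mul_succ]
  let f : QuaternionGroup 2 →* M :=
    MonoidHom.mk' (fun q => match q with
      | .a i => a ^ i.val
      | .xa i => b * a ^ i.val) (by
      rintro (i | i) (j | j)
      · simp only [QuaternionGroup.a_mul_a]
        rw [quat_index.1, hmod, pow_add]
      · simp only [QuaternionGroup.a_mul_xa]
        rw [quat_index.2.1, hmod, pow_add, ← mul_assoc, ← mul_assoc, hcomm]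
      · simp only [QuaternionGroup.xa_mul_a]
        rw [quat_index.1, hmod, pow_add, mul_assoc]
      · simp only [QuaternionGroup.xa_mul_xa]
        rw [quat_index.2.2, hmod, pow_add, pow_add, pow_two a, ha, ← hb]
        rw [← mul_assoc (b * a ^ i.val), mul_assoc b (a ^ i.val), hcomm]
        simp only [mul_assoc])
  have hinj : Function.Injective f := by
    rw [injective_iff_map_eq_one]
    rintro (i | i) h
    · change a ^ i.val = 1 at h
      have hlt := ZMod.val_lt i
      suffices i.val = 0 by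
        rw [(ZMod.val_eq_zero i).1 this]; rfl
      by_contra h0
      rcases (show i.val = 1 ∨ i.val = 2 ∨ i.val = 3 by omega) with e | e | e <;> rw [e] at h
      · rw [pow_one] at h; rw [h, one_mul] at ha; exact hz1 ha.symm
      · rw [pow_two, ha] at h; exact hz1 h
      · rw [← hi, inv_eq_one] at h; rw [h, one_mul] at ha; exact hz1 ha.symm
    · exfalso
      change b * a ^ i.val = 1 at h
      have hlt := ZMod.val_lt i
      rcases (show i.val = 0 ∨ i.val = 1 ∨ i.val = 2 ∨ i.val = 3 by omega) with e | e | e | e <;>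
        rw [e] at h
      · rw [pow_zero, mul_one] at h; exact hb1 h
      · rw [pow_one] at h; exact hb4 (eq_inv_of_mul_eq_one_left h)
      · rw [pow_two, ha] at h
        exact hb2 ((eq_inv_of_mul_eq_one_left h).trans (inv_eq_of_mul_eq_one_left hz))
      · rw [← hi, mul_inv_eq_one] at h; exact hb3 h
  exact ⟨(MulEquiv.ofBijective f ((Nat.bijective_iff_injective_and_card f).2 ⟨hinj, by
    rw [h8, Nat.card_eq_fintype_card, QuaternionGroup.card]⟩)).symm⟩

/-- A two-group with small fixed points under a group of order six. -/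
theorem card_two_or_quaternion {G : Type u} [Group G] [Finite G] (Q : Subgroup G)
    (hQ : IsPGroup 2 Q) {z w s : G} (hzQ : z ∈ Q) (hz : orderOf z = 2) (hw : orderOf w = 3)
    (hs : orderOf s = 2) (hsw : s * w * s⁻¹ = w⁻¹) (hwz : w * z = z * w) (hsz : s * z = z * s)
    (hzc : ∀ q ∈ Q, q * z = z * q) (hnw : ∀ q ∈ Q, w * q * w⁻¹ ∈ Q)
    (hns : ∀ q ∈ Q, s * q * s⁻¹ ∈ Q)
    (hcw : ∀ q ∈ Q, w * q = q * w → q ∈ Subgroup.zpowers z)
    (hcs : ∀ q ∈ Q, s * q = q * s → q ∈ Subgroup.zpowers z) :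
    Nat.card Q = 2 ∨ Nonempty (Q ≃* QuaternionGroup 2) := by
  classical
  haveI : Fact (Nat.Prime 2) := ⟨Nat.prime_two⟩
  haveI : Fintype Q := Fintype.ofFinite _
  have hz1 : z ≠ 1 := by intro e; rw [e, orderOf_one] at hz; omega
  have hzz : z * z = 1 := by rw [← pow_two, ← hz, pow_orderOf_eq_one]
  have hs2 : s * s = 1 := by rw [← pow_two, ← hs, pow_orderOf_eq_one]
  have hsi : s⁻¹ = s := inv_eq_of_mul_eq_one_left hs2
  have hw3 : w ^ 3 = 1 := by rw [← hw, pow_orderOf_eq_one]
  have hline : ∀ g ∈ Subgroup.zpowers z, g = 1 ∨ g = z := by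
    intro g hg
    obtain ⟨n, rfl⟩ := Subgroup.mem_zpowers_iff.1 hg
    rw [← zpow_mod_orderOf, hz]
    rcases Int.emod_two_eq_zero_or_one n with e | e <;> push_cast <;> rw [e] <;> simp
  have hfix : ∀ q ∈ Q, (q = 1 ∨ q = z) → w * q = q * w := by
    rintro q - (rfl | rfl)
    · simp
    · exact hwz
  have hsw' : ∀ i : ℕ, s * w ^ i = w ^ i * s * (w ^ i)⁻¹ := by
    intro i
    have h : s * w ^ i * s⁻¹ = (w ^ i)⁻¹ := by rw [← conj_pow, hsw, inv_pow]
    have h' : w ^ i * s = s * (w ^ i)⁻¹ := by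
      rw [← h, hsi, ← mul_assoc, ← mul_assoc, hs2, one_mul]
    rw [h', mul_assoc]
    congr 1
    rw [← mul_inv_rev, ← pow_add, eq_inv_iff_mul_eq_one, ← pow_add,
      show i + (i + i) = 3 * i by ring, pow_mul, hw3, one_pow]
  have hwn : ∀ i : ℕ, ∀ q ∈ Q, w ^ i * q * (w ^ i)⁻¹ ∈ Q := by
    intro i
    induction i with
    | zero => intro q hq; simpa using hq
    | succ i ih =>
      intro q hq
      rw [pow_succ, show w ^ i * w * q * (w ^ i * w)⁻¹ = w ^ i * (w * q * w⁻¹) * (w ^ i)⁻¹ by group]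
      exact ih _ (hnw q hq)
  have hwn' : ∀ i : ℕ, ∀ q ∈ Q, (w ^ i)⁻¹ * q * w ^ i ∈ Q := by
    intro i q hq
    have h : (w ^ i)⁻¹ = w ^ (2 * i) := inv_eq_of_mul_eq_one_left (by
      rw [← pow_add, show 2 * i + i = 3 * i by ring, pow_mul, hw3, one_pow])
    have h2 : w ^ i = (w ^ (2 * i))⁻¹ := by rw [← h, inv_inv]
    rw [h, h2]
    exact hwn _ q hq
  -- the three involutions
  let t : Fin 3 → G := fun i => s * w ^ (i : ℕ)
  have htQ : ∀ i, ∀ q ∈ Q, t i * q * (t i)⁻¹ ∈ Q := fun i q hq => by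
    rw [show t i * q * (t i)⁻¹ = s * (w ^ (i : ℕ) * q * (w ^ (i : ℕ))⁻¹) * s⁻¹ by simp only [t]; group]
    exact hns _ (hwn _ q hq)
  have htfix : ∀ i, ∀ q ∈ Q, t i * q = q * t i → q = 1 ∨ q = z := by
    intro i q hq h
    simp only [t, hsw'] at h
    set v := w ^ (i : ℕ)
    have h1 : v⁻¹ * q * v = 1 ∨ v⁻¹ * q * v = z := by
      refine hline _ (hcs _ (hwn' _ q hq) ?_)
      calc s * (v⁻¹ * q * v) = v⁻¹ * (v * s * v⁻¹ * q) * v := by group
        _ = v⁻¹ * (q * (v * s * v⁻¹)) * v := by rw [h]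
        _ = _ := by group
    rcases h1 with e | e
    · left
      calc q = v * (v⁻¹ * q * v) * v⁻¹ := by group
        _ = 1 := by rw [e, mul_one, mul_inv_cancel]
    · right
      calc q = v * (v⁻¹ * q * v) * v⁻¹ := by group
        _ = z := by
          rw [e, ((show Commute w z from hwz).pow_left _).eq, mul_inv_cancel_right]
  let zQ : Q := ⟨z, hzQ⟩
  let I : Fin 3 → Finset Q := fun i =>
    Finset.univ.filter fun b : Q => t i * (b : G) * (t i)⁻¹ = (b : G)⁻¹
  have hhalf : ∀ i, Nat.card Q ≤ 2 * (I i).card := by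
    intro i
    have hti : t i * t i = 1 := by
      simp only [t, hsw']
      calc _ = w ^ (i : ℕ) * (s * s) * (w ^ (i : ℕ))⁻¹ := by group
        _ = 1 := by rw [hs2, mul_one, mul_inv_cancel]
    have hii : (t i)⁻¹ = t i := inv_eq_of_mul_eq_one_left hti
    let f : Q → Q := fun a => ⟨(a : G)⁻¹ * (t i * a * (t i)⁻¹), mul_mem (inv_mem a.2) (htQ i a a.2)⟩
    have himg : ∀ a, f a ∈ I i := fun a => Finset.mem_filter.2 ⟨Finset.mem_univ _, by
      show t i * ((a : G)⁻¹ * (t i * a * (t i)⁻¹)) * (t i)⁻¹ =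
        ((a : G)⁻¹ * (t i * a * (t i)⁻¹))⁻¹
      calc _ = t i * (a : G)⁻¹ * (t i) * a * ((t i)⁻¹ * (t i)⁻¹) := by group
        _ = t i * (a : G)⁻¹ * (t i)⁻¹ * a := by
          rw [← mul_inv_rev, hti, inv_one, mul_one, hii]
        _ = _ := by group⟩
    rw [Nat.card_eq_fintype_card, ← Finset.card_univ]
    refine (Finset.card_le_mul_card_image_of_maps_to (f := f) (fun a _ => himg a) 2 fun b _ => ?_)
    by_cases he : ∃ a, f a = b
    · obtain ⟨a, ha⟩ := he
      refine (Finset.card_le_card (t := {a, zQ * a}) fun a' ha' => ?_).trans Finset.card_le_two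
      have e : (a' : G)⁻¹ * (t i * a' * (t i)⁻¹) = (a : G)⁻¹ * (t i * a * (t i)⁻¹) :=
        congrArg Subtype.val ((Finset.mem_filter.1 ha').2.trans ha.symm)
      have hc : t i * ((a' : G) * (a : G)⁻¹) = (a' : G) * (a : G)⁻¹ * t i := by
        refine mul_inv_eq_iff_eq_mul.1 ?_
        calc t i * ((a' : G) * (a : G)⁻¹) * (t i)⁻¹
            = (a' : G) * ((a' : G)⁻¹ * (t i * a' * (t i)⁻¹)) * (t i * a * (t i)⁻¹)⁻¹ := by group
          _ = (a' : G) * (a : G)⁻¹ := by rw [e]; group
      rw [Finset.mem_insert, Finset.mem_singleton]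
      rcases htfix i _ (mul_mem a'.2 (inv_mem a.2)) hc with e' | e'
      · exact Or.inl (Subtype.ext (mul_inv_eq_one.1 e'))
      · exact Or.inr (Subtype.ext (mul_inv_eq_iff_eq_mul.1 e'))
    · push Not at he
      rw [Finset.filter_false_of_mem fun a _ => he a]
      simp
  -- they invert different sets
  have hmeet : ∀ i j, i ≠ j → ∀ b, b ∈ I i → b ∈ I j → b = 1 ∨ b = zQ := by
    intro i j hij b hbi hbj
    have h := ((Finset.mem_filter.1 hbi).2).trans (Finset.mem_filter.1 hbj).2.symm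
    simp only [t] at h
    set vi := w ^ (i : ℕ) with hvi
    set vj := w ^ (j : ℕ) with hvj
    have h1 : vi * (b : G) * vi⁻¹ = vj * (b : G) * vj⁻¹ := by
      calc vi * (b : G) * vi⁻¹ = s⁻¹ * (s * vi * b * (s * vi)⁻¹) * s := by group
        _ = _ := by rw [h]; group
    have h2 : Commute (vj⁻¹ * vi) (b : G) := mul_inv_eq_iff_eq_mul.1 (by
      calc vj⁻¹ * vi * (b : G) * (vj⁻¹ * vi)⁻¹ = vj⁻¹ * (vi * b * vi⁻¹) * vj := by group
        _ = b := by rw [h1]; group)
    have h3 : ∃ k : ℕ, (vj⁻¹ * vi) ^ k = w := by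
      have hj2 : vj⁻¹ = w ^ (2 * (j : ℕ)) := inv_eq_of_mul_eq_one_left (by
        rw [hvj, ← pow_add, show 2 * (j : ℕ) + j = 3 * (j : ℕ) by ring, pow_mul, hw3, one_pow])
      rw [hj2, hvi, ← pow_add]
      have key : ∀ i j : Fin 3, i ≠ j →
          ((2 * (j : ℕ) + i) * (2 * (j : ℕ) + i)) % 3 = 1 := by decide
      refine ⟨2 * (j : ℕ) + i, ?_⟩
      rw [← pow_mul, pow_eq_pow_mod _ hw3, key i j hij, pow_one]
    obtain ⟨k, hk⟩ := h3
    have h4 : w * b = b * w := by rw [← hk]; exact (h2.pow_left k).eq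
    rcases hline _ (hcw _ b.2 h4) with e | e
    · exact Or.inl (Subtype.ext e)
    · exact Or.inr (Subtype.ext e)
  have hle8 : Nat.card Q ≤ 8 := by
    let J : Fin 3 → Finset Q := fun i => I i \ {1, zQ}
    have hJ : ∀ i, (I i).card ≤ (J i).card + 2 := fun i =>
      (Finset.card_le_card_sdiff_add_card).trans (Nat.add_le_add_left Finset.card_le_two _)
    have hdis : ∀ i j, i ≠ j → Disjoint (J i) (J j) := fun i j hij =>
      Finset.disjoint_left.2 fun b hbi hbj => by
        simp only [J, Finset.mem_sdiff, Finset.mem_insert, Finset.mem_singleton] at hbi hbj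
        exact hbi.2 (hmeet i j hij b hbi.1 hbj.1)
    have hsum := Finset.card_biUnion (s := (Finset.univ : Finset (Fin 3))) (t := J)
      fun i _ j _ hij => hdis i j hij
    have hsub : Finset.univ.biUnion J ⊆ Finset.univ \ {1, zQ} := fun b hb => by
      obtain ⟨i, -, hi⟩ := Finset.mem_biUnion.1 hb
      exact Finset.sdiff_subset_sdiff (Finset.subset_univ _) le_rfl hi
    have hc := Finset.card_le_card hsub
    rw [hsum, Fin.sum_univ_three, Finset.card_sdiff_of_subset (Finset.subset_univ _),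
      Finset.card_univ, Finset.card_pair (fun e => hz1 (congrArg Subtype.val e).symm)] at hc
    have h0 := hhalf 0; have h1 := hhalf 1; have h2 := hhalf 2
    have := hJ 0; have := hJ 1; have := hJ 2
    rw [Nat.card_eq_fintype_card] at h0 h1 h2 ⊢
    omega
  obtain ⟨n, hn⟩ := IsPGroup.iff_card.1 hQ
  -- conjugation by `w`
  have hmove : ∀ q ∈ Q, q ≠ 1 → q ≠ z → w * q * w⁻¹ ≠ q ∧ w * q * w⁻¹ ≠ z * q := by
    intro q hq h1 h2
    refine ⟨fun e => ?_, fun e => ?_⟩
    · rcases hline _ (hcw q hq (mul_inv_eq_iff_eq_mul.1 e)) with e' | e'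
      exacts [h1 e', h2 e']
    · have hzw : w * z * w⁻¹ = z := by rw [hwz, mul_inv_cancel_right]
      have e3 : w ^ 3 * q * (w ^ 3)⁻¹ = z * q := by
        calc w ^ 3 * q * (w ^ 3)⁻¹ = w * (w * (w * q * w⁻¹) * w⁻¹) * w⁻¹ := by
              rw [pow_succ, pow_two]; group
          _ = w * (w * (z * q) * w⁻¹) * w⁻¹ := by rw [e]
          _ = w * ((w * z * w⁻¹) * (w * q * w⁻¹)) * w⁻¹ := by group
          _ = w * (z * (z * q)) * w⁻¹ := by rw [hzw, e]
          _ = z * q := by rw [← mul_assoc z, hzz, one_mul, e]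
      rw [hw3, one_mul, inv_one, mul_one] at e3
      exact hz1 (mul_eq_right.1 e3.symm)
  by_cases h2 : Nat.card Q = 2
  · exact Or.inl h2
  right
  have h2le : 2 ≤ Nat.card Q := by
    rw [← hz, ← Subgroup.orderOf_mk z hzQ]
    exact Nat.le_of_dvd Nat.card_pos (orderOf_dvd_natCard _)
  obtain ⟨a, haQ, ha1, ha2⟩ : ∃ a ∈ Q, a ≠ 1 ∧ a ≠ z := by
    by_contra hno
    push Not at hno
    have hle : (Finset.univ : Finset Q) ⊆ {1, zQ} := fun q _ => by
      rw [Finset.mem_insert, Finset.mem_singleton]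
      by_cases e : (q : G) = 1
      · exact Or.inl (Subtype.ext e)
      · exact Or.inr (Subtype.ext (hno q q.2 e))
    have := (Finset.card_le_card hle).trans Finset.card_le_two
    rw [Finset.card_univ, ← Nat.card_eq_fintype_card] at this
    omega
  set b := w * a * w⁻¹ with hb
  have hbQ : b ∈ Q := hnw a haQ
  obtain ⟨hba, hbza⟩ := hmove a haQ ha1 ha2
  have hb1 : b ≠ 1 := fun e => ha1 (conj_eq_one_iff.1 e)
  have hb2 : b ≠ z := fun e => ha2 (by
    calc a = w⁻¹ * b * w := by rw [hb]; group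
      _ = z := by rw [e, mul_assoc, ← hwz, inv_mul_cancel_left])
  have hfive : 5 ≤ Nat.card Q := by
    have hzi : z⁻¹ = z := inv_eq_of_mul_eq_one_left hzz
    have hza1 : z * a ≠ 1 := fun e => ha2 (by rw [eq_inv_of_mul_eq_one_right e, hzi])
    have hza2 : z * a ≠ z := fun e => ha1 (mul_eq_left.1 e)
    have hza3 : z * a ≠ a := fun e => hz1 (mul_eq_right.1 e)
    let l : List Q := [1, zQ, ⟨a, haQ⟩, zQ * ⟨a, haQ⟩, ⟨b, hbQ⟩]
    have hnd : l.Nodup := by
      simp only [l, List.nodup_cons, List.mem_cons, List.not_mem_nil, or_false, not_or,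
        List.nodup_nil, not_false_eq_true, and_true, Subtype.ext_iff, Subgroup.coe_mul,
        Subgroup.coe_one, zQ]
      exact ⟨⟨hz1.symm, ha1.symm, hza1.symm, hb1.symm⟩, ⟨ha2.symm, hza2.symm, hb2.symm⟩,
        ⟨hza3.symm, hba.symm⟩, hbza.symm⟩
    have h := l.toFinset.card_le_univ
    rw [List.toFinset_card_of_nodup hnd, ← Nat.card_eq_fintype_card] at h
    exact h
  have h8 : Nat.card Q = 8 := by
    rw [hn] at hle8 hfive ⊢
    have hn3 : n ≤ 3 := by
      by_contra h
      have := Nat.pow_le_pow_right (show 0 < 2 by norm_num) (show 4 ≤ n by omega)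
      omega
    interval_cases n <;> omega
  have hpow : ∀ q ∈ Q, q ^ 8 = 1 := fun q hq => by
    have h := congrArg Subtype.val (pow_card_eq_one' (x := (⟨q, hq⟩ : Q)))
    rwa [h8] at h
  -- one involution
  have hinv : ∀ q ∈ Q, q * q = 1 → q = 1 ∨ q = z := by
    intro q hq hqq
    by_contra hno
    push Not at hno
    have hsq : ∀ y ∈ Q, y * y = 1 := by
      have hw' : ∀ y : G, y * y = 1 → w * y * w⁻¹ * (w * y * w⁻¹) = 1 := fun y hy => by
        calc _ = w * (y * y) * w⁻¹ := by group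
          _ = 1 := by rw [hy, mul_one, mul_inv_cancel]
      have hzy : ∀ y ∈ Q, y * y = 1 → z * y * (z * y) = 1 := fun y hy hyy => by
        rw [show z * y * (z * y) = z * (y * z) * y by group, hzc y hy, ← mul_assoc, hzz, one_mul,
          hyy]
      set r := w * q * w⁻¹ with hr
      set p := w * r * w⁻¹ with hp
      have hrQ : r ∈ Q := hnw q hq
      have hpQ : p ∈ Q := hnw r hrQ
      obtain ⟨hrq, hrzq⟩ := hmove q hq hno.1 hno.2
      have hr1 : r ≠ 1 := fun e => hno.1 (conj_eq_one_iff.1 e)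
      have hr2 : r ≠ z := fun e => hno.2 (by
        calc q = w⁻¹ * r * w := by rw [hr]; group
          _ = z := by rw [e, mul_assoc, ← hwz, inv_mul_cancel_left])
      obtain ⟨hpr, hpzr⟩ := hmove r hrQ hr1 hr2
      have hcyc : w * p * w⁻¹ = q := by
        calc w * p * w⁻¹ = w ^ 3 * q * (w ^ 3)⁻¹ := by rw [hp, hr, pow_succ, pow_two]; group
          _ = q := by rw [hw3]; group
      have hpq : p ≠ q := fun e => by
        rw [e, ← hr] at hcyc
        exact hrq hcyc
      have hpzq : p ≠ z * q := fun e => by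
        rw [e] at hcyc
        refine hrzq ?_
        calc r = z * (z * (w * q * w⁻¹)) := by rw [← mul_assoc, hzz, one_mul]
          _ = z * ((w * z * w⁻¹) * (w * q * w⁻¹)) := by rw [hwz, mul_inv_cancel_right]
          _ = z * (w * (z * q) * w⁻¹) := by group
          _ = z * q := by rw [hcyc]
      have hp1 : p ≠ 1 := fun e => hr1 (conj_eq_one_iff.1 e)
      have hp2 : p ≠ z := fun e => hr2 (by
        calc r = w⁻¹ * p * w := by rw [hp]; group
          _ = z := by rw [e, mul_assoc, ← hwz, inv_mul_cancel_left])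
      let l : List Q := [1, zQ, ⟨q, hq⟩, zQ * ⟨q, hq⟩, ⟨r, hrQ⟩, zQ * ⟨r, hrQ⟩, ⟨p, hpQ⟩,
        zQ * ⟨p, hpQ⟩]
      have hzi : z⁻¹ = z := inv_eq_of_mul_eq_one_left hzz
      have hswap : ∀ u v : G, z * u = v → u = z * v := fun u v e => by
        rw [← e, ← mul_assoc, hzz, one_mul]
      have hnd : l.Nodup := by
        have hzl : ∀ u : G, u ≠ 1 → z * u ≠ z := fun u hu e => hu (mul_eq_left.1 e)
        have hzo : ∀ u : G, u ≠ z → z * u ≠ 1 := fun u hu e =>
          hu (by rw [eq_inv_of_mul_eq_one_right e, hzi])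
        simp only [l, List.nodup_cons, List.mem_cons, List.not_mem_nil, or_false, not_or,
          List.nodup_nil, not_false_eq_true, and_true, Subtype.ext_iff, Subgroup.coe_mul,
          Subgroup.coe_one, zQ, mul_right_inj]
        exact ⟨⟨hz1.symm, hno.1.symm, (hzo q hno.2).symm, hr1.symm, (hzo r hr2).symm, hp1.symm,
            (hzo p hp2).symm⟩,
          ⟨hno.2.symm, (hzl q hno.1).symm, hr2.symm, (hzl r hr1).symm, hp2.symm,
            (hzl p hp1).symm⟩,
          ⟨fun e => hz1 (mul_eq_right.1 e.symm), hrq.symm, fun e => hrzq (hswap _ _ e.symm),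
            hpq.symm, fun e => hpzq (hswap _ _ e.symm)⟩,
          ⟨hrzq.symm, hrq.symm, hpzq.symm, hpq.symm⟩,
          ⟨fun e => hz1 (mul_eq_right.1 e.symm), hpr.symm, fun e => hpzr (hswap _ _ e.symm)⟩,
          ⟨hpzr.symm, hpr.symm⟩, fun e => hz1 (mul_eq_right.1 e.symm)⟩
      have hall : l.toFinset = Finset.univ := Finset.eq_univ_of_card _ (by
        rw [List.toFinset_card_of_nodup hnd, ← Nat.card_eq_fintype_card, h8]; rfl)
      intro y hy
      have hm : (⟨y, hy⟩ : Q) ∈ l := List.mem_toFinset.1 (hall ▸ Finset.mem_univ _)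
      simp only [l, List.mem_cons, List.not_mem_nil, or_false, Subtype.ext_iff, Subgroup.coe_mul,
        Subgroup.coe_one, zQ] at hm
      rcases hm with rfl | rfl | rfl | rfl | rfl | rfl | rfl | rfl
      exacts [one_mul 1, hzz, hqq, hzy q hq hqq, hw' q hqq, hzy r hrQ (hw' q hqq),
        hw' r (hw' q hqq), hzy p hpQ (hw' r (hw' q hqq))]
    have hI : I 0 ⊆ {1, zQ} := fun y hy => by
      have h := (Finset.mem_filter.1 hy).2
      rw [inv_eq_of_mul_eq_one_left (hsq y y.2), mul_inv_eq_iff_eq_mul] at h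
      rw [Finset.mem_insert, Finset.mem_singleton]
      exact (htfix 0 y y.2 h).imp Subtype.ext Subtype.ext
    have := (hhalf 0).trans (Nat.mul_le_mul_left 2 ((Finset.card_le_card hI).trans Finset.card_le_two))
    omega
  -- all the others square to it
  have hsquare : ∀ q ∈ Q, q ≠ 1 → q ≠ z → q * q = z := by
    intro q hq h1 h2
    have hq2 : q * q ≠ 1 := fun e => (hinv q hq e).elim h1 h2
    have hq4 : q ^ 4 = 1 := by
      by_contra h4
      have hord : orderOf (⟨q, hq⟩ : Q) = 8 := by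
        rw [Subgroup.orderOf_mk]
        exact orderOf_eq_prime_pow (p := 2) (n := 2) (by norm_num [h4]) (by norm_num [hpow q hq])
      have hcyc : ∀ y : Q, y ∈ Subgroup.zpowers (⟨q, hq⟩ : Q) := fun y => by
        rw [Subgroup.eq_top_of_card_eq (Subgroup.zpowers (⟨q, hq⟩ : Q))
          (by rw [Nat.card_zpowers, hord, h8])]
        exact Subgroup.mem_top _
      obtain ⟨k, hk⟩ := mem_powers_iff_mem_zpowers.2 (hcyc ⟨_, hnw q hq⟩)
      have hk' : q ^ k = w * q * w⁻¹ := congrArg Subtype.val hk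
      have h3 : q ^ (k * k * k) = q := by
        calc q ^ (k * k * k) = w ^ 3 * q * (w ^ 3)⁻¹ := by
              rw [pow_mul, pow_mul, hk', conj_pow, conj_pow, hk', conj_pow, hk', pow_succ, pow_two]
              group
          _ = q := by rw [hw3]; group
      have hmod : k * k * k % 8 = 1 % 8 := by
        conv_rhs at h3 => rw [← pow_one q]
        rw [pow_eq_pow_iff_modEq, ← Subgroup.orderOf_mk q hq, hord] at h3
        exact h3
      have key : ∀ r : Fin 8, (r : ℕ) * r * r % 8 = 1 → (r : ℕ) = 1 := by decide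
      have hk8 : k % 8 = 1 := key ⟨k % 8, Nat.mod_lt _ (by norm_num)⟩ (by
        simp [Nat.mul_mod] at hmod ⊢
        exact hmod)
      rw [pow_eq_pow_mod k (hpow q hq), hk8, pow_one] at hk'
      exact (hmove q hq h1 h2).1 hk'.symm
    exact (hinv _ (mul_mem hq hq) (by rw [← hq4]; simp only [pow_succ, pow_zero, one_mul, mul_assoc])).resolve_left hq2
  have haa := hsquare a haQ ha1 ha2
  have hbb := hsquare b hbQ hb1 hb2
  have hai : a⁻¹ = z * a := inv_eq_of_mul_eq_one_left (by rw [mul_assoc, haa, hzz])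
  have hab : a * b * (a * b) = z := hsquare _ (mul_mem haQ hbQ)
    (fun e => hbza (by rw [← hb, eq_inv_of_mul_eq_one_right e, hai]))
    (fun e => hba (mul_left_cancel (e.trans haa.symm)))
  refine nonempty_quaternion h8 (a := (⟨a, haQ⟩ : Q)) (b := ⟨b, hbQ⟩) (z := zQ) (Subtype.ext haa)
    (Subtype.ext hbb) (Subtype.ext hzz) (fun e => hz1 (congrArg Subtype.val e)) (Subtype.ext ?_)
    (fun e => hb1 (congrArg Subtype.val e)) (fun e => hb2 (congrArg Subtype.val e))
    (fun e => hba (congrArg Subtype.val e))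
    (fun e => hbza ((congrArg Subtype.val e).trans hai))
  show b * a = a⁻¹ * b
  have hbi : b⁻¹ = z * b := inv_eq_of_mul_eq_one_left (by rw [mul_assoc, hbb, hzz])
  calc b * a = a⁻¹ * (a * b * (a * b)) * b⁻¹ := by group
    _ = a⁻¹ * (z * (z * b)) := by rw [hab, hbi]; group
    _ = a⁻¹ * b := by rw [← mul_assoc z, hzz, one_mul]

end CfsgLib.SymNineRecog
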