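import Cfsg.Agent.SymNineRecog.NonConj
import Cfsg.Agent.SymNineRecog.FactsB
import Cfsg.Agent.SymNineRecog.Quaternion
import Cfsg.Agent.Coprime.Action
import Cfsg.Agent.S0201

/-!
# The automiser is `2 × Sym 3`

If the transposition is not fused with the central involution of the automiser, a Sylow `2`-subgroup
is central in its normaliser. Otherwise there is a subgroup of index two whose Sylow `2`-subgroups
have order two or are quaternion.
-/

set_option autoImplicit false
set_option linter.style.haveILetI false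
set_option linter.unusedSectionVars false

namespace CfsgLib.SymNineRecog

set_option maxRecDepth 100000

universe u

open Pointwise

theorem quaternion_one_invol : ∀ a b : QuaternionGroup 2, a * a = 1 → b * b = 1 → a ≠ 1 → b ≠ 1 →
    a = b := by decide +kernel

namespace Setup

variable {G : Type u} [Group G] [Finite G] (d : Setup G) (hA : d.AutList listB)
include hA

theorem centS_B : Subgroup.centralizer ({d.s} : Set G) ≤ d.H :=
  d.cent_invol_le d.s_mem_H d.s_sq hA (by rw [d.mat_s]; exact involCheck_B)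
    fun u _ hu => d.cent_all hA allSmall_B hu

theorem s_ne_one_B : d.s ≠ 1 := fun e => by
  have h := d.mat_s
  rw [e, d.mat_one] at h
  exact absurd h (by decide)

/-- The class of `s` in `H`. -/
theorem class_s_B {g : G} (hg : g * d.s * g⁻¹ ∈ d.H) :
    (g ∈ d.H ∧ ∃ p ∈ listB, p.mul (d.mat (g * d.s * g⁻¹)) = Mat.swp.mul p) ∨
      d.mat (g * d.s * g⁻¹) = Mat.negOne := by
  set a := g * d.s * g⁻¹ with ha
  have ha2 : a * a = 1 := by
    rw [ha, show g * d.s * g⁻¹ * (g * d.s * g⁻¹) = g * (d.s * d.s) * g⁻¹ by group, d.s_sq, mul_one,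
      mul_inv_cancel]
  have hm2 : (d.mat a).mul (d.mat a) = Mat.one := by rw [← d.mat_mul hg hg, ha2, d.mat_one]
  have hm1 : d.mat a ≠ Mat.one := fun e => by
    have h : a ∈ d.J := d.eq_of_mat_one hg e
    have h3 := d.J_cube h
    rw [ha2, one_mul, ha] at h3
    exact d.s_ne_one_B hA (conj_eq_one_iff.1 h3)
  have hconj : ∀ (k : G), k ∈ d.H → ∀ M : Mat, (d.mat k).mul (d.mat a) = M.mul (d.mat k) →
      M ∈ listB → d.mat (k * a * k⁻¹) = M := by
    intro k hk M e hM
    obtain ⟨n, hn, rfl⟩ := hA.2 M hM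
    rw [d.mat_mul (mul_mem hk hg) (inv_mem hk), d.mat_mul hk hg, e, ← d.mat_mul hn hk,
      ← d.mat_mul (mul_mem hn hk) (inv_mem hk), mul_inv_cancel_right]
  rcases invol_classesB _ (hA.1 a hg) hm2 hm1 with ⟨p, hp, e⟩ | h1 | ⟨p, hp, e⟩
  · refine Or.inl ⟨?_, p, hp, e⟩
    obtain ⟨k, hk, rfl⟩ := hA.2 p hp
    have hka : k * a * k⁻¹ ∈ d.H := mul_mem (mul_mem hk hg) (inv_mem hk)
    obtain ⟨j, hj, ej⟩ := d.conj_of_mat_eq hka d.s_mem_H
      (by rw [show k * a * k⁻¹ * (k * a * k⁻¹) = k * (a * a) * k⁻¹ by group, ha2, mul_one,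
        mul_inv_cancel]) d.s_sq (by
        rw [hconj k hk _ e (d.mat_s ▸ hA.1 _ d.s_mem_H), d.mat_s])
    have hc : j * k * g ∈ d.H := d.centS_B hA (Subgroup.mem_centralizer_singleton_iff.2
      (mul_inv_eq_iff_eq_mul.1 (by
        calc j * k * g * d.s * (j * k * g)⁻¹ = j * (k * a * k⁻¹) * j⁻¹ := by rw [ha]; group
          _ = d.s := ej)))
    simpa [mul_assoc] using d.H.mul_mem (d.H.inv_mem (mul_mem (d.J_le_H hj) hk)) hc
  · exact Or.inr h1
  · obtain ⟨k, hk, rfl⟩ := hA.2 p hp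
    have hka : k * a * k⁻¹ ∈ d.H := mul_mem (mul_mem hk hg) (inv_mem hk)
    have hm := hconj k hk _ e (evenB_facts.1 _ evenB_facts.2.2.1)
    refine absurd ?_ (d.not_conj_line hA d.s_mem_H hka (d.centS_B hA) ?_ ?_
      (fun u hu => d.cent_all hA allSmall_B hu) ?_ ?_ (k * g))
    · rw [ha]; group
    · rw [d.mat_s]; exact involCheck_B.1
    · rw [hm]; exact lineB_facts.1
    · rw [d.mat_s]; exact lineB_facts.2.1
    · rw [hm]; exact lineB_facts.2.2

theorem exists_twoSub_B : Nonempty (TwoSub d listB) :=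
  d.exists_twoSub hA lists_facts.2.2.1 lists_sub.2.1 2 81
    (by rw [lists_facts.2.2.2.2.2.2.1]; norm_num) (by decide) (by norm_num)
    (by rw [sylB_facts.1]; rfl)

/-- No fusion of the transposition with the central involution. -/
theorem normal_caseB_apart
    (h : ∀ g : G, g * d.s * g⁻¹ ∈ d.H → d.mat (g * d.s * g⁻¹) ≠ Mat.negOne) : d.J.Normal := by
  haveI : Fact (Nat.Prime 2) := ⟨Nat.prime_two⟩
  obtain ⟨T⟩ := d.exists_twoSub_B hA
  have hfix : ∀ g : G, g * d.s * g⁻¹ ∈ T.S → g ∈ d.H ∧ g * d.s * g⁻¹ = d.s := by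
    intro g hg
    obtain ⟨hgH, hp⟩ := (d.class_s_B hA (T.le hg)).resolve_right (h g (T.le hg))
    exact ⟨hgH, d.eq_of_mat_eq T.isP T.le hg T.s_mem
      (by rw [sylB_facts.2.2.1 _ (T.image _ hg) hp, d.mat_s])⟩
  obtain ⟨P, hP⟩ := exists_sylow_eq T.isP T.s_mem
    (fun g hg => ⟨1, one_mem _, by rw [(hfix g hg).2]; simp⟩)
    (fun R hR hRs hle => d.two_cent_le hA sylB_facts.2.1 lists_sub.2.1 (d.centS_B hA) T hR hRs
      lists_facts.2.2.1 (by rw [lists_facts.2.2.2.2.2.2.1]; norm_num) hle)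
  refine d.normal_of_burnside P fun g hg => ?_
  rw [hP] at hg ⊢
  obtain ⟨hgH, hgs⟩ := hfix g ((Subgroup.mem_normalizer_iff.1 hg d.s).1 T.s_mem)
  have hgm : (d.mat g).mul Mat.swp = Mat.swp.mul (d.mat g) := by
    rw [← d.mat_s, ← d.mat_mul hgH d.s_mem_H, ← d.mat_mul d.s_mem_H hgH,
      mul_inv_eq_iff_eq_mul.1 hgs]
  refine Subgroup.mem_centralizer_iff.2 fun a ha => ?_
  have ha' : g * a * g⁻¹ ∈ T.S := (Subgroup.mem_normalizer_iff.1 hg a).1 ha
  have e : g * a * g⁻¹ = a := d.eq_of_mat_eq T.isP T.le ha' ha (by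
    rw [d.mat_mul (mul_mem hgH (T.le ha)) (inv_mem hgH), d.mat_mul hgH (T.le ha),
      sylB_facts.2.2.2 _ (hA.1 g hgH) hgm _ (T.image a ha), ← d.mat_mul (T.le ha) hgH,
      ← d.mat_mul (mul_mem (T.le ha) hgH) (inv_mem hgH), mul_inv_cancel_right])
  exact (mul_inv_eq_iff_eq_mul.1 e).symm

/-- A homomorphism to the signs separating `s` from the rotations, when `s` is fused with the
central involution. -/
theorem exists_signB {g₀ : G} (h₀ : g₀ * d.s * g₀⁻¹ ∈ d.H)
    (hm₀ : d.mat (g₀ * d.s * g₀⁻¹) = Mat.negOne) :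
    ∃ V : G →* ℤˣ, V d.s = -1 ∧ V.ker.index = 2 ∧ (∀ j ∈ d.J, V j = 1) ∧
      ∀ h ∈ d.H, V h = 1 ↔ d.mat h ∈ evenB := by
  let φ : d.H →* ℤˣ :=
    { toFun := fun h => permSign (d.mat h)
      map_one' := by
        show permSign (d.mat 1) = 1
        rw [d.mat_one]; exact permSign_facts.2.1
      map_mul' := fun a b => by
        show permSign (d.mat ((a : G) * b)) = _
        rw [d.mat_mul a.2 b.2]
        exact permSign_facts.1 _ (hA.1 a a.2) _ (hA.1 b b.2) }
  obtain ⟨V, hVs, hK2⟩ := exists_sign φ d.s_sq d.s_mem_H (by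
    show permSign (d.mat d.s) = -1
    rw [d.mat_s]; exact permSign_facts.2.2.1) (fun g hg => by
    rcases d.class_s_B hA (g := g⁻¹) (by rwa [inv_inv]) with ⟨h, -⟩ | h
    · left; simpa using inv_mem h
    · right
      show permSign (d.mat (g⁻¹ * d.s * g)) = 1
      rw [inv_inv] at h
      rw [h]; exact permSign_facts.2.2.2)
  refine ⟨V, hVs, hK2, ?_⟩
  have hVcube : ∀ g : G, g * g * g = 1 → V g = 1 := fun g hg => by
    have h : V g * V g * V g = 1 := by rw [← map_mul, ← map_mul, hg, map_one]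
    rcases Int.units_eq_one_or (V g) with e | e
    · exact e
    · rw [e] at h; exact absurd h (by decide)
  have hVJ : ∀ j ∈ d.J, V j = 1 := fun j hj => hVcube j (d.J_cube hj)
  have hVmat : ∀ a ∈ d.H, ∀ b ∈ d.H, d.mat a = d.mat b → V a = V b := by
    intro a ha b hb h
    have hj : a⁻¹ * b ∈ d.J := d.eq_of_mat_one (mul_mem (inv_mem ha) hb) (by
      rw [d.mat_mul (inv_mem ha) hb, ← h, ← d.mat_mul (inv_mem ha) ha, inv_mul_cancel, d.mat_one])
    have h1 := hVJ _ hj
    rw [map_mul, map_inv, inv_mul_eq_one] at h1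
    exact h1
  have hVa : V (g₀ * d.s * g₀⁻¹) = -1 := by
    rw [map_mul, map_mul, map_inv, mul_comm (V g₀), mul_inv_cancel_right, hVs]
  have hVz : ∀ a ∈ d.H, d.mat a = zMat → V a = 1 := by
    intro a ha e
    rw [hVmat a ha (g₀ * d.s * g₀⁻¹ * d.s) (mul_mem h₀ d.s_mem_H)
      (by rw [e, d.mat_mul h₀ d.s_mem_H, hm₀, d.mat_s, zMat_facts.2.2.1]), map_mul, hVa, hVs]
    rfl
  have hVthree : ∀ a ∈ d.H, ((d.mat a).mul (d.mat a)).mul (d.mat a) = Mat.one → V a = 1 := by
    intro a ha h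
    have hj : a * a * a ∈ d.J := d.eq_of_mat_one (mul_mem (mul_mem ha ha) ha) (by
      rw [d.mat_mul (mul_mem ha ha) ha, d.mat_mul ha ha, h])
    have h1 := hVJ _ hj
    rw [map_mul, map_mul] at h1
    rcases Int.units_eq_one_or (V a) with e | e
    · exact e
    · rw [e] at h1; exact absurd h1 (by decide)
  have hVeven : ∀ a ∈ d.H, d.mat a ∈ evenB → V a = 1 := by
    intro a ha hm
    obtain ⟨p, hp, h3, e⟩ := evenB_facts.2.2.2.2.2.1 _ hm
    obtain ⟨b, hb, rfl⟩ := hA.2 p hp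
    rcases e with e | e
    · rw [hVmat a ha b hb e]; exact hVthree b hb h3
    · obtain ⟨y, hy, hy'⟩ := hA.2 _ (evenB_facts.1 _ evenB_facts.2.2.1)
      rw [hVmat a ha (y * b) (mul_mem hy hb) (by rw [e, d.mat_mul hy hb, hy']), map_mul,
        hVz y hy hy', hVthree b hb h3, one_mul]
  refine ⟨hVJ, fun h hh => ⟨fun hV => ?_, hVeven h hh⟩⟩
  refine (evenB_facts.2.2.2.2.1 _ (hA.1 h hh)).resolve_right fun e => ?_
  rw [← d.mat_s, ← d.mat_mul hh d.s_mem_H] at e
  have h1 := hVeven _ (mul_mem hh d.s_mem_H) e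
  rw [map_mul, hV, hVs] at h1
  exact absurd h1 (by decide)

/-- The transposition is fused with the central involution. -/
theorem normal_caseB_fused {g₀ : G} (h₀ : g₀ * d.s * g₀⁻¹ ∈ d.H)
    (hm₀ : d.mat (g₀ * d.s * g₀⁻¹) = Mat.negOne) : d.J.Normal := by
  classical
  haveI : Fact (Nat.Prime 2) := ⟨Nat.prime_two⟩
  haveI : Fact (Nat.Prime 3) := ⟨Nat.prime_three⟩
  obtain ⟨V, hVs, hK2, hVJ, hVH⟩ := d.exists_signB hA h₀ hm₀
  set K := V.ker with hK
  haveI : K.Normal := V.normal_ker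
  obtain ⟨T⟩ := d.exists_twoSub_B hA
  obtain ⟨z, hzS, hzm⟩ := T.onto zMat (by rw [sylB_facts.1]; simp)
  have hzH : z ∈ d.H := T.le hzS
  have hz2 : z * z = 1 := d.eq_of_mat_eq T.isP T.le (mul_mem hzS hzS) (one_mem _)
    (by rw [d.mat_mul hzH hzH, hzm, zMat_facts.1, d.mat_one])
  have hz1 : z ≠ 1 := fun e => zMat_facts.2.1 (by rw [← hzm, e, d.mat_one])
  have hzord : orderOf z = 2 := orderOf_eq_prime (by rw [pow_two, hz2]) hz1
  have hsz : d.s * z = z * d.s := d.eq_of_mat_eq T.isP T.le (mul_mem T.s_mem hzS)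
    (mul_mem hzS T.s_mem) (by
    rw [d.mat_mul d.s_mem_H hzH, d.mat_mul hzH d.s_mem_H, d.mat_s, hzm]; decide)
  have hzK : z ∈ K := MonoidHom.mem_ker.2 ((hVH z hzH).2 (hzm ▸ evenB_facts.2.2.1))
  set w := d.el wVec with hw
  have hw1 : w ≠ 1 := fun e => absurd (d.el_eq_one.1 e) (by decide)
  have hword : orderOf w = 3 :=
    orderOf_eq_prime (by simpa [pow_succ, hw] using d.el_cube wVec) hw1
  have hwz : w * z = z * w := (d.fixed_iff hzH).1 (by rw [hzm]; exact zMat_facts.2.2.2.2.1)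
  have hsw : d.s * w * d.s⁻¹ = w⁻¹ := by
    rw [hw, d.conj_s, mul_inv_cancel_right, zMat_facts.2.2.2.2.2.1, d.el_neg]
  have hwK : w ∈ K := hVJ _ (d.el_mem _)
  -- the centraliser of `z` and `w`
  have hboth : ∀ g, g * z = z * g → g * w = w * g →
      g ∈ K ∧ ∃ u, d.el u ∈ Subgroup.zpowers w ∧ (g = d.el u ∨ g = z * d.el u) := by
    intro g hgz hgw
    have hgH : g ∈ d.H := d.cent_all hA allSmall_B (v := wVec) (by decide)
      (Subgroup.mem_centralizer_singleton_iff.2 hgw)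
    have hm := evenB_facts.2.2.2.2.2.2.1 _ (hA.1 g hgH)
      (by rw [← hzm, ← d.mat_mul hgH hzH, ← d.mat_mul hzH hgH, hgz])
      (by rw [d.mat_app hgH]; exact d.act_eq hgH (mul_inv_eq_iff_eq_mul.2 hgw))
    refine ⟨MonoidHom.mem_ker.2 ((hVH g hgH).2 ?_), ?_⟩
    · rcases hm with e | e <;> rw [e]
      exacts [evenB_facts.2.1, evenB_facts.2.2.1]
    have hline : ∀ u, d.el u * z = z * d.el u → d.el u ∈ Subgroup.zpowers w := by
      intro u hu
      have h := (d.fixed_iff hzH).2 hu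
      rw [hzm] at h
      rcases zMat_facts.2.2.2.2.2.2.1 u h with rfl | rfl | rfl
      · rw [d.el_zero]; exact one_mem _
      · exact Subgroup.mem_zpowers _
      · rw [d.el_neg]; exact inv_mem (Subgroup.mem_zpowers _)
    rcases hm with e | e
    · obtain ⟨u, hu⟩ := d.eq_of_mat_one hgH e
      exact ⟨u, hline u (by rw [hu]; exact hgz), Or.inl hu.symm⟩
    · obtain ⟨u, hu⟩ := d.eq_of_mat_one (g := z * g) (mul_mem hzH hgH)
        (by rw [d.mat_mul hzH hgH, hzm, e]; exact zMat_facts.1)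
      exact ⟨u, hline u (by rw [hu, mul_assoc, hgz]), Or.inr (by rw [hu, ← mul_assoc, hz2, one_mul])⟩
  have hlw : ∀ y ∈ Subgroup.zpowers w, y = 1 ∨ y = w ∨ y = w⁻¹ := by
    intro y hy
    obtain ⟨n, rfl⟩ := Subgroup.mem_zpowers_iff.1 hy
    rw [← zpow_mod_orderOf, hword]
    have hlo := Int.emod_nonneg n (show (3 : ℤ) ≠ 0 by norm_num)
    have hhi := Int.emod_lt_of_pos n (show (0 : ℤ) < 3 by norm_num)
    push_cast
    rcases (show n % 3 = 0 ∨ n % 3 = 1 ∨ n % 3 = 2 by omega) with e | e | e <;> rw [e]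
    · simp
    · simp
    · refine Or.inr (Or.inr ?_)
      rw [zpow_two]
      exact eq_inv_of_mul_eq_one_left (by rw [hw]; exact d.el_cube _)
  have hboth3 : ∀ g (n : ℕ), g * z = z * g → g * w = w * g → g ^ 3 ^ n = 1 →
      g ∈ Subgroup.zpowers w := by
    intro g n hgz hgw hn
    obtain ⟨-, u, hu, e | e⟩ := hboth g hgz hgw
    · exact e ▸ hu
    · exfalso
      have hcz : Commute z (d.el u) := by
        rcases hlw _ hu with e' | e' | e' <;> rw [e']
        exacts [Commute.one_right _, hwz.symm, Commute.inv_right hwz.symm]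
      obtain ⟨m, hm⟩ : ∃ m, 3 ^ n = 2 * m + 1 := (Odd.pow (by decide : Odd 3))
      rw [e, hcz.mul_pow, hm, pow_succ z, pow_mul, pow_two z, hz2, one_pow, one_mul,
        mul_eq_one_iff_eq_inv] at hn
      have hzJ : z ∈ d.J := hn ▸ inv_mem (pow_mem (d.el_mem u) _)
      exact hz1 (by simpa [hz2] using d.J_cube hzJ)
  have hboth2 : ∀ g, g * z = z * g → g * w = w * g → ¬ 3 ∣ orderOf g → g = 1 ∨ g = z := by
    intro g hgz hgw h3
    obtain ⟨-, u, hu, e⟩ := hboth g hgz hgw
    have hu0 : d.el u = 1 := by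
      by_contra hne
      have hou : orderOf (d.el u) = 3 :=
        orderOf_eq_prime (by simpa [pow_succ] using d.el_cube u) hne
      rcases e with e | e
      · exact h3 (by rw [e, hou])
      · have hcz : Commute z (d.el u) := by
          rcases hlw _ hu with e' | e' | e' <;> rw [e']
          exacts [Commute.one_right _, hwz.symm, Commute.inv_right hwz.symm]
        rw [e, hcz.orderOf_mul_eq_mul_orderOf_of_coprime (by rw [hzord, hou]; norm_num), hou] at h3
        exact h3 (dvd_mul_left 3 _)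
    rw [hu0, mul_one] at e
    exact e
  set D := Subgroup.centralizer ({z} : Set G) ⊓ K with hD
  have hDz : ∀ g ∈ D, g * z = z * g := fun g hg =>
    Subgroup.mem_centralizer_singleton_iff.1 hg.1
  have hwD : w ∈ D := ⟨Subgroup.mem_centralizer_singleton_iff.2 hwz, hwK⟩
  have hzD : z ∈ D := ⟨Subgroup.mem_centralizer_singleton_iff.2 rfl, hzK⟩
  have hnc : ∀ g ∈ D, g * w * g⁻¹ ∈ Subgroup.zpowers w → g * w = w * g := by
    intro g hg hgw
    rcases hlw _ hgw with e | e | e
    · exact absurd (conj_eq_one_iff.1 e) hw1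
    · exact mul_inv_eq_iff_eq_mul.1 e
    · exfalso
      have hsg : d.s * g * w = w * (d.s * g) := mul_inv_eq_iff_eq_mul.1 (by
        calc d.s * g * w * (d.s * g)⁻¹ = d.s * (g * w * g⁻¹) * d.s⁻¹ := by group
          _ = w := by rw [e, ← conj_inv, hsw, inv_inv])
      have h := MonoidHom.mem_ker.1 (hboth (d.s * g)
        (by rw [mul_assoc, hDz g hg, ← mul_assoc, hsz, mul_assoc]) hsg).1
      rw [map_mul, hVs, MonoidHom.mem_ker.1 hg.2] at h
      exact absurd h (by decide)
  -- the Sylow `3`-subgroup of `D`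
  have hWle : Subgroup.zpowers w ≤ D := Subgroup.zpowers_le.2 hwD
  set W := (Subgroup.zpowers w).subgroupOf D with hW
  have hWp : IsPGroup 3 W :=
    ((IsPGroup.of_card (n := 1) (by rw [Nat.card_zpowers, hword, pow_one]) :
      IsPGroup 3 (Subgroup.zpowers w))).of_equiv (Subgroup.subgroupOfEquivOfLe hWle).symm
  obtain ⟨R, hR⟩ := hWp.exists_le_sylow
  have hRW : (R : Subgroup D) = W := by
    refine le_antisymm ?_ hR
    by_contra hlt
    haveI : Group.IsNilpotent (R : Subgroup D) := R.2.isNilpotent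
    have hnil := Group.normalizerCondition_of_isNilpotent (G := (R : Subgroup D))
      (W.subgroupOf R) (lt_top_iff_ne_top.2 fun ht => hlt (Subgroup.subgroupOf_eq_top.1 ht))
    refine hnil.2 fun g hg => Subgroup.mem_subgroupOf.2 ?_
    have h1 : ((g : D) : G) * w * ((g : D) : G)⁻¹ ∈ Subgroup.zpowers w :=
      (Subgroup.mem_normalizer_iff.1 hg ⟨⟨w, hwD⟩, hR (Subgroup.mem_zpowers w : w ∈ Subgroup.zpowers w)⟩).1
        (Subgroup.mem_zpowers w : w ∈ Subgroup.zpowers w)
    obtain ⟨n, hn⟩ := R.2 g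
    exact hboth3 _ n (hDz _ (g : D).2) (hnc _ (g : D).2 h1)
      (by simpa using congrArg (fun y : (R : Subgroup D) => ((y : D) : G)) hn)
  have hle : Subgroup.normalizer ((R : Subgroup D) : Set D) ≤
      Subgroup.centralizer ((R : Subgroup D) : Set D) := by
    intro g hg
    rw [hRW] at hg ⊢
    have h1 : (g : G) * w * (g : G)⁻¹ ∈ Subgroup.zpowers w :=
      (Subgroup.mem_normalizer_iff.1 hg ⟨w, hwD⟩).1 (Subgroup.mem_zpowers w : w ∈ Subgroup.zpowers w)
    have hc : Commute (g : G) w := hnc _ g.2 h1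
    refine Subgroup.mem_centralizer_iff.2 fun y hy => Subtype.ext ?_
    obtain ⟨n, hn⟩ := Subgroup.mem_zpowers_iff.1 (Subgroup.mem_subgroupOf.1 hy)
    show (y : G) * g = g * y
    rw [← hn]
    exact ((hc.zpow_right n).eq).symm
  set ψ := MonoidHom.transferSylow R hle
  set N := ψ.ker.map D.subtype with hN
  have hND : N ≤ D := Subgroup.map_subtype_le _
  have hN3 : ¬ 3 ∣ Nat.card N := by
    rw [hN, Subgroup.card_map_of_injective D.subtype_injective]
    exact MonoidHom.not_dvd_card_ker_transferSylow R hle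
  have hNord : ∀ k ∈ N, ¬ 3 ∣ orderOf k := fun k hk h =>
    hN3 (h.trans (Subgroup.orderOf_dvd_natCard N hk))
  have hNchar : ∀ y ∈ D, ¬ 3 ∣ orderOf y → y ∈ N := by
    intro y hy h3
    refine ⟨⟨y, hy⟩, MonoidHom.mem_ker.2 ?_, rfl⟩
    obtain ⟨k, hk⟩ := IsPGroup.iff_card.1 R.2
    have h1 : orderOf (ψ ⟨y, hy⟩) ∣ 3 ^ k := hk ▸ orderOf_dvd_natCard _
    have hco : (3 ^ k).Coprime (orderOf (⟨y, hy⟩ : D)) :=
      Nat.Coprime.pow_left _ (Nat.prime_three.coprime_iff_not_dvd.2 (by rwa [Subgroup.orderOf_mk]))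
    exact orderOf_eq_one_iff.1 (Nat.eq_one_of_dvd_coprimes hco h1 (orderOf_map_dvd ψ _))
  have hNinv : ∀ g, g * z = z * g → g ∈ Subgroup.normalizer (N : Set G) := by
    have hone : ∀ g, g * z = z * g → ∀ k ∈ N, g * k * g⁻¹ ∈ N := by
      intro g hg k hk
      refine hNchar _ ⟨?_, ‹K.Normal›.conj_mem k (hND hk).2 g⟩ ?_
      · have hgC : g ∈ Subgroup.centralizer ({z} : Set G) :=
          Subgroup.mem_centralizer_singleton_iff.2 hg
        show g * k * g⁻¹ ∈ Subgroup.centralizer ({z} : Set G)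
        exact mul_mem (mul_mem hgC (hND hk).1) (inv_mem hgC)
      · rw [show orderOf (g * k * g⁻¹) = orderOf k from (MulAut.conj g).orderOf_eq k]
        exact hNord k hk
    exact fun g hg => Subgroup.mem_normalizer_iff.2 fun k => ⟨hone g hg k, fun h => by
      simpa [mul_assoc] using hone g⁻¹ (Commute.inv_left hg).eq _ h⟩
  have hzN : z ∈ N := hNchar z hzD (by rw [hzord]; norm_num)
  -- an invariant Sylow `2`-subgroup of `N`
  have hwN : Subgroup.zpowers w ≤ Subgroup.normalizer (N : Set G) :=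
    Subgroup.zpowers_le.2 (hNinv w hwz)
  have hcop : (Nat.card (Subgroup.zpowers w)).Coprime (Nat.card N) := by
    rw [Nat.card_zpowers, hword]
    exact Nat.prime_three.coprime_iff_not_dvd.2 hN3
  have hsolv : Group.IsSolvable (Subgroup.zpowers w) :=
    isSolvable_of_comm fun a b => Subtype.ext (by
      obtain ⟨i, hi⟩ := Subgroup.mem_zpowers_iff.1 a.2
      obtain ⟨j, hj⟩ := Subgroup.mem_zpowers_iff.1 b.2
      rw [Subgroup.coe_mul, Subgroup.coe_mul, ← hi, ← hj, zpow_mul_comm])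
  obtain ⟨P, hPA⟩ := Coprime.exists_invariant_sylow hwN hcop (Or.inl hsolv) 2
  set Q := (P : Subgroup N).map N.subtype with hQ
  have hQN : Q ≤ N := Subgroup.map_subtype_le _
  have hQp : IsPGroup 2 Q := P.2.map _
  have hQmax : ∀ Y : Subgroup G, Q ≤ Y → Y ≤ N → IsPGroup 2 Y → Y = Q := by
    intro Y h1 h2 h3
    have e := P.3 (h3.of_equiv (Subgroup.subgroupOfEquivOfLe h2).symm)
      (fun p hp => (h1 ⟨p, hp, rfl⟩ : (p : G) ∈ Y))
    rw [hQ, ← e, Subgroup.subgroupOf_map_subtype, inf_eq_left.2 h2]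
  have habsorb : ∀ g, g ∈ N → (∃ n, g ^ 2 ^ n = 1) → g ∈ Subgroup.normalizer (Q : Set G) →
      g ∈ Q := by
    intro g hg ⟨n, hn⟩ hgQ
    have hp : IsPGroup 2 (Subgroup.zpowers g) := by
      obtain ⟨i, -, hi⟩ := (Nat.dvd_prime_pow Nat.prime_two).1 (orderOf_dvd_of_pow_eq_one hn)
      exact IsPGroup.of_card (n := i) (by rw [Nat.card_zpowers, hi])
    rw [← hQmax _ le_sup_left (sup_le hQN (Subgroup.zpowers_le.2 hg))
      (hQp.to_sup_of_normal_left' hp (Subgroup.zpowers_le.2 hgQ))]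
    exact Subgroup.mem_sup_right (Subgroup.mem_zpowers g)
  have hzc : ∀ q ∈ Q, q * z = z * q := fun q hq => hDz q (hND (hQN hq))
  have hzQ : z ∈ Q := habsorb z hzN ⟨1, by rw [pow_one, pow_two, hz2]⟩
    (Subgroup.centralizer_le_normalizer _ (Subgroup.mem_centralizer_iff.2 fun q hq => hzc q hq))
  have hsQ : MulAut.conj d.s • Q = Q := by
    have hle' : MulAut.conj d.s • Q ≤ N := fun y hy => by
      have h := (Subgroup.mem_normalizer_iff.1 (hNinv _ hsz) _).1 (hQN (Coprime.mem_conj_smul.1 hy))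
      simpa [mul_assoc] using h
    have hc : Nat.card ((MulAut.conj d.s • Q).subgroupOf N) =
        2 ^ (Nat.card N).factorization 2 := by
      rw [Nat.card_congr (Subgroup.subgroupOfEquivOfLe hle').toEquiv, Coprime.card_conj_smul, hQ,
        Subgroup.card_map_of_injective N.subtype_injective, P.card_eq_multiplicity]
    obtain ⟨g, hg, e⟩ := Coprime.exists_conj_map_sylow P (Sylow.ofCard _ hc)
    rw [Sylow.coe_ofCard, Subgroup.subgroupOf_map_subtype, inf_eq_left.2 hle'] at e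
    have hQA : Subgroup.zpowers w ≤
        Subgroup.normalizer ((MulAut.conj d.s • Q : Subgroup G) : Set G) := by
      refine Subgroup.zpowers_le.2 (Coprime.mem_normalizer_iff_conj_smul_eq.2 ?_)
      have hws : w * d.s = d.s * w⁻¹ := by
        rw [← hsw, show d.s⁻¹ = d.s from inv_eq_of_mul_eq_one_left d.s_sq,
          ← mul_assoc, ← mul_assoc, d.s_sq, one_mul]
      rw [Coprime.conj_smul_conj_smul, hws, ← Coprime.conj_smul_conj_smul,
        Coprime.conj_smul_eq_self (inv_mem (hPA (Subgroup.mem_zpowers w)))]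
    obtain ⟨c, hc', e'⟩ := Coprime.exists_conj_eq_of_invariant hwN hcop (Or.inl hsolv) hPA hQA hg e
    have hcQ : c ∈ Q := by
      have h := Subgroup.mem_centralizer_iff.1 hc'.2 w (Subgroup.mem_zpowers w)
      rcases hboth2 c (hDz c (hND hc'.1)) h.symm (hNord c hc'.1) with rfl | rfl
      exacts [one_mem _, hzQ]
    rw [← e', Coprime.conj_smul_eq_self (Subgroup.le_normalizer hcQ)]
  have hns : ∀ q ∈ Q, d.s * q * d.s⁻¹ ∈ Q := fun q hq =>
    (Subgroup.mem_normalizer_iff.1 (Coprime.mem_normalizer_iff_conj_smul_eq.2 hsQ) q).1 hq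
  have hnw : ∀ q ∈ Q, w * q * w⁻¹ ∈ Q := fun q hq =>
    (Subgroup.mem_normalizer_iff.1 (hPA (Subgroup.mem_zpowers w)) q).1 hq
  have hcw : ∀ q ∈ Q, w * q = q * w → q ∈ Subgroup.zpowers z := by
    intro q hq h
    rcases hboth2 q (hzc q hq) h.symm (hNord q (hQN hq)) with rfl | rfl
    exacts [one_mem _, Subgroup.mem_zpowers _]
  have hcs : ∀ q ∈ Q, d.s * q = q * d.s → q ∈ Subgroup.zpowers z := by
    intro q hq h
    have hqH : q ∈ d.H := d.centS_B hA (Subgroup.mem_centralizer_singleton_iff.2 h.symm)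
    have hqK : q ∈ K := (hND (hQN hq)).2
    have hq3 := hNord q (hQN hq)
    have hm := evenB_facts.2.2.2.2.2.2.2 _ (hA.1 q hqH)
      (by rw [← d.mat_s, ← d.mat_mul hqH d.s_mem_H, ← d.mat_mul d.s_mem_H hqH, h])
      ((hVH q hqH).1 (MonoidHom.mem_ker.1 hqK))
    have hfix : ∀ u, d.el u * z = z * d.el u → d.el u * d.s = d.s * d.el u → d.el u = 1 := by
      intro u h1 h2
      have h1' := (d.fixed_iff hzH).2 h1
      have h2' := (d.fixed_iff d.s_mem_H).2 h2
      rw [hzm] at h1'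
      rw [d.mat_s] at h2'
      rw [zMat_facts.2.2.2.2.2.2.2 u h1' h2', d.el_zero]
    rcases hm with e | e
    · obtain ⟨u, hu⟩ := d.eq_of_mat_one hqH e
      rw [← hu, hfix u (by rw [hu]; exact hzc q hq) (by rw [hu]; exact h.symm)]
      exact one_mem _
    · obtain ⟨u, hu⟩ := d.eq_of_mat_one (g := z * q) (mul_mem hzH hqH)
        (by rw [d.mat_mul hzH hqH, hzm, e]; exact zMat_facts.1)
      have h1 := hfix u (by rw [hu, mul_assoc, hzc q hq])
        (by rw [hu, mul_assoc, ← h, ← mul_assoc, ← hsz, mul_assoc])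
      rw [hu, mul_eq_one_iff_eq_inv] at h1
      have hqz : q = z := by rw [← inv_inv q, ← h1, inv_eq_of_mul_eq_one_left hz2]
      rw [hqz]; exact Subgroup.mem_zpowers _
  have hsord : orderOf d.s = 2 :=
    orderOf_eq_prime (by rw [pow_two, d.s_sq]) (d.s_ne_one_B hA)
  have hshape := card_two_or_quaternion Q hQp hzQ hzord hword hsord hsw hwz hsz hzc hnw hns hcw hcs
  -- the only involution of `Q`
  have hinv : ∀ q ∈ Q, q * q = 1 → q ≠ 1 → q = z := by
    intro q hq hqq hq1
    rcases hshape with h2 | ⟨⟨e⟩⟩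
    · have hle2 : Subgroup.zpowers z = Q := Subgroup.eq_of_le_of_card_ge
        (Subgroup.zpowers_le.2 hzQ) (by rw [h2, Nat.card_zpowers, hzord])
      have hq' : q ∈ Subgroup.zpowers z := hle2 ▸ hq
      obtain ⟨n, rfl⟩ := Subgroup.mem_zpowers_iff.1 hq'
      rw [← zpow_mod_orderOf, hzord] at hq1 ⊢
      rcases Int.emod_two_eq_zero_or_one n with e | e <;> push_cast at hq1 ⊢ <;>
        rw [e] at hq1 ⊢ <;> simp at hq1 ⊢
    · exact congrArg Subtype.val (e.injective (quaternion_one_invol (e ⟨q, hq⟩) (e ⟨z, hzQ⟩)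
        (by rw [← map_mul, show (⟨q, hq⟩ * ⟨q, hq⟩ : Q) = 1 from Subtype.ext hqq, map_one])
        (by rw [← map_mul, show (⟨z, hzQ⟩ * ⟨z, hzQ⟩ : Q) = 1 from Subtype.ext hz2, map_one])
        (fun h => hq1 (congrArg Subtype.val (e.map_eq_one_iff.1 h)))
        fun h => hz1 (congrArg Subtype.val (e.map_eq_one_iff.1 h))))
  -- it is a Sylow subgroup of `K`
  have hQK : Q ≤ K := fun q hq => (hND (hQN hq)).2
  obtain ⟨S, hS⟩ := (hQp.of_equiv (Subgroup.subgroupOfEquivOfLe hQK).symm).exists_le_sylow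
  have hSQ : (S : Subgroup K) = Q.subgroupOf K := by
    refine le_antisymm ?_ hS
    by_contra hlt
    haveI : Group.IsNilpotent (S : Subgroup K) := S.2.isNilpotent
    have hnil := Group.normalizerCondition_of_isNilpotent (G := (S : Subgroup K))
      ((Q.subgroupOf K).subgroupOf S) (lt_top_iff_ne_top.2 fun ht => hlt (Subgroup.subgroupOf_eq_top.1 ht))
    refine hnil.2 fun g hg => Subgroup.mem_subgroupOf.2 (Subgroup.mem_subgroupOf.2 ?_)
    set y : G := ((g : K) : G) with hy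
    have hconj : ∀ q ∈ Q, y * q * y⁻¹ ∈ Q := fun q hq =>
      (Subgroup.mem_normalizer_iff.1 hg ⟨⟨q, hQK hq⟩, hS hq⟩).1 hq
    have hmap : Q.map (MulAut.conj y).toMonoidHom = Q :=
      Subgroup.eq_of_le_of_card_ge (by rintro _ ⟨q, hq, rfl⟩; exact hconj q hq)
        (Subgroup.card_map_of_injective (MulAut.conj y).injective).ge
    have hyQ : y ∈ Subgroup.normalizer (Q : Set G) :=
      Subgroup.mem_normalizer_iff.2 fun q => ⟨hconj q, fun h => by
        rw [← hmap] at h
        obtain ⟨q', hq', e⟩ := h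
        rwa [← (MulAut.conj y).injective (show MulAut.conj y q' = MulAut.conj y q from e)]⟩
    have hyz : y * z = z * y := mul_inv_eq_iff_eq_mul.1 (hinv _ (hconj z hzQ)
      (by rw [show y * z * y⁻¹ * (y * z * y⁻¹) = y * (z * z) * y⁻¹ by group, hz2, mul_one,
        mul_inv_cancel]) fun e => hz1 (conj_eq_one_iff.1 e))
    obtain ⟨n, hn⟩ := S.2 g
    have hn' : y ^ 2 ^ n = 1 := by
      simpa [hy] using congrArg (fun v : (S : Subgroup K) => ((v : K) : G)) hn
    refine habsorb y (hNchar y ⟨Subgroup.mem_centralizer_singleton_iff.2 hyz, (g : K).2⟩ fun h => ?_)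
      ⟨n, hn'⟩ hyQ
    exact absurd (Nat.prime_three.dvd_of_dvd_pow (h.trans (orderOf_dvd_of_pow_eq_one hn')))
      (by norm_num)
  let eS : (S : Subgroup K) ≃* Q :=
    (MulEquiv.subgroupCongr hSQ).trans (Subgroup.subgroupOfEquivOfLe hQK)
  rcases hshape with h2 | ⟨⟨e⟩⟩
  · have hS2 : Nat.card (S : Subgroup K) = 2 := (Nat.card_congr eS.toEquiv).trans h2
    obtain ⟨O, hO, hodd, hcard⟩ := exists_odd_complement S (fun g hg => by
      refine Subgroup.mem_centralizer_iff.2 fun a ha => ?_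
      by_cases ha1 : a = 1
      · subst ha1; simp
      have hb : g * a * g⁻¹ ∈ (S : Subgroup K) := (Subgroup.mem_normalizer_iff.1 hg a).1 ha
      haveI : Fintype (S : Subgroup K) := Fintype.ofFinite _
      have heq : (⟨g * a * g⁻¹, hb⟩ : (S : Subgroup K)) = ⟨a, ha⟩ := by
        by_contra hne
        have h3 : ({1, ⟨a, ha⟩, ⟨g * a * g⁻¹, hb⟩} : Finset (S : Subgroup K)).card = 3 := by
          rw [Finset.card_insert_of_notMem, Finset.card_pair (Ne.symm hne)]
          simp only [Finset.mem_insert, Finset.mem_singleton, not_or]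
          exact ⟨fun e => ha1 (congrArg Subtype.val e).symm,
            fun e => ha1 (conj_eq_one_iff.1 (congrArg Subtype.val e).symm)⟩
        have h4 := Finset.card_le_univ
          ({1, ⟨a, ha⟩, ⟨g * a * g⁻¹, hb⟩} : Finset (S : Subgroup K))
        rw [← Nat.card_eq_fintype_card, h3, hS2] at h4
        omega
      exact (mul_inv_eq_iff_eq_mul.1 (congrArg Subtype.val heq)).symm)
    refine d.normal_of_odd_sub hO (fun e => ?_) hodd
    rw [e, Subgroup.card_bot, one_mul, hS2] at hcard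
    have h27 := Subgroup.card_dvd_of_le (show d.J ≤ K from hVJ)
    rw [d.card_J, ← hcard] at h27
    norm_num at h27
  · by_cases hO : ∀ O : Subgroup K, O.Normal → Odd (Nat.card O) → O = ⊥
    · have hc := Cfsg.Agent.S0201.result S 0 (eS.trans e) hO
      set Z := (Subgroup.center K).map K.subtype with hZ
      haveI : Z.Normal := ConjAct.normal_of_characteristic_of_normal
      have hZc : Nat.card Z = 2 := by
        rw [hZ, Subgroup.card_map_of_injective K.subtype_injective, hc]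
      have := d.sig Z (by rw [hZc]; norm_num)
        fun v k hk => ‹Z.Normal›.conj_mem k hk (d.el v)
      rw [this, Subgroup.card_bot] at hZc
      omega
    · push Not at hO
      obtain ⟨O, h1, h2, h3⟩ := hO
      exact d.normal_of_odd_sub h1 h3 h2

/-- Then the base is normal. -/
theorem normal_caseB : d.J.Normal := by
  by_cases h : ∃ g : G, g * d.s * g⁻¹ ∈ d.H ∧ d.mat (g * d.s * g⁻¹) = Mat.negOne
  · obtain ⟨g, h1, h2⟩ := h
    exact d.normal_caseB_fused hA h1 h2
  · push Not at h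
    exact d.normal_caseB_apart hA h

end Setup

end CfsgLib.SymNineRecog
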