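import Cfsg.Agent.SymNineRecog.Lists
import Cfsg.Agent.SymNineRecog.TwoSub
import Mathlib.Data.ZMod.Basic

/-!
# Facts on the automiser `Sym 4`
-/

set_option autoImplicit false

namespace CfsgLib.SymNineRecog

set_option maxRecDepth 100000

/-- The three sign changes. -/
def dList : List Mat := [diag .o .t .t, diag .t .o .t, diag .t .t .o]

/-- The four-group of sign changes. -/
def dGroup : List Mat := diag .o .o .o :: dList

/-- The even part. -/
def evenE : List Mat :=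
  dGroup.flatMap fun a => [pmat 0 0, pmat 1 0, pmat 2 0].map fun p => a.mul p

/-- The determinant as a sign. -/
def detSign (m : Mat) : ℤˣ := if m.det.beq .o then 1 else -1

/-- The rotation of the coordinate lines. -/
def cycIdx (m : Mat) : Fin 3 :=
  if (dGroup.map fun a => a.mul (pmat 1 0)).any (fun n => m.beq n) then 1 else
    if (dGroup.map fun a => a.mul (pmat 2 0)).any (fun n => m.beq n) then 2 else 0

theorem detSign_mul : ∀ m ∈ listE, ∀ n ∈ listE, detSign (m.mul n) = detSign m * detSign n := by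
  decide +kernel

theorem detSign_facts : detSign Mat.one = 1 ∧ detSign Mat.swp = -1 ∧
    (∀ m ∈ evenE, detSign m = 1) ∧
    (∀ m ∈ listE, m ∈ evenE ∨ (m.mul Mat.swp ∈ evenE)) := by decide +kernel

theorem even_facts : (∀ m ∈ evenE, m ∈ listE) ∧ Mat.cyc ∈ evenE ∧ Mat.one ∈ evenE ∧
    (∀ m ∈ evenE, ∃ a ∈ evenE, ∃ b ∈ evenE, (a.mul a).mul a = Mat.one ∧
      (b.mul b).mul b = Mat.one ∧ m = a.mul b) ∧
    (∀ m ∈ evenE, ∃ dd ∈ dGroup, m = dd.mul (pmat (cycIdx m) 0)) := by decide +kernel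

theorem cycIdx_facts : (∀ m ∈ evenE, ∀ n ∈ evenE, cycIdx (m.mul n) = cycIdx m + cycIdx n) ∧
    cycIdx Mat.one = 0 ∧ cycIdx Mat.cyc = 1 ∧ (∀ dd ∈ dGroup, cycIdx dd = 0) ∧
    ∀ m ∈ evenE, cycIdx m = 0 → m ∈ dGroup := by decide +kernel

theorem invol_classes : ∀ m ∈ listE, m.mul m = Mat.one → m ≠ Mat.one →
    (∃ p ∈ listE, p.mul m = Mat.swp.mul p) ∨ m ∈ dList := by decide +kernel

theorem sylE_facts : (sylList listE).length = 8 ∧ centTwoCheck listE ∧
    (∀ dd ∈ dGroup, dd ∈ sylList listE ∧ dd ∈ evenE) ∧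
    (∀ m ∈ sylList listE, (∃ p ∈ listE, p.mul m = Mat.swp.mul p) →
      ∃ q ∈ sylList listE, q.mul Mat.swp = m.mul q) := by decide +kernel

theorem threeE_facts :
    (∀ m ∈ listE, m.mul Mat.swp = Mat.swp.mul m → (m.mul m).mul m = Mat.one → m = Mat.one) ∧
    ∀ dd ∈ dList, dd ∈ listE ∧ (Finset.univ.filter fun u => dd.app u = u).card = 3 ∧
      (∀ m ∈ listE, m.mul dd = dd.mul m → (m.mul m).mul m = Mat.one → m = Mat.one) := by
  decide +kernel

theorem dGroup_facts : dGroup.Nodup ∧ dGroup.length = 4 ∧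
    (∀ dd ∈ dGroup, dd.mul dd = Mat.one ∧ (dd = Mat.one ∨ dd ∈ dList)) ∧
    (∀ v, isUnitVec v → ∃ dd ∈ dList, dd.app v = negVec v) ∧
    (∀ dd ∈ dList, ∀ de ∈ dList, dd ≠ de → ∀ v w, dd.app v = v → de.app w = w → v ≠ oVec →
      ∀ m ∈ dGroup, m.app v ≠ w) := by decide +kernel

theorem orbitE : (∀ m ∈ listE, m.app xVec ≠ yVec) ∧ ∀ m ∈ listE, ∀ a ∈ listE, ∀ b ∈ listE,
    ¬ (a.app xVec = xVec.add (m.app xVec) ∧ b.app xVec = xVec.add (negVec (m.app xVec))) := by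
  decide +kernel

theorem three_facts : (∀ c : Multiplicative (ZMod 3), c ^ 3 = 1) ∧
    Multiplicative.ofAdd (1 : ZMod 3) ≠ 1 ∧
    (∀ t : Multiplicative (ZMod 3), t * t = 1 → t = 1) ∧
    (∀ t : Multiplicative (ZMod 3), t = t⁻¹ → t = 1) ∧
    ∀ i : Fin 3, Multiplicative.ofAdd (1 : ZMod 3) ^ (i : ℕ) = 1 → i = 0 := by
  decide +kernel

theorem three_cast : ∀ i k : Fin 3, (((i + k : Fin 3) : ℕ) : ZMod 3) = (i : ℕ) + (k : ℕ) := by
  decide +kernel

end CfsgLib.SymNineRecog
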