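import Cfsg.Agent.SymNineRecog.NonConj
import Cfsg.Agent.SymNineRecog.FactsE

/-!
# The automiser is `Sym 4` on the lines with determinant one on the diagonal

The sign splits off a subgroup of index two, the rotation of the lines one of index three, and that
has a four-group as Sylow subgroup, central in its normaliser.
-/

set_option autoImplicit false
set_option linter.style.haveILetI false
set_option linter.unusedSectionVars false

namespace CfsgLib.SymNineRecog

set_option maxRecDepth 100000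

universe u

namespace Setup

variable {G : Type u} [Group G] [Finite G] (d : Setup G) (hA : d.AutList listE)
include hA

theorem centS_E : Subgroup.centralizer ({d.s} : Set G) ≤ d.H :=
  d.cent_invol_le d.s_mem_H d.s_sq hA (by rw [d.mat_s]; exact involCheck_E)
    fun u _ hu => d.cent_all hA allSmall_E hu

theorem s_ne_one : d.s ≠ 1 := fun e => by
  have h := d.mat_s
  rw [e, d.mat_one] at h
  exact absurd h (by decide)

/-- The class of `s` in `H`. -/
theorem mem_H_of_conj {g : G} (hg : g * d.s * g⁻¹ ∈ d.H) : g ∈ d.H ∧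
    ∃ p ∈ listE, p.mul (d.mat (g * d.s * g⁻¹)) = Mat.swp.mul p := by
  set a := g * d.s * g⁻¹ with ha
  have ha2 : a * a = 1 := by
    rw [ha, show g * d.s * g⁻¹ * (g * d.s * g⁻¹) = g * (d.s * d.s) * g⁻¹ by group, d.s_sq, mul_one,
      mul_inv_cancel]
  have hm2 : (d.mat a).mul (d.mat a) = Mat.one := by rw [← d.mat_mul hg hg, ha2, d.mat_one]
  have hm1 : d.mat a ≠ Mat.one := fun e => by
    have h : a ∈ d.J := d.eq_of_mat_one hg e
    have h3 := d.J_cube h
    rw [ha2, one_mul, ha] at h3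
    exact d.s_ne_one hA (conj_eq_one_iff.1 h3)
  rcases invol_classes _ (hA.1 a hg) hm2 hm1 with ⟨p, hp, e⟩ | hd
  · refine ⟨?_, p, hp, e⟩
    obtain ⟨k, hk, rfl⟩ := hA.2 p hp
    have hka : k * a * k⁻¹ ∈ d.H := mul_mem (mul_mem hk hg) (inv_mem hk)
    obtain ⟨j, hj, ej⟩ := d.conj_of_mat_eq hka d.s_mem_H
      (by rw [show k * a * k⁻¹ * (k * a * k⁻¹) = k * (a * a) * k⁻¹ by group, ha2, mul_one,
        mul_inv_cancel]) d.s_sq (by
        rw [d.mat_mul (mul_mem hk hg) (inv_mem hk), d.mat_mul hk hg, e, ← d.mat_s,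
          ← d.mat_mul d.s_mem_H hk, ← d.mat_mul (mul_mem d.s_mem_H hk) (inv_mem hk),
          mul_inv_cancel_right])
    have hc : j * k * g ∈ d.H := d.centS_E hA (Subgroup.mem_centralizer_singleton_iff.2
      (mul_inv_eq_iff_eq_mul.1 (by
        calc j * k * g * d.s * (j * k * g)⁻¹ = j * (k * a * k⁻¹) * j⁻¹ := by rw [ha]; group
          _ = d.s := ej)))
    simpa [mul_assoc] using d.H.mul_mem (d.H.inv_mem (mul_mem (d.J_le_H hj) hk)) hc
  · obtain ⟨hdl, h3, hz⟩ := threeE_facts.2 _ hd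
    refine absurd ha.symm (d.not_conj_line hA d.s_mem_H hg (d.centS_E hA) ?_ h3
      (fun u hu => d.cent_all hA allSmall_E hu) (by rw [d.mat_s]; exact threeE_facts.1) hz g)
    rw [d.mat_s]; exact involCheck_E.1

/-- An element of order three of `H` is in the base or conjugate to `c` or its inverse. -/
theorem conj_c_or_mem_J {a : G} (ha : a ∈ d.H) (h3 : a * a * a = 1) :
    a ∈ d.J ∨ ∃ k : G, k * a * k⁻¹ = d.c ∨ k * a * k⁻¹ = d.c⁻¹ := by
  by_cases haJ : a ∈ d.J
  · exact Or.inl haJ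
  obtain ⟨k, -, v, i, hi, e⟩ := d.exists_outside ha (n := 1) (by simpa [pow_succ] using h3) haJ
  have hcube : tmul (tmul (v, i, 0) (v, i, 0)) (v, i, 0) = (oVec, 0, 0) := d.of_injective (by
    rw [d.of_mul, d.of_mul, ← e, d.of_zero, d.el_zero,
      show k * a * k⁻¹ * (k * a * k⁻¹) * (k * a * k⁻¹) = k * (a * a * a) * k⁻¹ by group, h3,
      mul_one, mul_inv_cancel])
  obtain ⟨b, hb⟩ := shear_facts.2 v i hi hcube
  have key : ∀ b v : Vec, ∀ i : Fin 3, b.add (tact i 0 (negVec b)) = negVec v →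
      tmul (tmul (b, 0, 0) (v, i, 0)) (negVec b, 0, 0) = (oVec, i, 0) := by decide +kernel
  have hc : d.el b * (k * a * k⁻¹) * (d.el b)⁻¹ = d.c ^ (i : ℕ) := by
    rw [e, ← d.el_neg, ← d.of_zero b, ← d.of_zero (negVec b), ← d.of_mul, ← d.of_mul, key b v i hb]
    simp [Frame.of, d.el_zero]
  refine Or.inr ⟨d.el b * k, ?_⟩
  rw [show d.el b * k * a * (d.el b * k)⁻¹ = d.el b * (k * a * k⁻¹) * (d.el b)⁻¹ by group, hc]
  rcases (show (i : ℕ) = 1 ∨ (i : ℕ) = 2 by omega) with e1 | e1 <;> rw [e1]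
  · exact Or.inl (pow_one _)
  · exact Or.inr (by rw [pow_two]; exact eq_inv_of_mul_eq_one_left d.c_cube)

/-- Then the base is normal. -/
theorem normal_caseE : d.J.Normal := by
  classical
  haveI : Fact (Nat.Prime 2) := ⟨Nat.prime_two⟩
  haveI : Fact (Nat.Prime 3) := ⟨Nat.prime_three⟩
  obtain ⟨hlen8, hchk, hdsyl, hfusE⟩ := sylE_facts
  obtain ⟨T⟩ := d.exists_twoSub hA lists_facts.2.2.2.1 lists_sub.2.2 3 81
    (by rw [lists_facts.2.2.2.2.2.2.2.1]; norm_num) (by decide) (by norm_num)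
    (by rw [hlen8]; norm_num)
  -- the Sylow subgroup
  obtain ⟨P, hP⟩ := exists_sylow_eq T.isP T.s_mem (fun g hg => by
    obtain ⟨hgH, hp⟩ := d.mem_H_of_conj hA (T.le hg)
    obtain ⟨q, hq, e⟩ := hfusE _ (T.image _ hg) hp
    obtain ⟨r, hr, rfl⟩ := T.onto q hq
    refine ⟨r, hr, d.eq_of_mat_eq T.isP T.le (mul_mem (mul_mem hr T.s_mem) (inv_mem hr)) hg ?_⟩
    rw [d.mat_mul (mul_mem (T.le hr) d.s_mem_H) (inv_mem (T.le hr)),
      d.mat_mul (T.le hr) d.s_mem_H, d.mat_s, e, ← d.mat_mul (T.le hg) (T.le hr),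
      ← d.mat_mul (mul_mem (T.le hg) (T.le hr)) (inv_mem (T.le hr)), mul_inv_cancel_right])
    (fun R hR hRs hle => d.two_cent_le hA hchk lists_sub.2.2 (d.centS_E hA) T hR hRs
      lists_facts.2.2.2.1 (by rw [lists_facts.2.2.2.2.2.2.2.1]; norm_num) hle)
  -- the sign
  let φ : d.H →* ℤˣ :=
    { toFun := fun h => detSign (d.mat h)
      map_one' := by
        show detSign (d.mat 1) = 1
        rw [d.mat_one]; exact detSign_facts.1
      map_mul' := fun a b => by
        show detSign (d.mat ((a : G) * b)) = _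
        rw [d.mat_mul a.2 b.2]
        exact detSign_mul _ (hA.1 a a.2) _ (hA.1 b b.2) }
  obtain ⟨V, hVs, hK2⟩ := exists_sign φ d.s_sq d.s_mem_H (by
    show detSign (d.mat d.s) = -1
    rw [d.mat_s]; exact detSign_facts.2.1) (fun g hg => by
    left
    have := (d.mem_H_of_conj hA (g := g⁻¹) (by rwa [inv_inv])).1
    simpa using inv_mem this)
  set K := V.ker with hK
  haveI : K.Normal := V.normal_ker
  have hVcube : ∀ g : G, g * g * g = 1 → V g = 1 := fun g hg => by
    have h : V g * V g * V g = 1 := by rw [← map_mul, ← map_mul, hg, map_one]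
    rcases Int.units_eq_one_or (V g) with e | e
    · exact e
    · rw [e] at h; exact absurd h (by decide)
  have hVJ : ∀ j ∈ d.J, V j = 1 := fun j hj => hVcube j (d.J_cube hj)
  have hVmat : ∀ a ∈ d.H, ∀ b ∈ d.H, d.mat a = d.mat b → V a = V b := by
    intro a ha b hb h
    have hj : a⁻¹ * b ∈ d.J := d.eq_of_mat_one (mul_mem (inv_mem ha) hb) (by
      rw [d.mat_mul (inv_mem ha) hb, ← h, ← d.mat_mul (inv_mem ha) ha, inv_mul_cancel, d.mat_one])
    have h1 := hVJ _ hj
    rw [map_mul, map_inv, inv_mul_eq_one] at h1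
    exact h1
  have hVthree : ∀ a ∈ d.H, ((d.mat a).mul (d.mat a)).mul (d.mat a) = Mat.one → V a = 1 := by
    intro a ha h
    have hj : a * a * a ∈ d.J := d.eq_of_mat_one (mul_mem (mul_mem ha ha) ha) (by
      rw [d.mat_mul (mul_mem ha ha) ha, d.mat_mul ha ha, h])
    have h1 := hVJ _ hj
    rw [map_mul, map_mul] at h1
    rcases Int.units_eq_one_or (V a) with e | e
    · exact e
    · rw [e] at h1; exact absurd h1 (by decide)
  have hVeven : ∀ a ∈ d.H, d.mat a ∈ evenE → V a = 1 := by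
    intro a ha hm
    obtain ⟨m₁, hm₁, m₂, hm₂, h1, h2, e⟩ := even_facts.2.2.2.1 _ hm
    obtain ⟨b₁, hb₁, rfl⟩ := hA.2 _ (even_facts.1 _ hm₁)
    obtain ⟨b₂, hb₂, rfl⟩ := hA.2 _ (even_facts.1 _ hm₂)
    rw [hVmat a ha (b₁ * b₂) (mul_mem hb₁ hb₂) (by rw [e, d.mat_mul hb₁ hb₂]), map_mul,
      hVthree _ hb₁ h1, hVthree _ hb₂ h2, one_mul]
  have hKH : ∀ h ∈ d.H, h ∈ K → d.mat h ∈ evenE := by
    intro h hh hhK
    refine (detSign_facts.2.2.2 _ (hA.1 h hh)).resolve_right fun e => ?_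
    rw [← d.mat_s, ← d.mat_mul hh d.s_mem_H] at e
    have h1 := hVeven _ (mul_mem hh d.s_mem_H) e
    rw [map_mul, MonoidHom.mem_ker.1 hhK, hVs] at h1
    exact absurd h1 (by decide)
  have hcK : d.c ∈ K := hVeven _ d.c_mem_H (by rw [d.mat_c]; exact even_facts.2.1)
  -- the rotation
  have hcx := d.c_not_conj_x hA orbitE.1 orbitE.2
  let C : Subgroup K := d.H.subgroupOf K
  let ψ : C →* Multiplicative (ZMod 3) :=
    { toFun := fun h => Multiplicative.ofAdd ((cycIdx (d.mat ((h : K) : G)) : ℕ) : ZMod 3)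
      map_one' := by
        show Multiplicative.ofAdd ((cycIdx (d.mat 1) : ℕ) : ZMod 3) = 1
        rw [d.mat_one, cycIdx_facts.2.1]; rfl
      map_mul' := fun a b => by
        show Multiplicative.ofAdd ((cycIdx (d.mat (((a : K) : G) * ((b : K) : G))) : ℕ) : ZMod 3) = _
        rw [d.mat_mul (g := ((a : K) : G)) (h := ((b : K) : G)) a.2 b.2, cycIdx_facts.1 _ (hKH ((a : K) : G) a.2 (a : K).2) _ (hKH ((b : K) : G) b.2 (b : K).2),
          ← ofAdd_add]
        refine congrArg _ ?_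
        exact three_cast _ _ }
  set U : Subgroup G := Subgroup.zpowers d.x ⊔ Subgroup.zpowers d.c with hU
  have hUP : U ≤ d.P := sup_le (Subgroup.zpowers_le.2 (d.J_le_P (d.el_mem xVec)))
    (Subgroup.zpowers_le.2 d.c_mem_P)
  have hxK : d.x ∈ K := hVJ _ (d.el_mem xVec)
  have hUK : U ≤ K := sup_le (Subgroup.zpowers_le.2 hxK) (Subgroup.zpowers_le.2 hcK)
  have hUc : U ≤ Subgroup.centralizer ({d.c} : Set G) := sup_le
    (Subgroup.zpowers_le.2 (Subgroup.mem_centralizer_singleton_iff.2 (d.P_comm_x d.c_mem_P).symm))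
    (Subgroup.zpowers_le.2 (Subgroup.mem_centralizer_singleton_iff.2 rfl))
  haveI : Fintype (K ⧸ C) := Fintype.ofFinite _
  set W := MonoidHom.transfer ψ with hW
  have hWc : W ⟨d.c, hcK⟩ = Multiplicative.ofAdd (1 : ZMod 3) := by
    rw [hW, Hayden48.transfer_eq_of_unique_fixed (p := 3) three_facts.1 ψ
      (J := U.subgroupOf K) ((d.isPGroup_P.to_le hUP).of_equiv
        (Subgroup.subgroupOfEquivOfLe hUK).symm) (x := (⟨d.c, hcK⟩ : K)) d.c_mem_H
      (Subtype.ext (by simpa [pow_succ] using d.c_cube))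
      (fun j hj => Subtype.ext (Subgroup.mem_centralizer_singleton_iff.1 (hUc hj)))
      (fun j hj => d.P_le_H (hUP hj)) (fun g hg => ?_)]
    · show Multiplicative.ofAdd ((cycIdx (d.mat d.c) : ℕ) : ZMod 3) = _
      rw [d.mat_c, cycIdx_facts.2.2.1]; rfl
    · have hgx : ((g : G))⁻¹ * d.x * (g : G) ∈ d.H :=
        hg ⟨d.x, hxK⟩ (Subgroup.mem_sup_left (Subgroup.mem_zpowers d.x) : d.x ∈ U)
      have h3 : (g : G)⁻¹ * d.x * g * ((g : G)⁻¹ * d.x * g) * ((g : G)⁻¹ * d.x * g) = 1 := by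
        calc _ = (g : G)⁻¹ * (d.x * d.x * d.x) * g := by group
          _ = 1 := by rw [Frame.x, d.el_cube, mul_one, inv_mul_cancel]
      rcases d.conj_c_or_mem_J hA hgx h3 with ⟨w, hw⟩ | ⟨k, e | e⟩
      · obtain ⟨y, h, hy, hh, e, -⟩ := d.fusion (v := xVec) (w := w) (g := (g : G)⁻¹)
          (by rw [inv_inv, hw]; rfl)
        have hw0 : w ≠ oVec := fun e0 => d.x_ne (by
          rw [e0, d.el_zero] at hw
          have h1 : (g : G)⁻¹ * d.x * g * (g : G)⁻¹ = (g : G)⁻¹ := by rw [← hw, one_mul]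
          simpa using h1)
        have hyH := d.cent_all hA allSmall_E hw0 (Subgroup.mem_centralizer_singleton_iff.2 hy)
        have := mul_mem hyH hh
        rw [← e] at this
        show (g : G) ∈ d.H
        simpa using inv_mem this
      · refine absurd ?_ (hcx (k * (g : G)⁻¹)⁻¹).1
        rw [← e]; group
      · refine absurd ?_ (hcx (k * (g : G)⁻¹)⁻¹).2
        rw [show d.c = (d.c⁻¹)⁻¹ by rw [inv_inv], ← e]; group
  set K' := W.ker with hK'
  haveI : K'.Normal := W.normal_ker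
  have hidx3 : K'.index = 3 := by
    rw [hK', Subgroup.index_ker]
    have hne : W.range ≠ ⊥ := fun e => by
      have h : W ⟨d.c, hcK⟩ ∈ W.range := ⟨_, rfl⟩
      rw [e, Subgroup.mem_bot, hWc] at h
      exact three_facts.2.1 h
    have hd := Subgroup.card_subgroup_dvd_card W.range
    rw [Nat.card_eq_fintype_card (α := Multiplicative (ZMod 3)), Fintype.card_multiplicative,
      ZMod.card] at hd
    exact ((Nat.dvd_prime Nat.prime_three).1 hd).resolve_left fun e =>
      hne (Subgroup.card_eq_one.1 e)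
  have hWinv : ∀ a : K, ((a : G) * a = 1) → W a = 1 := by
    intro a ha
    have h : W a * W a = 1 := by
      rw [← map_mul, show a * a = 1 from Subtype.ext ha, map_one]
    exact three_facts.2.2.1 _ h
  have hWmat : ∀ a : K, (a : G) ∈ d.H → d.mat (a : G) ∈ dGroup → W a = 1 := by
    have hJW : ∀ v (hv : d.el v ∈ K), W ⟨d.el v, hv⟩ = 1 := by
      have hJK : ∀ v, d.el v ∈ K := fun v => hVJ _ (d.el_mem v)
      have hunit : ∀ v, isUnitVec v → W ⟨d.el v, hJK v⟩ = 1 := by
        intro v hv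
        obtain ⟨dd, hdd, e⟩ := dGroup_facts.2.2.2.1 v hv
        have hdd' : dd ∈ dGroup := List.mem_cons_of_mem _ hdd
        obtain ⟨a, ha, rfl⟩ := hA.2 dd (threeE_facts.2 _ hdd).1
        have haK : a ∈ K := hVeven a ha (hdsyl _ hdd').2
        have hconj : (⟨a, haK⟩ : K) * ⟨d.el v, hJK v⟩ * ⟨a, haK⟩⁻¹ = ⟨d.el v, hJK v⟩⁻¹ :=
          Subtype.ext (by
            show a * d.el v * a⁻¹ = (d.el v)⁻¹
            rw [← d.act_spec ha, ← d.mat_app ha, e, d.el_neg])
        have h1 := congrArg W hconj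
        rw [map_mul, map_mul, map_inv, map_inv, mul_comm (W ⟨a, haK⟩), mul_inv_cancel_right] at h1
        exact three_facts.2.2.2.1 _ h1
      intro v hv
      obtain ⟨p, q, r⟩ := v
      have hs : ∀ (a : T3) (u : Vec), isUnitVec u → W ⟨d.el (Vec.smul a u), hJK _⟩ = 1 := by
        intro a u hu
        cases a
        · rw [show (⟨d.el (Vec.smul .z u), hJK _⟩ : K) = 1 from Subtype.ext (by
            show d.el _ = 1
            rw [(vec_facts.1 u).2.2.2.2.1, d.el_zero]), map_one]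
        · rw [show (⟨d.el (Vec.smul .o u), hJK _⟩ : K) = ⟨d.el u, hJK u⟩ from Subtype.ext (by
            show d.el _ = d.el _
            rw [(vec_facts.1 u).2.2.2.2.2.1])]
          exact hunit u hu
        · rw [show (⟨d.el (Vec.smul .t u), hJK _⟩ : K) = ⟨d.el u, hJK u⟩⁻¹ from Subtype.ext (by
            show d.el (negVec u) = (d.el u)⁻¹
            rw [d.el_neg]), map_inv, hunit u hu, inv_one]
      rw [show (⟨d.el (.mk p q r), hv⟩ : K) = ⟨d.el (Vec.smul p eVec1), hJK _⟩ *
          ⟨d.el (Vec.smul q eVec2), hJK _⟩ * ⟨d.el (Vec.smul r eVec3), hJK _⟩ from Subtype.ext (by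
          show d.el _ = d.el _ * d.el _ * d.el _
          rw [← d.el_add, ← d.el_add, ← mat_facts.2.1]),
        map_mul, map_mul, hs _ _ (by decide), hs _ _ (by decide), hs _ _ (by decide), one_mul,
        one_mul]
    intro a ha hm
    obtain ⟨b, hb, e⟩ := T.onto _ (hdsyl _ hm).1
    have hbK : b ∈ K := hVeven b (T.le hb) (e ▸ (hdsyl _ hm).2)
    have hb2 : b * b = 1 := by
      refine d.eq_of_mat_eq T.isP T.le (mul_mem hb hb) (one_mem _) ?_
      rw [d.mat_mul (T.le hb) (T.le hb), e, d.mat_one]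
      exact (dGroup_facts.2.2.1 _ hm).1
    have hj : b⁻¹ * (a : G) ∈ d.J := d.eq_of_mat_one (mul_mem (inv_mem (T.le hb)) ha) (by
      rw [d.mat_mul (inv_mem (T.le hb)) ha, ← e, ← d.mat_mul (inv_mem (T.le hb)) (T.le hb),
        inv_mul_cancel, d.mat_one])
    obtain ⟨v, hv⟩ := hj
    rw [show a = (⟨b, hbK⟩ : K) * ⟨d.el v, hVJ _ (d.el_mem v)⟩ from Subtype.ext (by
      show (a : G) = b * d.el v
      rw [hv, mul_inv_cancel_left]), map_mul, hWinv _ hb2, one_mul]
    exact hJW _ _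
  have hK'H : ∀ a : K, (a : G) ∈ d.H → a ∈ K' → d.mat (a : G) ∈ dGroup := by
    intro a ha haK'
    have hm := hKH _ ha a.2
    obtain ⟨dd, hdd, e⟩ := even_facts.2.2.2.2 _ hm
    refine cycIdx_facts.2.2.2.2 _ hm ?_
    set i := cycIdx (d.mat (a : G)) with hi
    have hciK : d.c ^ (i : ℕ) ∈ K := pow_mem hcK _
    have hciH : d.c ^ (i : ℕ) ∈ d.H := pow_mem d.c_mem_H _
    set b : K := a * (⟨d.c ^ (i : ℕ), hciK⟩ : K)⁻¹ with hb
    have hbH : (b : G) ∈ d.H := by
      rw [hb, Subgroup.coe_mul, InvMemClass.coe_inv]; exact mul_mem ha (inv_mem hciH)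
    have hbm : d.mat (b : G) = dd := by
      have hpm : d.mat (d.c ^ (i : ℕ)) = pmat i 0 := by
        rw [show d.c ^ (i : ℕ) = d.of (oVec, i, 0) by simp [Frame.of, d.el_zero], d.mat_of]
      rw [hb, Subgroup.coe_mul, InvMemClass.coe_inv, d.mat_mul ha (inv_mem hciH), e, ← hpm]
      obtain ⟨k, hk, rfl⟩ := hA.2 dd (even_facts.1 _ (hdsyl dd hdd).2)
      rw [← d.mat_mul hk hciH, ← d.mat_mul (mul_mem hk hciH) (inv_mem hciH), mul_inv_cancel_right]
    have h1 := hWmat b hbH (by rw [hbm]; exact hdd)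
    rw [hb, map_mul, map_inv, MonoidHom.mem_ker.1 haK', one_mul, inv_eq_one,
      show (⟨d.c ^ (i : ℕ), hciK⟩ : K) = ⟨d.c, hcK⟩ ^ (i : ℕ) from Subtype.ext (by simp),
      map_pow, hWc] at h1
    exact three_facts.2.2.2.2 _ h1
  -- the four-group
  let ι : K' →* G := K.subtype.comp K'.subtype
  have hι : Function.Injective ι := K.subtype_injective.comp K'.subtype_injective
  have hιmem : ∀ (g : G) (hg : g ∈ d.H), d.mat g ∈ dGroup → ∃ y : K', ι y = g := fun g hg hm => by
    have hgK : g ∈ K := hVeven g hg (hdsyl _ hm).2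
    exact ⟨⟨⟨g, hgK⟩, hWmat ⟨g, hgK⟩ hg hm⟩, rfl⟩
  set Q : Subgroup K' := T.S.comap ι with hQ
  have hQmat : ∀ y : Q, d.mat (ι (y : K')) ∈ dGroup := fun y =>
    hK'H _ (T.le y.2) (y : K').2
  have hQcard : Nat.card Q = 4 := by
    let f : Q → {m : Mat // m ∈ dGroup} := fun y => ⟨_, hQmat y⟩
    have hb : Function.Bijective f := by
      refine ⟨fun y y' e => ?_, fun ⟨m, hm⟩ => ?_⟩
      · exact Subtype.ext (hι (d.eq_of_mat_eq T.isP T.le y.2 y'.2 (congrArg Subtype.val e)))
      · obtain ⟨a, ha, rfl⟩ := T.onto m (hdsyl m hm).1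
        obtain ⟨y, hy⟩ := hιmem a (T.le ha) hm
        exact ⟨⟨y, show ι y ∈ T.S by rw [hy]; exact ha⟩, Subtype.ext (congrArg d.mat hy)⟩
    rw [Nat.card_congr (Equiv.ofBijective f hb),
      Nat.subtype_card dGroup.toFinset (fun m => List.mem_toFinset),
      List.toFinset_card_of_nodup dGroup_facts.1, dGroup_facts.2.1]
  have hGK : Nat.card G = 6 * Nat.card K' := by
    have h1 := Subgroup.card_mul_index K'
    have h2 := Subgroup.card_mul_index K
    rw [hidx3] at h1
    rw [← h2, ← h1, hK2]; ring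
  have hK'3 : ∀ R : Subgroup K', IsPGroup 3 R → Nat.card R ≤ 27 := by
    intro R hR
    obtain ⟨k, hk⟩ := IsPGroup.iff_card.1 hR
    rw [hk]
    by_contra hlt
    have h4 : 4 ≤ k := by
      by_contra h
      exact hlt ((Nat.pow_le_pow_right (by norm_num) (by omega : k ≤ 3)).trans (by norm_num))
    refine d.not_dvd_card ?_
    rw [hGK]
    have h := ((Nat.pow_dvd_pow 3 h4).trans (dvd_of_eq hk.symm)).trans
      (Subgroup.card_subgroup_dvd_card R)
    exact (show 3 ^ 5 = 3 * 3 ^ 4 by norm_num) ▸ Nat.mul_dvd_mul (by norm_num : 3 ∣ 6) h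
  let PQ : Sylow 2 K' := (IsPGroup.of_card (p := 2) (n := 2) (G := Q) (by rw [hQcard]; norm_num)).toSylow (by
    intro h2
    have hS8 : Nat.card (P : Subgroup G) = 8 := by rw [hP, T.card, hlen8]
    have hPidx := P.not_dvd_index
    have h1 := Subgroup.card_mul_index (P : Subgroup G)
    have h3 := Subgroup.card_mul_index Q
    rw [hS8, hGK, ← h3, hQcard] at h1
    obtain ⟨j, hj⟩ := h2
    refine hPidx ⟨3 * j, ?_⟩
    rw [hj] at h1
    linarith)
  -- its elements are not fused
  have hfuse : ∀ g : K', ∀ y y' : Q, g * (y : K') * g⁻¹ = y' → (y : K') = y' := by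
    intro g y y' hg
    by_contra hne
    have hy := dGroup_facts.2.2.1 _ (hQmat y)
    have hy' := dGroup_facts.2.2.1 _ (hQmat y')
    have hone : ∀ z : Q, d.mat (ι (z : K')) = Mat.one → (z : K') = 1 := fun z hz => hι (by
      rw [map_one]
      exact d.eq_of_mat_eq T.isP T.le z.2 (one_mem _) (by rw [hz, d.mat_one]))
    rcases hy.2 with hy1 | hyd
    · exact hne (by rw [hone y hy1] at hg ⊢; rw [← hg]; group)
    rcases hy'.2 with hy1 | hyd'
    · exact hne (by rw [hone y' hy1] at hg ⊢; exact conj_eq_one_iff.1 hg)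
    obtain ⟨hdl, h3, hz⟩ := threeE_facts.2 _ hyd
    obtain ⟨hdl', h3', hz'⟩ := threeE_facts.2 _ hyd'
    have hfixv : ∀ m : Mat, (Finset.univ.filter fun u => m.app u = u).card = 3 →
        ∃ v, m.app v = v ∧ v ≠ oVec := by
      intro m hm
      by_contra hno
      push Not at hno
      have h1 : (Finset.univ.filter fun u => m.app u = u) ⊆ {oVec} := fun u hu =>
        Finset.mem_singleton.2 (hno u (Finset.mem_filter.1 hu).2)
      have := Finset.card_le_card h1
      rw [hm, Finset.card_singleton] at this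
      omega
    obtain ⟨v, hv, hv0⟩ := hfixv _ h3
    obtain ⟨w, hw, hw0⟩ := hfixv _ h3'
    obtain ⟨ev, hev⟩ := hιmem (d.el v) (d.J_le_H (d.el_mem v)) (by
      rw [← d.of_zero v, d.mat_of]; dsimp only
      rw [pmat_facts.2.2.2.2.2]; decide)
    obtain ⟨ew, hew⟩ := hιmem (d.el w) (d.J_le_H (d.el_mem w)) (by
      rw [← d.of_zero w, d.mat_of]; dsimp only
      rw [pmat_facts.2.2.2.2.2]; decide)
    set Y := Subgroup.centralizer ({(y' : K')} : Set K') with hY
    have hewY : ew ∈ Y := Subgroup.mem_centralizer_singleton_iff.2 (hι (by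
      rw [map_mul, map_mul, hew]
      exact (d.fixed_iff (T.le y'.2)).1 hw))
    have heY : g * ev * g⁻¹ ∈ Y := Subgroup.mem_centralizer_singleton_iff.2 (by
      have h : ev * (y : K') = y * ev := hι (by
        rw [map_mul, map_mul, hev]
        exact (d.fixed_iff (T.le y.2)).1 hv)
      rw [← hg]
      calc g * ev * g⁻¹ * (g * y * g⁻¹) = g * (ev * y) * g⁻¹ := by group
        _ = g * (y * ev) * g⁻¹ := by rw [h]
        _ = _ := by group)
    have hord : ∀ (e : K') (u : Vec), ι e = d.el u → e ^ 3 = 1 := fun e u he => hι (by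
      rw [map_pow, he, map_one]; simpa [pow_succ] using d.el_cube u)
    have hp : ∀ (e : Y), e ^ 3 = 1 → IsPGroup 3 (Subgroup.zpowers e) := fun e he => by
      obtain ⟨i, -, hi⟩ := (Nat.dvd_prime_pow Nat.prime_three).1
        (show orderOf e ∣ 3 ^ 1 by rw [pow_one]; exact orderOf_dvd_of_pow_eq_one he)
      exact IsPGroup.of_card (n := i) (by rw [Nat.card_zpowers, hi])
    obtain ⟨R2, hR2⟩ := (hp ⟨ew, hewY⟩ (Subtype.ext (by simpa using hord ew w hew))).exists_le_sylow
    obtain ⟨R1, hR1⟩ := (hp ⟨g * ev * g⁻¹, heY⟩ (Subtype.ext (by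
      show (g * ev * g⁻¹) ^ 3 = 1
      rw [conj_pow, hord ev v hev, mul_one, mul_inv_cancel]))).exists_le_sylow
    -- a Sylow subgroup is the line
    have hline : ∀ r ∈ (R2 : Subgroup Y), ∃ u, ι (r : K') = d.el u ∧ (d.mat (ι (y' : K'))).app u = u := by
      have hin : ∀ r : Y, (∃ n, r ^ 3 ^ n = 1) → ι (r : K') * d.el w = d.el w * ι (r : K') →
          ∃ u, ι (r : K') = d.el u ∧ (d.mat (ι (y' : K'))).app u = u := by
        rintro r ⟨n, hn⟩ hrw
        have hrH := d.cent_all hA allSmall_E hw0 (Subgroup.mem_centralizer_singleton_iff.2 hrw)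
        have hm := hK'H _ hrH (r : K').2
        obtain ⟨hsq, -⟩ := dGroup_facts.2.2.1 _ hm
        have h2 : d.mat (ι (r : K') ^ 2) = Mat.one := by
          rw [pow_two, d.mat_mul hrH hrH]; exact hsq
        have hodd : ∀ k : ℕ, d.mat (ι (r : K') ^ (2 * k + 1)) = d.mat (ι (r : K')) := by
          intro k
          induction k with
          | zero => simp
          | succ k ih =>
            rw [show 2 * (k + 1) + 1 = (2 * k + 1) + 2 by ring, pow_add,
              d.mat_mul (pow_mem hrH _) (pow_mem hrH _), ih, h2, Mat.mul_one']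
        obtain ⟨k, hk⟩ : ∃ k, 3 ^ n = 2 * k + 1 := (Odd.pow (by decide : Odd 3))
        have hrn : ι (r : K') ^ (3 ^ n) = 1 := by
          have h := congrArg (fun t : Y => ι (t : K')) hn
          simpa using h
        have hmr := hodd k
        rw [← hk, hrn, d.mat_one] at hmr
        obtain ⟨u, hu⟩ := d.eq_of_mat_one hrH hmr.symm
        refine ⟨u, hu.symm, (d.fixed_iff (T.le y'.2)).2 ?_⟩
        rw [hu, ← map_mul, ← map_mul]
        exact congrArg ι (Subgroup.mem_centralizer_singleton_iff.1 r.2)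
      by_contra hno
      push Not at hno
      obtain ⟨r0, hr0, hr0'⟩ := hno
      haveI : Group.IsNilpotent (R2 : Subgroup Y) := R2.2.isNilpotent
      set Z := Subgroup.zpowers (⟨ew, hewY⟩ : Y)
      have hrpow : ∀ r ∈ (R2 : Subgroup Y), ∃ n, r ^ 3 ^ n = 1 := fun r hr => by
        obtain ⟨n, hn⟩ := R2.2 ⟨r, hr⟩
        exact ⟨n, congrArg Subtype.val hn⟩
      have hne' : Z.subgroupOf (R2 : Subgroup Y) < ⊤ := by
        refine lt_top_iff_ne_top.2 fun e => ?_
        have hr := Subgroup.subgroupOf_eq_top.1 e hr0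
        obtain ⟨m, hm⟩ := Subgroup.mem_zpowers_iff.1 hr
        have hcw : ι (r0 : K') * d.el w = d.el w * ι (r0 : K') := by
          rw [← hm, SubgroupClass.coe_zpow, map_zpow]
          show (ι ew) ^ m * _ = _
          rw [hew]
          exact (Commute.zpow_left (Commute.refl _) m).eq
        obtain ⟨u, hu1, hu2⟩ := hin r0 (hrpow r0 hr0) hcw
        exact hr0' u hu1 hu2
      obtain ⟨r, hrN, hrZ⟩ := SetLike.exists_of_lt
        (Group.normalizerCondition_of_isNilpotent (G := (R2 : Subgroup Y)) _ hne')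
      have hconjr : (r : Y) * ⟨ew, hewY⟩ * (r : Y)⁻¹ ∈ Z :=
        (Subgroup.mem_normalizer_iff.1 hrN ⟨⟨ew, hewY⟩, hR2 (Subgroup.mem_zpowers _)⟩).1
          (Subgroup.mem_zpowers _)
      obtain ⟨m, hm⟩ := Subgroup.mem_zpowers_iff.1 hconjr
      have hm' : ι (r : K') * d.el w * (ι (r : K'))⁻¹ = d.el w ^ m := by
        have h := congrArg (fun t : Y => ι (t : K')) hm.symm
        simpa [hew] using h
      have hsq : ι (r : K') * ι (r : K') * d.el w = d.el w * (ι (r : K') * ι (r : K')) := by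
        have hmem : d.el w ^ m ∈ Subgroup.zpowers (d.el w) := ⟨m, rfl⟩
        rcases d.mem_line.1 hmem with e | e | e <;> rw [e] at hm'
        · exact absurd (d.el_eq_one.1 (conj_eq_one_iff.1 hm')) hw0
        · have h1 : Commute (ι (r : K')) (d.el w) := mul_inv_eq_iff_eq_mul.1 hm'
          exact (h1.mul_left h1).eq
        · refine mul_inv_eq_iff_eq_mul.1 ?_
          calc ι (r : K') * ι (r : K') * d.el w * (ι (r : K') * ι (r : K'))⁻¹
              = ι (r : K') * (ι (r : K') * d.el w * (ι (r : K'))⁻¹) * (ι (r : K'))⁻¹ := by group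
            _ = d.el w := by rw [hm', ← conj_inv, hm', inv_inv]
      obtain ⟨n, hn⟩ := hrpow r r.2
      obtain ⟨k, hk⟩ : ∃ k, 3 ^ n = 2 * k + 1 := (Odd.pow (by decide : Odd 3))
      have hcr : ι (r : K') * d.el w = d.el w * ι (r : K') := by
        have e : (ι (r : K') * ι (r : K')) ^ (k + 1) = ι (r : K') := by
          have hrn : ι (r : K') ^ (3 ^ n) = 1 := by
            have h := congrArg (fun t : Y => ι (t : K')) hn
            simpa using h
          rw [← pow_two, ← pow_mul, show 2 * (k + 1) = 3 ^ n + 1 by omega, pow_succ, hrn, one_mul]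
        rw [← e]
        exact (Commute.pow_left hsq _).eq
      obtain ⟨u, hu1, hu2⟩ := hin r ⟨n, hn⟩ hcr
      refine hrZ ?_
      -- the fixed line is the multiples of `w`
      have hkey : ∀ dd ∈ dList, ∀ a b : Vec, dd.app a = a → dd.app b = b → a ≠ oVec →
          b = oVec ∨ b = a ∨ b = negVec a := by decide +kernel
      have hlinew := hkey _ hyd' w u hw hu2 hw0
      show (r : Y) ∈ Z
      rcases hlinew with rfl | rfl | rfl
      · rw [show (r : Y) = 1 from Subtype.ext (hι (by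
          show ι (r : K') = ι 1
          rw [map_one, hu1, d.el_zero]))]
        exact one_mem _
      · rw [show (r : Y) = ⟨ew, hewY⟩ from Subtype.ext (hι (by
          show ι (r : K') = ι ew
          rw [hu1, hew]))]
        exact Subgroup.mem_zpowers _
      · rw [show (r : Y) = (⟨ew, hewY⟩ : Y)⁻¹ from Subtype.ext (hι (by
          show ι (r : K') = ι ew⁻¹
          rw [map_inv, hu1, hew, d.el_neg]))]
        exact inv_mem (Subgroup.mem_zpowers _)
    obtain ⟨e, he⟩ := MulAction.exists_smul_eq Y R1 R2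
    obtain ⟨u, hu, hufix⟩ := hline (e * ⟨g * ev * g⁻¹, heY⟩ * e⁻¹) (by
      rw [← he, Sylow.coe_subgroup_smul]
      exact ⟨_, hR1 (Subgroup.mem_zpowers _), rfl⟩)
    set k : K' := (e : K') * g with hk
    have hku : ι k * d.el v * (ι k)⁻¹ = d.el u := by
      rw [← hu, hk, ← hev, ← map_inv, ← map_mul, ← map_mul]
      refine congrArg ι ?_
      show _ = (e : K') * (g * ev * g⁻¹) * (e : K')⁻¹
      group
    obtain ⟨p, h, hp', hh, epk, -⟩ := d.fusion hku
    have hu0 : u ≠ oVec := fun e0 => by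
      rw [e0, d.el_zero] at hku
      exact hv0 (d.el_eq_one.1 (conj_eq_one_iff.1 hku))
    have hkH : ι k ∈ d.H := by
      rw [epk]
      exact mul_mem (d.cent_all hA allSmall_E hu0 (Subgroup.mem_centralizer_singleton_iff.2 hp')) hh
    refine dGroup_facts.2.2.2.2 _ hyd _ hyd' (fun e' => hne (hι
      (d.eq_of_mat_eq T.isP T.le y.2 y'.2 e'))) v u hv hufix hv0 _ (hK'H _ hkH k.2) ?_
    show (d.mat (ι k)).app v = u
    rw [d.mat_app hkH]
    exact d.act_eq hkH hku
  obtain ⟨N, hN, hodd, hcard⟩ := exists_odd_complement PQ (fun g hg => by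
    refine Subgroup.mem_centralizer_iff.2 fun z hz => ?_
    have h := (Subgroup.mem_normalizer_iff.1 hg z).1 hz
    have e := hfuse g ⟨z, hz⟩ ⟨_, h⟩ rfl
    change z = g * z * g⁻¹ at e
    conv_lhs => rw [e]
    group)
  haveI := hN
  have hne : N ≠ ⊥ := fun e => by
    rw [e, Subgroup.card_bot, one_mul] at hcard
    have h27 : 27 * 2 ∣ Nat.card G := by
      have := Subgroup.card_subgroup_dvd_card d.H
      rw [d.card_H_list hA lists_facts.2.2.2.1, lists_facts.2.2.2.2.2.2.2.1] at this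
      exact (show 27 * 2 ∣ 27 * 24 by norm_num).trans this
    have h4 : Nat.card (PQ : Subgroup K') = 4 := hQcard
    rw [hGK, ← hcard, h4] at h27
    norm_num at h27
  -- lifted to a subgroup of `K`
  have hle : N ≤ Cfsg.pPrimeCore 2 K' := PLocal.le_pPrimeCore hodd.coprime_two_right
  refine d.normal_of_odd_sub (N := Cfsg.pPrimeCore 2 K) inferInstance (fun e => hne ?_)
    (Nat.coprime_two_right.1 (PLocal.coprime_card_pPrimeCore 2 K))
  have h := PLocal.pPrimeCore_map_subtype_le (p := 2) K'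
  rw [e, le_bot_iff, Subgroup.map_eq_bot_iff_of_injective _ K'.subtype_injective] at h
  exact le_bot_iff.1 (h ▸ hle)

end Setup

end CfsgLib.SymNineRecog
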