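import Cfsg.Agent.SymNineRecog.Plane
import Cfsg.Agent.CaminaRankTwo69.Local

/-!
# A nontrivial solvable normal subgroup makes the base normal
-/

set_option autoImplicit false
set_option linter.style.haveILetI false
set_option linter.unusedSectionVars false

namespace CfsgLib.SymNineRecog

universe u

theorem cyc_fix : (∀ v, Mat.cyc.app v = negVec v → v = oVec) ∧
    (∀ v, Mat.cyc.app v = v → v = oVec ∨ v = xVec ∨ v = yVec) ∧
    (∀ i : Fin 3, i ≠ 0 → ∀ v, ¬ ((∃ a : T3, (tact i 0 eVec1).add (negVec eVec1) = Vec.smul a v) ∧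
      ∃ a : T3, (tact i 0 eVec2).add (negVec eVec2) = Vec.smul a v)) := by
  decide +kernel

namespace Setup

variable {G : Type u} [Group G] [Finite G] (d : Setup G)

theorem normal_of_top (h : d.H = ⊤) : d.J.Normal := Subgroup.normalizer_eq_top_iff.1 h

/-- A normal subgroup of order three, nine or twenty-seven inside the base. -/
theorem normal_of_le_J {B : Subgroup G} [hB : B.Normal] (hne : B ≠ ⊥) (hle : B ≤ d.J) :
    d.J.Normal := by
  haveI : Fact (Nat.Prime 3) := ⟨Nat.prime_three⟩
  have hd : Nat.card B ∣ 3 ^ 3 := by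
    have h := Subgroup.card_dvd_of_le hle
    rwa [d.card_J] at h
  obtain ⟨k, hk, he⟩ := (Nat.dvd_prime_pow Nat.prime_three).1 hd
  interval_cases k
  · exact absurd (Subgroup.card_eq_one.1 (by rw [he]; norm_num)) hne
  · obtain ⟨g, hg, hg1⟩ := (Subgroup.bot_or_exists_ne_one B).resolve_left hne
    obtain ⟨v, rfl⟩ := hle hg
    have hord : orderOf (d.el v) = 3 :=
      orderOf_eq_prime (by simpa [pow_succ] using d.el_cube v) hg1
    have hBeq : Subgroup.zpowers (d.el v) = B := Subgroup.eq_of_le_of_card_ge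
      (Subgroup.zpowers_le.2 hg) (by rw [Nat.card_zpowers, hord, he]; norm_num)
    have hmem : ∀ g : G, g * d.el v * g⁻¹ = d.el v ∨ g * d.el v * g⁻¹ = d.el (negVec v) := by
      intro g'
      have h := hB.conj_mem _ hg g'
      rw [← hBeq] at h
      obtain ⟨n, hn⟩ := Subgroup.mem_zpowers_iff.1 h
      rw [← zpow_mod_orderOf, hord] at hn
      have hlo := Int.emod_nonneg n (show (3 : ℤ) ≠ 0 by norm_num)
      have hhi := Int.emod_lt_of_pos n (show (0 : ℤ) < 3 by norm_num)
      push_cast at hn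
      rcases (show n % 3 = 0 ∨ n % 3 = 1 ∨ n % 3 = 2 by omega) with e | e | e <;> rw [e] at hn
      · exact absurd (conj_eq_one_iff.1 (hn.symm.trans (zpow_zero _))) hg1
      · exact Or.inl (hn.symm.trans (zpow_one _))
      · refine Or.inr (hn.symm.trans ?_)
        rw [zpow_two, d.el_neg, eq_inv_of_mul_eq_one_left (d.el_cube v)]
    have hcyc : Mat.cyc.app v = v ∨ Mat.cyc.app v = negVec v := by
      have h : d.c * d.el v * d.c⁻¹ = d.el (Mat.cyc.app v) := by
        rw [d.conj_c, mul_inv_cancel_right]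
      rcases hmem d.c with e | e <;> rw [h] at e
      · exact Or.inl (d.el_inj e)
      · exact Or.inr (d.el_inj e)
    have hv : v = xVec ∨ v = yVec := by
      rcases hcyc with e | e
      · exact (cyc_fix.2.1 v e).resolve_left fun h0 => hg1 (d.el_eq_one.2 h0)
      · exact absurd (d.el_eq_one.2 (cyc_fix.1 v e)) hg1
    refine d.normal_of_top (eq_top_iff.2 fun g _ => ?_)
    -- conjugates of the base centralise `x`
    have hxB : d.x ∈ B := by
      rcases hv with e | e
      · rw [e] at hg; exact hg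
      · have h := inv_mem hg
        rw [e, ← d.el_neg] at h
        rw [show negVec yVec = xVec by decide] at h
        exact h
    have hJx : ∀ j ∈ d.J, ∀ b ∈ B, j * b = b * j := fun j hj b hb => d.J_comm hj (hle hb)
    have hc : ∀ j ∈ d.J, (g * j * g⁻¹) * d.x = d.x * (g * j * g⁻¹) := fun j hj => by
      have hb : g⁻¹ * d.x * g ∈ B := by simpa using hB.conj_mem _ hxB g⁻¹
      calc g * j * g⁻¹ * d.x = g * (j * (g⁻¹ * d.x * g)) * g⁻¹ := by group
        _ = g * ((g⁻¹ * d.x * g) * j) * g⁻¹ := by rw [hJx j hj _ hb]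
        _ = _ := by group
    have heq : d.J.map (MulAut.conj g).toMonoidHom = d.J := by
      refine d.eq_J ?_ ?_ ?_ ?_
      · rintro _ ⟨j, hj, rfl⟩; exact hc j hj
      · rintro _ ⟨a, ha, rfl⟩ _ ⟨b, hb, rfl⟩
        rw [← map_mul, ← map_mul, d.J_comm ha hb]
      · rintro _ ⟨a, ha, rfl⟩
        rw [← map_mul, ← map_mul, d.J_cube ha, map_one]
      · rw [Subgroup.card_map_of_injective (MulAut.conj g).injective, d.card_J]
    exact d.mem_H.2 fun u => heq.le ⟨_, d.el_mem u, rfl⟩
  · refine d.normal_of_top (eq_top_iff.2 fun g _ => d.norm_plane hle (by rw [he]; norm_num) ?_)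
    exact fun e he' => hB.conj_mem e he' g
  · rw [← Subgroup.eq_of_le_of_card_ge hle (by rw [he, d.card_J]; norm_num)]
    exact hB

/-- A nontrivial normal solvable subgroup. -/
theorem normal_of_solvable {N : Subgroup G} [N.Normal] (hne : N ≠ ⊥) (hs : Group.IsSolvable N) :
    d.J.Normal := by
  haveI : Fact (Nat.Prime 3) := ⟨Nat.prime_three⟩
  obtain ⟨ℓ, B, hℓ, hB, hB1, -, hcomm, hexp⟩ := CaminaRankTwo69.exists_abelian_normal hs hne
  haveI := hB
  haveI : Fact ℓ.Prime := ⟨hℓ⟩
  have hBp : IsPGroup ℓ B := fun b => ⟨1, Subtype.ext (by simpa using hexp b b.2)⟩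
  by_cases h3 : ℓ = 3
  swap
  · refine absurd (d.sig_bot ?_ fun j _ b hb => hB.conj_mem b hb j) hB1
    intro h
    obtain ⟨k, hk⟩ := IsPGroup.iff_card.1 hBp
    rw [hk] at h
    exact h3 ((Nat.prime_dvd_prime_iff_eq Nat.prime_three hℓ).1 (Nat.prime_three.dvd_of_dvd_pow h)).symm
  subst h3
  refine d.normal_of_le_J hB1 ?_
  have hBH : B ≤ d.H := le_trans le_sup_left (d.le_H_of_isPGroup
    (hBp.to_sup_of_normal_left d.isPGroup_J) le_sup_right)
  intro b hb
  by_contra hbJ
  obtain ⟨k, hk, w, i, hi, e⟩ := d.exists_outside (hBH hb) (n := 1)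
    (by rw [pow_one]; exact hexp b hb) hbJ
  have he : d.of (w, i, 0) ∈ B := e ▸ hB.conj_mem b hb k
  -- commutators with the base are base elements of `B`
  have hcm : ∀ u, d.el ((tact i 0 u).add (negVec u)) ∈ B := by
    intro u
    have h1 : d.of (w, i, 0) * (d.el u * (d.of (w, i, 0))⁻¹ * (d.el u)⁻¹) ∈ B :=
      mul_mem he (hB.conj_mem _ (inv_mem he) (d.el u))
    rwa [← mul_assoc, ← mul_assoc, d.of_act, mul_inv_cancel_right, ← d.el_neg, ← d.el_add] at h1
  -- which are fixed by the element outside, so lie in one line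
  have hline : ∀ u, d.el u ∈ B → ∃ a : T3, u = Vec.smul a xVec := by
    intro u hu
    have hfix : tact i 0 u = u := d.el_inj (by
      have h := d.of_act (w, i, 0) u
      rw [hcomm _ he _ hu] at h
      exact (mul_right_cancel h).symm)
    rcases tri_local.2.1 i u hfix hi with rfl | rfl | rfl
    exacts [⟨.z, by decide⟩, ⟨.o, by decide⟩, ⟨.t, by decide⟩]
  exact cyc_fix.2.2 i hi xVec ⟨hline _ (hcm _), hline _ (hcm _)⟩

/-- A nontrivial normal subgroup of odd order. -/
theorem normal_of_odd {N : Subgroup G} [N.Normal] (hne : N ≠ ⊥) (hodd : Odd (Nat.card N)) :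
    d.J.Normal :=
  d.normal_of_solvable hne (Cfsg.Agent.S0205.result hodd)

end Setup

end CfsgLib.SymNineRecog
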