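import Cfsg.Agent.Hayden48.Transfer
import Mathlib.GroupTheory.Transfer
import Mathlib.GroupTheory.Nilpotent
import Mathlib.GroupTheory.Sylow
import Mathlib.Tactic

/-!
# Transfer of involutions, and a criterion for a Sylow subgroup
-/

set_option autoImplicit false
set_option linter.style.haveILetI false
set_option linter.unusedSectionVars false

namespace CfsgLib.SymNineRecog

universe u v

variable {G : Type u} [Group G] [Finite G]

/-- An involution whose other conjugates in `H` are killed has its own value as transfer. -/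
theorem transfer_of_class {A : Type v} [CommGroup A] {H : Subgroup G} [H.FiniteIndex] (φ : H →* A)
    {t : G} (ht : t * t = 1) (htH : t ∈ H)
    (hfix : ∀ g : G, ∀ h : g⁻¹ * t * g ∈ H, g ∈ H ∨ φ ⟨_, h⟩ = 1) :
    MonoidHom.transfer φ t = φ ⟨t, htH⟩ := by
  classical
  haveI : Fact (Nat.Prime 2) := ⟨Nat.prime_two⟩
  haveI : Fintype (G ⧸ H) := Fintype.ofFinite _
  let f : G ⧸ H → A := fun q =>
    if hm : q.out⁻¹ * t * q.out ∈ H then φ ⟨_, hm⟩ else 1
  have hiff : ∀ q : G ⧸ H, t • q = q ↔ q.out⁻¹ * t * q.out ∈ H := fun q => by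
    have hi : t⁻¹ = t := inv_eq_of_mul_eq_one_left ht
    conv_lhs => rw [← q.out_eq]
    rw [MulAction.Quotient.smul_mk, QuotientGroup.eq, smul_eq_mul, mul_inv_rev, hi]
  rw [Hayden48.transfer_eq_prod_fixed (p := 2) φ (by rw [pow_two, ht]) f
    (fun q _ hm => dif_pos hm) fun q hq => dif_neg fun hm => hq ((hiff q).2 hm),
    Finset.prod_eq_single ((1 : G) : G ⧸ H)]
  · set q : G ⧸ H := ((1 : G) : G ⧸ H)
    have hc : q.out ∈ H := by
      have h : (q.out : G ⧸ H) = ((1 : G) : G ⧸ H) := QuotientGroup.out_eq' q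
      rw [QuotientGroup.eq, mul_one, inv_mem_iff] at h
      exact h
    have hm : q.out⁻¹ * t * q.out ∈ H := mul_mem (mul_mem (inv_mem hc) htH) hc
    simp only [f, dif_pos hm]
    rw [show (⟨_, hm⟩ : H) = ⟨q.out, hc⟩⁻¹ * ⟨t, htH⟩ * ⟨q.out, hc⟩ from Subtype.ext rfl, map_mul,
      map_mul, map_inv, mul_comm, mul_inv_cancel_left]
  · intro q _ hq
    by_cases hm : q.out⁻¹ * t * q.out ∈ H
    · simp only [f, dif_pos hm]
      refine (hfix q.out hm).resolve_left fun h => hq ?_
      rw [← QuotientGroup.out_eq' q, QuotientGroup.eq, mul_one, inv_mem_iff]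
      exact h
    · exact dif_neg hm
  · intro h
    exact absurd (Finset.mem_univ _) h

/-- A sign character of `G` from one of `H`. -/
theorem exists_sign {H : Subgroup G} (φ : H →* ℤˣ) {t : G} (ht : t * t = 1) (htH : t ∈ H)
    (hne : φ ⟨t, htH⟩ = -1)
    (hfix : ∀ g : G, ∀ h : g⁻¹ * t * g ∈ H, g ∈ H ∨ φ ⟨_, h⟩ = 1) :
    ∃ V : G →* ℤˣ, V t = -1 ∧ V.ker.index = 2 := by
  refine ⟨MonoidHom.transfer φ, by rw [transfer_of_class φ ht htH hfix, hne], ?_⟩
  have hVt : MonoidHom.transfer φ t = -1 := by rw [transfer_of_class φ ht htH hfix, hne]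
  rw [Subgroup.index_ker, MonoidHom.range_eq_top.2 fun a => ?_, Subgroup.card_top,
    Nat.card_eq_fintype_card, Fintype.card_units_int]
  rcases Int.units_eq_one_or a with rfl | rfl
  · exact ⟨1, map_one _⟩
  · exact ⟨t, hVt⟩

/-- A `2`-subgroup controlling the class of one of its elements and holding a Sylow subgroup of
its centraliser is a Sylow subgroup. -/
theorem exists_sylow_eq {p : ℕ} [Fact p.Prime] {S : Subgroup G} (hS : IsPGroup p S) {t : G}
    (htS : t ∈ S)
    (hfus : ∀ g : G, g * t * g⁻¹ ∈ S → ∃ s ∈ S, s * t * s⁻¹ = g * t * g⁻¹)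
    (hsyl : ∀ R : Subgroup G, IsPGroup p R → (∀ r ∈ R, r * t = t * r) →
      S ⊓ Subgroup.centralizer ({t} : Set G) ≤ R → R ≤ S) :
    ∃ P : Sylow p G, (P : Subgroup G) = S := by
  obtain ⟨P, hP⟩ := hS.exists_le_sylow
  refine ⟨P, le_antisymm ?_ hP⟩
  by_contra hlt
  haveI : Group.IsNilpotent (P : Subgroup G) := P.2.isNilpotent
  have hnc := Group.normalizerCondition_of_isNilpotent (G := (P : Subgroup G))
    (S.subgroupOf P) (lt_top_iff_ne_top.2 fun ht => hlt (Subgroup.subgroupOf_eq_top.1 ht))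
  refine hnc.2 fun g hg => Subgroup.mem_subgroupOf.2 ?_
  have h1 : (g : G) * t * (g : G)⁻¹ ∈ S :=
    (Subgroup.mem_normalizer_iff.1 hg ⟨t, hP htS⟩).1 htS
  obtain ⟨s, hs, e⟩ := hfus g h1
  set R := (P : Subgroup G) ⊓ Subgroup.centralizer ({t} : Set G)
  have hRS : R ≤ S := hsyl R (P.2.to_le inf_le_left)
    (fun r hr => Subgroup.mem_centralizer_singleton_iff.1 hr.2)
    (inf_le_inf_right _ hP)
  have hmem : s⁻¹ * (g : G) ∈ R := ⟨(P : Subgroup G).mul_mem ((P : Subgroup G).inv_mem (hP hs)) g.2,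
    Subgroup.mem_centralizer_singleton_iff.2 (mul_inv_eq_iff_eq_mul.1 (by
      calc s⁻¹ * (g : G) * t * (s⁻¹ * (g : G))⁻¹ = s⁻¹ * ((g : G) * t * (g : G)⁻¹) * s := by group
        _ = t := by rw [← e]; group))⟩
  simpa using mul_mem hs (hRS hmem)

/-- Burnside: a Sylow `2`-subgroup central in its normaliser gives a normal subgroup of odd order
with that subgroup as complement. -/
theorem exists_odd_complement (P : Sylow 2 G)
    (hle : Subgroup.normalizer ((P : Subgroup G) : Set G) ≤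
      Subgroup.centralizer ((P : Subgroup G) : Set G)) :
    ∃ N : Subgroup G, N.Normal ∧ Odd (Nat.card N) ∧
      Nat.card N * Nat.card (P : Subgroup G) = Nat.card G := by
  haveI : Fact (Nat.Prime 2) := ⟨Nat.prime_two⟩
  refine ⟨(MonoidHom.transferSylow P hle).ker, MonoidHom.normal_ker _, ?_,
    (MonoidHom.ker_transferSylow_isComplement' P hle).card_mul⟩
  rw [Nat.odd_iff]
  have := MonoidHom.not_dvd_card_ker_transferSylow P hle
  omega

end CfsgLib.SymNineRecog
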