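import Cfsg.Agent.SymNineRecog.Lists
import Cfsg.Agent.SymNineRecog.Done
import Cfsg.Agent.SymNineRecog.Tools

/-!
# The automiser is one of the four, and what follows from that
-/

set_option autoImplicit false
set_option linter.style.haveILetI false
set_option linter.unusedSectionVars false

namespace CfsgLib.SymNineRecog

universe u

theorem Mat.mul_one' : ∀ m : Mat, m.mul Mat.one = m := by
  intro m
  rcases m with ⟨A, B, C⟩
  have h : ∀ A B C : Vec, (Mat.mk A B C).mul Mat.one = .mk A B C := by decide +kernel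
  exact h A B C

namespace Setup

variable {G : Type u} [Group G] [Finite G] (d : Setup G)

/-- The automiser is one of the four. -/
theorem exists_list (hmono : ∀ g ∈ d.H, mono0 (d.mat g) = true) :
    d.AutList listA ∨ d.AutList listB ∨ d.AutList listE ∨ d.AutList listF := by
  have hF : ∀ g ∈ d.H, d.mat g ∈ listF := fun g hg => by
    refine monoList_zero _ ?_
    have h := inList_eq 0 (d.mat g)
    simp only [inList, Mat.force_eq, show monoOf 0 = mono0 from rfl, hmono g hg, Bool.not_true,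
      d.mat_det hg, Bool.false_or, List.any_eq_true, Mat.beq_iff] at h
    obtain ⟨n, hn, e⟩ := h
    exact e ▸ hn
  set R : Mat → Prop := fun m => ∃ g ∈ d.H, d.mat g = m with hR
  have hmul : ∀ m n, R m → R n → R (m.mul n) := by
    rintro _ _ ⟨g, hg, rfl⟩ ⟨h, hh, rfl⟩
    exact ⟨g * h, mul_mem hg hh, d.mat_mul hg hh⟩
  have hp : ∀ p ∈ pmats, R p := by
    intro p hp
    have key : ∀ p ∈ pmats, ∃ i j, p = pmat i j := by decide +kernel
    obtain ⟨i, j, rfl⟩ := key p hp
    exact ⟨_, d.of_mem_H (oVec, i, j), d.mat_of _⟩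
  by_cases hb : R Mat.negOne <;> by_cases he : R dMat
  · refine Or.inr (Or.inr (Or.inr ⟨hF, fun m hm => ?_⟩))
    obtain ⟨p, hp', q, hq, e | e | e | e⟩ := made_F m hm <;> rw [e]
    exacts [hp p hp', hmul _ _ hb (hp p hp'), hmul _ _ (hmul _ _ (hp p hp') he) (hp q hq),
      hmul _ _ hb (hmul _ _ (hmul _ _ (hp p hp') he) (hp q hq))]
  · refine Or.inr (Or.inl ⟨fun g hg => ?_, fun m hm => ?_⟩)
    · by_contra hm
      obtain ⟨p, hp', q, hq, r, hr, e | e⟩ := leave_B _ (hF g hg) hm <;>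
        refine he (e ▸ ?_)
      · exact hmul _ _ (hmul _ _ (hp p hp') ⟨g, hg, rfl⟩) (hp q hq)
      · exact hmul _ _ (hmul _ _ (hmul _ _ (hmul _ _ (hp p hp') ⟨g, hg, rfl⟩) (hp q hq))
          ⟨g, hg, rfl⟩) (hp r hr)
    · obtain ⟨p, hp', e | e⟩ := made_B m hm <;> rw [e]
      exacts [hp p hp', hmul _ _ hb (hp p hp')]
  · refine Or.inr (Or.inr (Or.inl ⟨fun g hg => ?_, fun m hm => ?_⟩))
    · by_contra hm
      obtain ⟨p, hp', q, hq, r, hr, e | e⟩ := leave_E _ (hF g hg) hm <;>
        refine hb (e ▸ ?_)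
      · exact hmul _ _ (hmul _ _ (hp p hp') ⟨g, hg, rfl⟩) (hp q hq)
      · exact hmul _ _ (hmul _ _ (hmul _ _ (hmul _ _ (hp p hp') ⟨g, hg, rfl⟩) (hp q hq)) he)
          (hp r hr)
    · obtain ⟨p, hp', q, hq, e | e⟩ := made_E m hm <;> rw [e]
      exacts [hp p hp', hmul _ _ (hmul _ _ (hp p hp') he) (hp q hq)]
  · refine Or.inl ⟨fun g hg => ?_, hp⟩
    by_contra hm
    obtain ⟨p, hp', q, hq, r, hr, e | e | e⟩ := leave_A _ (hF g hg) hm
    · exact hb (e ▸ hmul _ _ (hmul _ _ (hp p hp') ⟨g, hg, rfl⟩) (hp q hq))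
    · exact he (e ▸ hmul _ _ (hmul _ _ (hp p hp') ⟨g, hg, rfl⟩) (hp q hq))
    · exact he (e ▸ hmul _ _ (hmul _ _ (hmul _ _ (hmul _ _ (hp p hp') ⟨g, hg, rfl⟩) (hp q hq))
          ⟨g, hg, rfl⟩) (hp r hr))

/-- Centralisers of conjugates of `x` lie in `H`. -/
theorem cent_le_of_IsX {v : Vec} {h : G} (hh : h ∈ d.H)
    (e : d.act h v = xVec ∨ d.act h v = yVec) :
    Subgroup.centralizer ({d.el v} : Set G) ≤ d.H := by
  intro g hg
  have hc := Subgroup.mem_centralizer_singleton_iff.1 hg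
  have hx : h * g * h⁻¹ * d.x = d.x * (h * g * h⁻¹) := by
    have h1 : ∀ w, d.act h v = w → h * g * h⁻¹ * d.el w = d.el w * (h * g * h⁻¹) := fun w hw => by
      rw [← hw, d.act_spec hh]
      calc h * g * h⁻¹ * (h * d.el v * h⁻¹) = h * (g * d.el v) * h⁻¹ := by group
        _ = h * (d.el v * g) * h⁻¹ := by rw [hc]
        _ = _ := by group
    rcases e with e | e
    · exact h1 _ e
    · have h2 := h1 _ e
      rw [show yVec = negVec xVec by decide, d.el_neg] at h2
      have h3 : Commute (h * g * h⁻¹) (d.el xVec)⁻¹⁻¹ := Commute.inv_right h2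
      rwa [inv_inv] at h3
  have h4 := d.cent_le_H hx
  simpa [mul_assoc] using d.H.mul_mem (d.H.mul_mem (d.H.inv_mem hh) h4) hh

variable {L : List Mat} (hA : d.AutList L)
include hA

/-- The centralisers of all nontrivial elements of the base lie in `H`. -/
theorem cent_all (hS : AllSmall L) {v : Vec} (hv : v ≠ oVec) :
    Subgroup.centralizer ({d.el v} : Set G) ≤ d.H := by
  by_cases hoff : offX L v = true
  · refine d.cent_vec_le hv (fun g hg => ?_) hA (hS v hv hoff)
    have h := List.all_eq_true.1 hoff _ (hA.1 g hg)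
    simp only [Bool.not_eq_true', Bool.or_eq_false_iff, d.mat_app hg] at h
    simpa [Bool.eq_false_iff, Vec.beq_iff] using h
  · rw [offX, List.all_eq_true] at hoff
    push Not at hoff
    obtain ⟨m, hm, h⟩ := hoff
    obtain ⟨g, hg, rfl⟩ := hA.2 m hm
    refine d.cent_le_of_IsX hg ?_
    simpa [Bool.eq_false_iff, Vec.beq_iff, d.mat_app hg, or_iff_not_imp_left] using h

/-- The order of `H`. -/
theorem card_H_list (hnd : L.Nodup) : Nat.card d.H = 27 * L.length := by
  classical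
  let f : d.H → {m : Mat // m ∈ L} := fun h => ⟨d.mat h, hA.1 h h.2⟩
  have hsurj : Function.Surjective f := fun ⟨m, hm⟩ => by
    obtain ⟨g, hg, rfl⟩ := hA.2 m hm
    exact ⟨⟨g, hg⟩, rfl⟩
  let K := d.J.subgroupOf d.H
  have hfib : ∀ a b : d.H, f a = f b ↔ a⁻¹ * b ∈ K := by
    intro a b
    constructor
    · intro e
      have e' : d.mat a = d.mat b := congrArg Subtype.val e
      refine d.eq_of_mat_one (a⁻¹ * b : d.H).2 ?_
      show d.mat ((a : G)⁻¹ * (b : G)) = Mat.one
      rw [d.mat_mul (inv_mem a.2) b.2, ← e', ← d.mat_mul (inv_mem a.2) a.2, inv_mul_cancel,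
        d.mat_one]
    · intro h
      obtain ⟨u, hu⟩ := (h : ((a⁻¹ * b : d.H) : G) ∈ d.J)
      have hu' : (a : G) * d.el u = b := by
        rw [hu]
        simp
      refine Subtype.ext ?_
      show d.mat a = d.mat b
      rw [← hu', d.mat_mul a.2 (d.J_le_H (d.el_mem u)), ← d.of_zero u, d.mat_of]
      dsimp only
      rw [pmat_facts.2.2.2.2.2, Mat.mul_one']
  let F : d.H ⧸ K → {m : Mat // m ∈ L} := Quotient.lift f fun a b h =>
    (hfib a b).2 (QuotientGroup.leftRel_apply.1 h)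
  have hF : Function.Bijective F := by
    refine ⟨?_, fun m => ?_⟩
    · intro p q e
      induction p using QuotientGroup.induction_on with
      | _ a =>
        induction q using QuotientGroup.induction_on with
        | _ b => exact QuotientGroup.eq.2 ((hfib a b).1 e)
    · obtain ⟨a, rfl⟩ := hsurj m
      exact ⟨QuotientGroup.mk a, rfl⟩
  have h1 := Subgroup.card_eq_card_quotient_mul_card_subgroup K
  rw [Nat.card_congr (Equiv.ofBijective F hF),
    Nat.card_congr (Subgroup.subgroupOfEquivOfLe d.J_le_H).toEquiv, d.card_J] at h1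
  rw [h1, mul_comm]
  congr 1
  rw [Nat.subtype_card L.toFinset (fun m => List.mem_toFinset)]
  exact List.toFinset_card_of_nodup hnd

omit hA in
/-- Elements of a `2`-group of `H` with the same action are equal. -/
theorem eq_of_mat_eq {R : Subgroup G} (hR : IsPGroup 2 R) (hRH : R ≤ d.H) {a b : G} (ha : a ∈ R)
    (hb : b ∈ R) (h : d.mat a = d.mat b) : a = b := by
  have hmem : a⁻¹ * b ∈ R := R.mul_mem (R.inv_mem ha) hb
  have hJ : a⁻¹ * b ∈ d.J := d.eq_of_mat_one (hRH hmem) (by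
    rw [d.mat_mul (inv_mem (hRH ha)) (hRH hb), ← h, ← d.mat_mul (inv_mem (hRH ha)) (hRH ha),
      inv_mul_cancel, d.mat_one])
  obtain ⟨n, hn⟩ := hR ⟨_, hmem⟩
  have hn' : (a⁻¹ * b) ^ 2 ^ n = 1 := congrArg Subtype.val hn
  have h3 : (a⁻¹ * b) ^ 3 = 1 := by simpa [pow_succ] using d.J_cube hJ
  have h2 := pow_gcd_eq_one.2 ⟨hn', h3⟩
  rw [Nat.Coprime.pow_left n (by norm_num : Nat.Coprime 2 3), pow_one] at h2
  exact inv_mul_eq_one.1 h2

omit hA in
/-- The matrix of a `2`-element. -/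
theorem twoMat_of {a : G} (ha : a ∈ d.H) (hexp : a ^ 8 = 1) :
    twoMat (d.mat a) = true := by
  have h : d.mat (a ^ (2 * (2 * (2 * 1)))) = Mat.one := by
    rw [show 2 * (2 * (2 * 1)) = 8 from rfl, hexp, d.mat_one]
  rw [d.mat_pow_two ha, d.mat_pow_two ha, d.mat_pow_two ha, pow_one] at h
  simp only [twoMat, Mat.force_eq, Mat.beq_iff]
  exact h

end Setup

end CfsgLib.SymNineRecog
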