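import Cfsg.Agent.SymNineRecog.CentVec

/-!
# The centraliser of an involution of `H` fixing a plane of the base

If the centralisers of the vectors of the plane lie in `H` and the centraliser of the involution in
the automiser is small, its centraliser lies in `H`.
-/

set_option autoImplicit false
set_option linter.style.haveILetI false
set_option linter.unusedSectionVars false

namespace CfsgLib.SymNineRecog

set_option maxRecDepth 100000

universe u

/-- The projection on the fixed space of an involution. -/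
def fixProj (Z : Mat) (u : Vec) : Vec := negVec (u.add (Z.app u))

/-- Its kernel. -/
def fixKer (Z : Mat) (u : Vec) : Bool := (fixProj Z u).beq oVec

theorem vec_algebra : (∀ a b c e : Vec, (a.add b).add (c.add e) = (a.add c).add (b.add e)) ∧
    (∀ a b : Vec, negVec (a.add b) = (negVec a).add (negVec b)) ∧
    (∀ a : Vec, negVec (a.add a) = a) ∧
    (∀ a b : Vec, a.add (negVec b) = oVec → a = b) := by
  have h : ∀ a b c e : T3, (a.add b).add (c.add e) = (a.add c).add (b.add e) := by decide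
  refine ⟨?_, by decide +kernel, by decide +kernel, by decide +kernel⟩
  rintro ⟨a, b, c⟩ ⟨a', b', c'⟩ ⟨a'', b'', c''⟩ ⟨a₃, b₃, c₃⟩
  simp only [Vec.add, h]

/-- What is checked of an involution in a list of matrices. -/
def InvolCheck (L : List Mat) (Z : Mat) : Prop :=
  (Finset.univ.filter fun u => Z.app u = u).card = 9 ∧
    (∀ m ∈ L, m.mul Z = Z.mul m → (∀ v, Z.app v = v → m.app v = v) → m = Mat.one ∨ m = Z) ∧
    (∀ m ∈ L, m.mul Z = Z.mul m → (m.mul m).mul m = Mat.one → m = Mat.one) ∧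
    Small (fixKer Z) (L.filter fun m => (m.mul Z).beq (Z.mul m))

instance (L : List Mat) (Z : Mat) : Decidable (InvolCheck L Z) :=
  inferInstanceAs (Decidable (_ ∧ _))

namespace Setup

variable {G : Type u} [Group G] [Finite G] (d : Setup G)

/-- Two involutions of `H` with the same action are conjugate under the base. -/
theorem conj_of_mat_eq {z z' : G} (hz : z ∈ d.H) (hz' : z' ∈ d.H) (h2 : z * z = 1)
    (h2' : z' * z' = 1) (h : d.mat z = d.mat z') : ∃ a ∈ d.J, a * z * a⁻¹ = z' := by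
  have hi : z⁻¹ = z := inv_eq_of_mul_eq_one_left h2
  set a := z⁻¹ * z' with ha
  have haJ : a ∈ d.J := d.eq_of_mat_one (mul_mem (inv_mem hz) hz') (by
    rw [ha, d.mat_mul (inv_mem hz) hz', ← h, ← d.mat_mul (inv_mem hz) hz, inv_mul_cancel, d.mat_one])
  have hza : z * a = z' := by rw [ha, mul_inv_cancel_left]
  refine ⟨a, haJ, ?_⟩
  have h4 : a⁻¹ = z * a * z := by
    refine inv_eq_of_mul_eq_one_left ?_
    calc z * a * z * a = z * a * (z * a) := by group
      _ = 1 := by rw [hza, h2']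
  have h5 : z * a * z⁻¹ = a⁻¹ := by rw [hi, h4]
  calc a * z * a⁻¹ = a * (z * a⁻¹ * z⁻¹) * z := by group
    _ = a * (z * a * z⁻¹)⁻¹ * z := by group
    _ = a * a * z := by rw [h5, inv_inv]
    _ = a⁻¹ * z := by
      rw [show a * a = a⁻¹ from eq_inv_of_mul_eq_one_left (d.J_cube haJ)]
    _ = z' := by rw [h4, mul_assoc, h2, mul_one, hza]

variable {z : G} (hzH : z ∈ d.H) (hz2 : z * z = 1)

include hzH in
theorem fixed_iff {u : Vec} : (d.mat z).app u = u ↔ d.el u * z = z * d.el u := by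
  rw [d.mat_app hzH]
  exact ⟨fun h => (mul_inv_eq_iff_eq_mul.1 (by rw [← d.act_spec hzH, h])).symm,
    fun h => d.act_eq hzH (mul_inv_eq_iff_eq_mul.2 h.symm)⟩

include hzH hz2 in
theorem fixProj_fixed (u : Vec) : (d.mat z).app (fixProj (d.mat z) u) = fixProj (d.mat z) u := by
  have hzz : (d.mat z).app ((d.mat z).app u) = u := by
    rw [d.mat_app hzH, d.mat_app hzH, ← d.act_mul hzH hzH, hz2]
    exact d.act_eq (one_mem _) (by simp)
  rw [fixProj, show negVec (u.add ((d.mat z).app u)) = Vec.smul .t (u.add ((d.mat z).app u)) from rfl,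
    d.mat_app hzH, d.act_smul hzH, d.act_add hzH, ← d.mat_app hzH, ← d.mat_app hzH, hzz, vec_facts.2]

include hzH in
theorem fixProj_add (a b : Vec) :
    fixProj (d.mat z) (a.add b) = (fixProj (d.mat z) a).add (fixProj (d.mat z) b) := by
  simp only [fixProj, d.mat_app hzH, d.act_add hzH]
  rw [← vec_algebra.2.1, vec_algebra.1 a ((d.act z) a) b]

theorem fixProj_of_fixed {u : Vec} (h : (d.mat z).app u = u) : fixProj (d.mat z) u = u := by
  rw [fixProj, h]; exact vec_algebra.2.2.1 u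

include hzH hz2 in
/-- The centraliser of the involution. -/
theorem cent_invol_le {L : List Mat} (hA : d.AutList L) (hchk : InvolCheck L (d.mat z))
    (hcent : ∀ u, (d.mat z).app u = u → u ≠ oVec →
      Subgroup.centralizer ({d.el u} : Set G) ≤ d.H) :
    Subgroup.centralizer ({z} : Set G) ≤ d.H := by
  haveI : Fact (Nat.Prime 3) := ⟨Nat.prime_three⟩
  obtain ⟨h9, hfixE, hthree, hsmall⟩ := hchk
  set Z := d.mat z with hZ
  set C := Subgroup.centralizer ({z} : Set G) with hC
  have hzC : z ∈ C := Subgroup.mem_centralizer_singleton_iff.2 rfl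
  have hz1 : z ≠ 1 := by
    intro e
    rw [hZ, e, d.mat_one] at h9
    simp only [mat_facts.1, Finset.filter_true] at h9
    exact absurd h9 (by decide)
  have hzJ : z ∉ d.J := fun h => hz1 (by simpa [hz2] using d.J_cube h)
  have hord : orderOf z = 2 := orderOf_eq_prime (by rw [pow_two, hz2]) hz1
  set N := (Subgroup.zpowers z).subgroupOf C with hN
  haveI : N.Normal := ⟨fun e he g => by
    obtain ⟨n, hn⟩ := Subgroup.mem_zpowers_iff.1 (Subgroup.mem_subgroupOf.1 he)
    refine Subgroup.mem_subgroupOf.2 (Subgroup.mem_zpowers_iff.2 ⟨n, ?_⟩)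
    have hg : Commute (g : G) z := Subgroup.mem_centralizer_singleton_iff.1 g.2
    rw [Subgroup.coe_mul, Subgroup.coe_mul, Subgroup.coe_inv, ← hn, (hg.zpow_right n).eq,
      mul_inv_cancel_right]⟩
  set π := QuotientGroup.mk' N
  have hπ : Function.Surjective π := QuotientGroup.mk'_surjective _
  have hzline : ∀ g ∈ Subgroup.zpowers z, g = 1 ∨ g = z := by
    intro g hg
    obtain ⟨n, rfl⟩ := Subgroup.mem_zpowers_iff.1 hg
    rw [← zpow_mod_orderOf, hord]
    rcases Int.emod_two_eq_zero_or_one n with e | e <;> push_cast <;> rw [e] <;> simp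
  have hfixC : ∀ u, Z.app u = u → d.el u ∈ C := fun u hu =>
    Subgroup.mem_centralizer_singleton_iff.2 ((d.fixed_iff hzH).1 hu)
  have hp := d.fixProj_fixed hzH hz2
  let ι : Vec → C ⧸ N := fun u => π ⟨d.el (fixProj Z u), hfixC _ (hp u)⟩
  have hadd : ∀ a b, ι (a.add b) = ι a * ι b := fun a b => by
    simp only [ι, ← map_mul]
    exact congrArg π (Subtype.ext (by
      show d.el _ = d.el _ * d.el _
      rw [d.fixProj_add hzH, d.el_add]))
  have hιfix : ∀ u (hu : Z.app u = u), ι u = π ⟨d.el u, hfixC u hu⟩ := fun u hu => by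
    simp only [ι]
    exact congrArg π (Subtype.ext (congrArg d.el (d.fixProj_of_fixed hu)))
  have hker : ∀ u, ι u = 1 ↔ fixKer Z u = true := fun u => by
    rw [fixKer, Vec.beq_iff]
    simp only [ι, π, QuotientGroup.mk'_apply, QuotientGroup.eq_one_iff, hN, Subgroup.mem_subgroupOf]
    refine ⟨fun h => ?_, fun h => by rw [h, d.el_zero]; exact one_mem _⟩
    rcases hzline _ h with e | e
    · exact d.el_eq_one.1 e
    · exact absurd (e ▸ d.el_mem _) hzJ
  have hι0 : ι oVec = 1 := (hker _).2 (by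
    have h0 : Z.app oVec = oVec := by rw [d.mat_app hzH]; exact d.act_zero hzH
    rw [fixKer, d.fixProj_of_fixed h0, Vec.beq_iff])
  let S : Subgroup (C ⧸ N) :=
    { carrier := {y | ∃ u, ι u = y}
      one_mem' := ⟨oVec, hι0⟩
      mul_mem' := by rintro _ _ ⟨a, rfl⟩ ⟨b, rfl⟩; exact ⟨_, hadd a b⟩
      inv_mem' := by
        rintro _ ⟨a, rfl⟩
        refine ⟨negVec a, eq_inv_of_mul_eq_one_right ?_⟩
        rw [← hadd, (vec_facts.1 a).2.1, hι0] }
  have hS : ∀ y, y ∈ S ↔ ∃ u, ι u = y := fun y => Iff.rfl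
  have hScard : Nat.card S = 9 := by
    rw [← h9, ← Fintype.card_subtype, ← Nat.card_eq_fintype_card]
    refine (Nat.card_congr (Equiv.ofBijective
      (fun u : {u : Vec // Z.app u = u} => (⟨ι u, u, rfl⟩ : S)) ⟨fun a b e => ?_, ?_⟩)).symm
    · have e' : ι a.1 = ι b.1 := congrArg Subtype.val e
      have h1 : ι (a.1.add (negVec b.1)) = 1 := by
        rw [hadd, e', ← hadd, (vec_facts.1 b.1).2.1, hι0]
      have hfx : Z.app (a.1.add (negVec b.1)) = a.1.add (negVec b.1) := by
        rw [d.mat_app hzH, d.act_add hzH, show negVec b.1 = Vec.smul .t b.1 from rfl,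
          d.act_smul hzH, ← d.mat_app hzH, ← d.mat_app hzH, a.2, b.2]
      rw [hker, fixKer, d.fixProj_of_fixed hfx, Vec.beq_iff] at h1
      exact Subtype.ext (vec_algebra.2.2.2 _ _ h1)
    · rintro ⟨_, u, rfl⟩
      refine ⟨⟨fixProj Z u, hp u⟩, Subtype.ext ?_⟩
      show ι (fixProj Z u) = ι u
      rw [hιfix _ (hp u)]
  have hmem3 : ∀ (a b : G), a * z = z * a → a * a * a = 1 → b * b * b = 1 →
      a⁻¹ * b ∈ Subgroup.zpowers z → b = a := by
    intro a b haz ha hb h
    rcases hzline _ h with e | e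
    · exact (inv_mul_eq_one.1 e).symm
    · exfalso
      apply hz1
      have hb' : b = a * z := by rw [← e, mul_inv_cancel_left]
      rw [hb', show a * z * (a * z) * (a * z) = a * (z * a) * (z * a) * z by group, ← haz,
        show a * (a * z) * (a * z) * z = a * a * (z * a) * (z * z) by group, ← haz, hz2, mul_one,
        ← mul_assoc, ha, one_mul] at hb
      exact hb
  have hEgen : ∀ (g : C) (a : Vec), Z.app a = a → π g * ι a * (π g)⁻¹ ∈ S →
      ∃ b, Z.app b = b ∧ (g : G) * d.el a * (g : G)⁻¹ = d.el b ∧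
        π g * ι a * (π g)⁻¹ = ι b := by
    intro g a ha h
    obtain ⟨b, hb⟩ := h
    refine ⟨fixProj Z b, hp b, ?_, ?_⟩
    · have h' : π ⟨d.el (fixProj Z b), hfixC _ (hp b)⟩ = π (g * ⟨d.el a, hfixC a ha⟩ * g⁻¹) := by
        rw [map_mul, map_mul, map_inv, ← hιfix a ha, ← hb]
      rw [QuotientGroup.mk'_apply, QuotientGroup.mk'_apply, QuotientGroup.eq,
        Subgroup.mem_subgroupOf] at h'
      refine hmem3 _ _ ((d.fixed_iff hzH).1 (hp b)) (d.el_cube _) ?_ h'
      calc (g : G) * d.el a * (g : G)⁻¹ * ((g : G) * d.el a * (g : G)⁻¹) *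
            ((g : G) * d.el a * (g : G)⁻¹) = g * (d.el a * d.el a * d.el a) * (g : G)⁻¹ := by group
        _ = 1 := by rw [d.el_cube, mul_one, mul_inv_cancel]
    · rw [hιfix _ (hp b), ← hb]
  set E : Subgroup G := d.J ⊓ C with hE
  have hEmem : ∀ {g}, g ∈ E ↔ ∃ u, Z.app u = u ∧ d.el u = g := by
    intro g
    constructor
    · rintro ⟨⟨u, rfl⟩, hgC⟩
      exact ⟨u, (d.fixed_iff hzH).2 (Subgroup.mem_centralizer_singleton_iff.1 hgC), rfl⟩
    · rintro ⟨u, hu, rfl⟩; exact ⟨d.el_mem u, hfixC u hu⟩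
  have hE9 : Nat.card E = 9 := by
    rw [← h9, ← Fintype.card_subtype, ← Nat.card_eq_fintype_card]
    refine (Nat.card_congr (Equiv.ofBijective
      (fun u : {u : Vec // Z.app u = u} => (⟨d.el u, hEmem.2 ⟨u, u.2, rfl⟩⟩ : E))
      ⟨fun a b e => Subtype.ext (d.el_inj (congrArg Subtype.val e)), ?_⟩)).symm
    rintro ⟨g, hg⟩
    obtain ⟨u, hu, rfl⟩ := hEmem.1 hg
    exact ⟨⟨u, hu⟩, rfl⟩
  have hmatC : ∀ g : C, (g : G) ∈ d.H → (d.mat (g : G)).mul Z = Z.mul (d.mat g) := fun g hg => by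
    rw [hZ, ← d.mat_mul hg hzH, ← d.mat_mul hzH hg,
      Subgroup.mem_centralizer_singleton_iff.1 g.2]
  have hnorm : ∀ g : C, π g ∈ Subgroup.normalizer (S : Set (C ⧸ N)) → (g : G) ∈ d.H := by
    intro g hg
    refine d.norm_plane (E := E) inf_le_left hE9 fun e he => ?_
    obtain ⟨a, ha, rfl⟩ := hEmem.1 he
    obtain ⟨b, hb, e', -⟩ := hEgen g a ha ((Subgroup.mem_normalizer_iff.1 hg _).1 ⟨a, rfl⟩)
    exact e' ▸ hEmem.2 ⟨b, hb, rfl⟩
  have hconj : ∀ g : C, (g : G) ∈ d.H → ∀ u, π g * ι u * (π g)⁻¹ = ι ((d.mat (g : G)).app u) := by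
    intro g hg u
    simp only [ι, ← map_inv, ← map_mul]
    refine congrArg π (Subtype.ext ?_)
    show (g : G) * d.el (fixProj Z u) * (g : G)⁻¹ = d.el (fixProj Z ((d.mat (g : G)).app u))
    rw [← d.act_spec hg]
    congr 1
    have hcomm : (d.mat (g : G)).app (Z.app u) = Z.app ((d.mat (g : G)).app u) := by
      simp only [hZ, d.mat_app hg, d.mat_app hzH, ← d.act_mul hg hzH, ← d.act_mul hzH hg,
        Subgroup.mem_centralizer_singleton_iff.1 g.2]
    rw [fixProj, fixProj, show ∀ w, negVec w = Vec.smul .t w from fun w => rfl, d.act_smul hg,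
      d.act_add hg, ← d.mat_app hg, ← d.mat_app hg, hcomm]
    rfl
  have hinH : ∀ g : C, (g : G) ∈ d.H → π g ∈ Subgroup.normalizer (S : Set (C ⧸ N)) := by
    intro g hg
    refine Subgroup.mem_normalizer_iff.2 fun y => ⟨?_, fun hy => ?_⟩
    · rintro ⟨u, rfl⟩; exact ⟨_, (hconj g hg u).symm⟩
    · obtain ⟨u, hu⟩ := hy
      refine ⟨(d.mat ((g⁻¹ : C) : G)).app u, ?_⟩
      rw [← hconj g⁻¹ (inv_mem hg), hu, map_inv, inv_inv]
      group
  have hoff : ∀ g : C, (g : G) ∈ d.H → d.mat (g : G) = Mat.one ∨ d.mat (g : G) = Z →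
      π g ∈ S := by
    intro g hg h
    obtain ⟨g', hg'J, hg'C, e⟩ : ∃ g' : G, g' ∈ d.J ∧ g' ∈ C ∧ ∀ hg' : g' ∈ C, π ⟨g', hg'⟩ = π g := by
      rcases h with h | h
      · exact ⟨g, d.eq_of_mat_one hg h, g.2, fun _ => rfl⟩
      · refine ⟨(g : G) * z, d.eq_of_mat_one (mul_mem hg hzH) ?_, mul_mem g.2 hzC, fun hg' => ?_⟩
        · rw [d.mat_mul hg hzH, h, hZ, ← d.mat_mul hzH hzH, hz2, d.mat_one]
        · rw [show (⟨(g : G) * z, hg'⟩ : C) = g * ⟨z, hzC⟩ from rfl, map_mul,
            show π ⟨z, hzC⟩ = 1 from (QuotientGroup.eq_one_iff _).2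
              (Subgroup.mem_subgroupOf.2 (Subgroup.mem_zpowers z)), mul_one]
    obtain ⟨u, hu, rfl⟩ := hEmem.1 ⟨hg'J, hg'C⟩
    exact ⟨u, by rw [hιfix u hu]; exact e _⟩
  have hfixone : ∀ g : C, (∀ u, Z.app u = u → (g : G) * d.el u = d.el u * g) → π g ∈ S := by
    intro g hg
    obtain ⟨u, hu, hu0⟩ : ∃ u, Z.app u = u ∧ u ≠ oVec := by
      by_contra hno
      push Not at hno
      have h1 : (Finset.univ.filter fun u => Z.app u = u) ⊆ {oVec} := fun u hu =>
        Finset.mem_singleton.2 (hno u (Finset.mem_filter.1 hu).2)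
      have := Finset.card_le_card h1
      rw [h9, Finset.card_singleton] at this
      omega
    have hgH : (g : G) ∈ d.H :=
      hcent u hu hu0 (Subgroup.mem_centralizer_singleton_iff.2 (hg u hu))
    refine hoff g hgH (hfixE _ (hA.1 _ hgH) (hmatC g hgH) fun v hv => ?_)
    rw [d.mat_app hgH]
    exact d.act_eq hgH (mul_inv_eq_iff_eq_mul.2 (hg v hv))
  let c : SylowThreeNine.Setup (C ⧸ N) :=
    { S := S
      card_eq := hScard
      exp := by
        rintro _ ⟨a, rfl⟩
        rw [← hadd, ← hadd, (vec_facts.1 a).2.2.1, hι0]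
      comm := by
        rintro _ ⟨a, rfl⟩ _ ⟨b, rfl⟩
        rw [← hadd, ← hadd, vec_facts.2]
      not_dvd := by
        intro h27
        have h27C : 3 ^ 3 ∣ Nat.card C :=
          h27.trans (Subgroup.card_quotient_dvd_card N)
        have hEC : E ≤ C := inf_le_right
        obtain ⟨R, hR⟩ := ((d.isPGroup_J.to_le (inf_le_left : E ≤ d.J)).of_equiv
          (Subgroup.subgroupOfEquivOfLe hEC).symm).exists_le_sylow
        have hd := Sylow.pow_dvd_card_of_pow_dvd_card R h27C
        haveI : Group.IsNilpotent (R : Subgroup C) := R.2.isNilpotent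
        have hne : (E.subgroupOf C).subgroupOf R < ⊤ := by
          refine lt_top_iff_ne_top.2 fun e => ?_
          have h1 := Nat.le_of_dvd Nat.card_pos hd
          have h2 := Subgroup.card_le_of_le (Subgroup.subgroupOf_eq_top.1 e)
          rw [Nat.card_congr (Subgroup.subgroupOfEquivOfLe hEC).toEquiv, hE9] at h2
          omega
        obtain ⟨g, hgN, hgE⟩ := SetLike.exists_of_lt
          (Group.normalizerCondition_of_isNilpotent (G := (R : Subgroup C)) _ hne)
        have hgH : ((g : C) : G) ∈ d.H := by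
          refine d.norm_plane (E := E) inf_le_left hE9 fun e he => ?_
          exact Subgroup.mem_subgroupOf.1 (Subgroup.mem_subgroupOf.1
            ((Subgroup.mem_normalizer_iff.1 hgN ⟨⟨e, hEC he⟩, hR he⟩).1 he))
        obtain ⟨n, hn⟩ := R.2 g
        have hn' : ((g : C) : G) ^ 3 ^ n = 1 := by
          simpa using congrArg (fun y : (R : Subgroup C) => ((y : C) : G)) hn
        have hgJ : ((g : C) : G) ∉ d.J := fun hj => hgE ⟨hj, (g : C).2⟩
        obtain ⟨k, hk, w, i, -, e⟩ := d.exists_outside hgH hn' hgJ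
        refine hgJ (d.eq_of_mat_one hgH (hthree _ (hA.1 _ hgH) (hmatC g hgH) ?_))
        have h3 : ∀ i, ((pmat i 0).mul (pmat i 0)).mul (pmat i 0) = Mat.one := by decide +kernel
        have hcube : k * (((g : C) : G) * (g : C) * (g : C)) * k⁻¹ =
            d.of (w, i, 0) * d.of (w, i, 0) * d.of (w, i, 0) := by rw [← e]; group
        have hmo : d.mat (k * (((g : C) : G) * (g : C) * (g : C)) * k⁻¹) = Mat.one := by
          rw [hcube, d.mat_mul (mul_mem (d.of_mem_H _) (d.of_mem_H _)) (d.of_mem_H _),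
            d.mat_mul (d.of_mem_H _) (d.of_mem_H _), d.mat_of]
          exact h3 i
        have hg3 := d.eq_of_mat_one (mul_mem (mul_mem hk (mul_mem (mul_mem hgH hgH) hgH))
          (inv_mem hk)) hmo
        have hg3J : ((g : C) : G) * (g : C) * (g : C) ∈ d.J :=
          (Subgroup.mem_normalizer_iff.1 hk _).2 hg3
        obtain ⟨v, hv⟩ := hg3J
        rw [← d.mat_mul hgH hgH, ← d.mat_mul (mul_mem hgH hgH) hgH, ← hv, ← d.of_zero v, d.mat_of]
        exact pmat_facts.2.2.2.2.2
      cent := by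
        rintro _ ⟨a, rfl⟩ ha y hy
        obtain ⟨g, rfl⟩ := hπ y
        have hp0 : fixProj Z a ≠ oVec := fun e => ha ((hker a).2 (by rw [fixKer, e, Vec.beq_iff]))
        have he : ι (fixProj Z a) = ι a := hιfix _ (hp a)
        have hy' : π g * ι (fixProj Z a) * (π g)⁻¹ = ι (fixProj Z a) := by
          rw [he, Subgroup.mem_centralizer_singleton_iff.1 hy, mul_inv_cancel_right]
        obtain ⟨b, hb, e1, e2⟩ := hEgen g _ (hp a) ⟨_, hy'.symm⟩
        have hab : fixProj Z a = b := by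
          rw [hy', hιfix _ (hp a), hιfix _ hb, QuotientGroup.mk'_apply, QuotientGroup.mk'_apply,
            QuotientGroup.eq, Subgroup.mem_subgroupOf] at e2
          exact (d.el_inj (hmem3 _ _ ((d.fixed_iff hzH).1 (hp a)) (d.el_cube _) (d.el_cube _) e2)).symm
        refine hinH g (hcent _ (hp a) hp0 (Subgroup.mem_centralizer_singleton_iff.2 ?_))
        rw [← hab] at e1
        exact mul_inv_eq_iff_eq_mul.1 e1 }
  have hCS : Subgroup.centralizer (c.S : Set (C ⧸ N)) ≤ c.S := by
    intro y hy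
    obtain ⟨g, rfl⟩ := hπ y
    refine hfixone g fun u hu => ?_
    have hy' : π g * ι u * (π g)⁻¹ = ι u := by
      rw [← Subgroup.mem_centralizer_iff.1 hy _ ⟨u, rfl⟩, mul_inv_cancel_right]
    obtain ⟨b, hb, e1, e2⟩ := hEgen g u hu ⟨u, hy'.symm⟩
    rw [hy', hιfix u hu, hιfix _ hb, QuotientGroup.mk'_apply, QuotientGroup.mk'_apply,
      QuotientGroup.eq, Subgroup.mem_subgroupOf] at e2
    rw [hmem3 _ _ ((d.fixed_iff hzH).1 hu) (d.el_cube _) (d.el_cube _) e2] at e1
    exact mul_inv_eq_iff_eq_mul.1 e1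
  have hsig : ∀ K : Subgroup (C ⧸ N), ¬ 3 ∣ Nat.card K →
      (∀ s ∈ c.S, ∀ k ∈ K, s * k * s⁻¹ ∈ K) → K = ⊥ := by
    intro K hK3 hK
    set Lp := (K.comap π).map C.subtype with hLp
    have hLC : Lp ≤ C := Subgroup.map_subtype_le _
    have hL3 : ¬ 3 ∣ Nat.card Lp := by
      rw [hLp, Subgroup.card_map_of_injective C.subtype_injective]
      have h4 := Subgroup.card_mul_index (K.comap π)
      rw [Subgroup.index_comap_of_surjective _ hπ] at h4
      have h5 := Subgroup.card_mul_index K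
      have hcN : Nat.card N = 2 := by
        rw [hN, Nat.card_congr (Subgroup.subgroupOfEquivOfLe (Subgroup.zpowers_le.2 hzC)).toEquiv,
          Nat.card_zpowers, hord]
      have h6 := Subgroup.card_eq_card_quotient_mul_card_subgroup N
      rw [hcN, ← h5] at h6
      have : Nat.card (K.comap π) = 2 * Nat.card K := by
        refine Nat.eq_of_mul_eq_mul_right (Nat.pos_of_ne_zero
          (Subgroup.index_ne_zero_of_finite (H := K))) ?_
        rw [h4, h6]; ring
      rw [this]
      intro h3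
      rcases (Nat.Prime.dvd_mul Nat.prime_three).1 h3 with h | h
      · norm_num at h
      · exact hK3 h
    have hEn : ∀ e ∈ E, ∀ l ∈ Lp, e * l * e⁻¹ ∈ Lp := by
      intro e he l hl
      obtain ⟨u, hu, rfl⟩ := hEmem.1 he
      obtain ⟨y, hy, rfl⟩ := hl
      refine ⟨⟨d.el u, hfixC u hu⟩ * y * ⟨d.el u, hfixC u hu⟩⁻¹, ?_, rfl⟩
      show π _ ∈ K
      rw [map_mul, map_mul, map_inv, ← hιfix u hu]
      exact hK _ ⟨u, rfl⟩ _ hy
    have hle : Lp ≤ d.H := le_of_nine hL3 hE9
      (fun e he => d.J_cube he.1) hEn fun r hr hr1 k _ hkr => by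
        obtain ⟨u, hu, rfl⟩ := hEmem.1 hr
        exact hcent u hu (fun e0 => hr1 (d.el_eq_one.2 e0))
          (Subgroup.mem_centralizer_singleton_iff.2 hkr)
    refine eq_bot_iff.2 fun y hy => Subgroup.mem_bot.2 ?_
    obtain ⟨g, rfl⟩ := hπ y
    have hgL : (g : G) ∈ Lp := ⟨g, hy, rfl⟩
    have hgS : π g ∈ S := by
      refine hfixone g fun u hu => ?_
      have h1 := mul_mem (hEn _ (hEmem.2 ⟨u, hu, rfl⟩) _ hgL) (inv_mem hgL)
      have h2 : d.el u * ((g : G) * (d.el u)⁻¹ * (g : G)⁻¹) ∈ d.J :=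
        mul_mem (d.el_mem u)
          ((Subgroup.mem_normalizer_iff.1 (hle hgL) _).1 (inv_mem (d.el_mem u)))
      rw [← mul_assoc, ← mul_assoc] at h2
      have h3 : d.el u * (g : G) * (d.el u)⁻¹ * (g : G)⁻¹ = 1 := by
        by_contra hne
        refine hL3 ?_
        have := Subgroup.orderOf_dvd_natCard Lp h1
        rwa [orderOf_eq_prime (p := 3) (by simpa [pow_succ, mul_assoc] using d.J_cube h2) hne] at this
      rw [mul_inv_eq_one, mul_inv_eq_iff_eq_mul] at h3
      exact h3.symm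
    by_contra hne
    refine hK3 ?_
    have h3 : orderOf (π g) = 3 := orderOf_eq_prime (by simpa [pow_succ] using c.exp _ hgS) hne
    exact h3 ▸ Subgroup.orderOf_dvd_natCard K hy
  have hn : c.S.Normal := normal_of_small c hCS hsig ι hadd hS hker
    (L := L.filter fun m => (m.mul Z).beq (Z.mul m)) (fun y hy => by
      obtain ⟨g, rfl⟩ := hπ y
      have hgH := hnorm g hy
      exact ⟨d.mat (g : G), List.mem_filter.2 ⟨hA.1 _ hgH, (Mat.beq_iff _ _).2 (hmatC g hgH)⟩,
        hconj g hgH⟩)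
    (fun m hm => by
      obtain ⟨hmL, hmZ⟩ := List.mem_filter.1 hm
      rw [Mat.beq_iff] at hmZ
      obtain ⟨g, hg, rfl⟩ := hA.2 m hmL
      have hgz : g * z * g⁻¹ ∈ d.H := mul_mem (mul_mem hg hzH) (inv_mem hg)
      obtain ⟨a, ha, e⟩ := d.conj_of_mat_eq hgz hzH
        (by rw [show g * z * g⁻¹ * (g * z * g⁻¹) = g * (z * z) * g⁻¹ by group, hz2, mul_one,
          mul_inv_cancel]) hz2 (by
          rw [d.mat_mul (mul_mem hg hzH) (inv_mem hg), d.mat_mul hg hzH, ← hZ, hmZ]
          rw [hZ, ← d.mat_mul hzH hg, ← d.mat_mul (mul_mem hzH hg) (inv_mem hg),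
            mul_inv_cancel_right])
      have haH := d.J_le_H ha
      have hC' : a * g ∈ C := Subgroup.mem_centralizer_singleton_iff.2
        (mul_inv_eq_iff_eq_mul.1
          ((show a * g * z * (a * g)⁻¹ = a * (g * z * g⁻¹) * a⁻¹ by group).trans e))
      refine ⟨π ⟨a * g, hC'⟩, hinH _ (mul_mem haH hg), fun v => ?_⟩
      rw [hconj _ (mul_mem haH hg)]
      congr 2
      obtain ⟨w, rfl⟩ := ha
      rw [d.mat_mul haH hg, ← d.of_zero w, d.mat_of]
      rcases d.mat g with ⟨A, B, D⟩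
      simp only [pmat_facts.2.2.2.2.2, Mat.mul, mat_facts.1])
    hsmall
  intro g hg
  refine hnorm ⟨g, hg⟩ ?_
  show π ⟨g, hg⟩ ∈ Subgroup.normalizer (c.S : Set (C ⧸ N))
  rw [@Subgroup.normalizer_eq_top _ _ _ hn]
  exact Subgroup.mem_top _

end Setup

end CfsgLib.SymNineRecog
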