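import Cfsg.Agent.S3331
import Cfsg.Agent.PLocal.Cores
import Cfsg.Agent.DicksonPSL2.Subfield
import Mathlib.GroupTheory.SpecificGroups.Alternating
import Mathlib.GroupTheory.Sylow
import Mathlib.Tactic

/-!
# A self-centralised element of order three and an acting `3`-group without signalisers
-/

set_option autoImplicit false
set_option linter.unusedSectionVars false

namespace CfsgLib.SymNineRecog

open scoped MatrixGroups

universe u

/-- A four-group of `Alt 5`. -/
def fourAlt : Subgroup (alternatingGroup (Fin 5)) where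
  carrier := {g | (g : Equiv.Perm (Fin 5)) = 1 ∨
    (g : Equiv.Perm (Fin 5)) = Equiv.swap 0 1 * Equiv.swap 2 3 ∨
    (g : Equiv.Perm (Fin 5)) = Equiv.swap 0 2 * Equiv.swap 1 3 ∨
    (g : Equiv.Perm (Fin 5)) = Equiv.swap 0 3 * Equiv.swap 1 2}
  one_mem' := Or.inl rfl
  mul_mem' := by
    intro a b ha hb
    simp only [Set.mem_setOf_eq, Subgroup.coe_mul] at *
    rcases ha with h | h | h | h <;> rcases hb with h' | h' | h' | h' <;> rw [h, h'] <;>
      decide +kernel
  inv_mem' := by
    intro a ha
    simp only [Set.mem_setOf_eq, InvMemClass.coe_inv] at *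
    rcases ha with h | h | h | h <;> rw [h] <;> decide +kernel

instance : DecidablePred (· ∈ fourAlt) := fun _ => inferInstanceAs (Decidable (_ ∨ _))

theorem fourAlt_facts :
    (Finset.univ.filter fun g => g ∈ fourAlt).card = 4 ∧
    (Finset.univ.filter fun g : alternatingGroup (Fin 5) =>
      ∀ v : alternatingGroup (Fin 5), v ∈ fourAlt → g * v * g⁻¹ ∈ fourAlt).card = 12 := by
  decide +kernel

/-- The number of Sylow `2`-subgroups of a group like `Alt 5` is not divisible by three. -/
theorem not_three_dvd_sylow_two {M : Type u} [Group M] [Finite M]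
    (e : M ≃* alternatingGroup (Fin 5)) : ¬ 3 ∣ Nat.card (Sylow 2 M) := by
  haveI : Fact (Nat.Prime 2) := ⟨Nat.prime_two⟩
  have h60 : Nat.card (alternatingGroup (Fin 5)) = 60 := by
    rw [nat_card_alternatingGroup, Nat.card_fin]; rfl
  have h4 : Nat.card fourAlt = 4 := by
    rw [Nat.card_eq_fintype_card, Fintype.card_subtype]; exact fourAlt_facts.1
  have hfac : (Nat.card (alternatingGroup (Fin 5))).factorization 2 = 2 := by
    rw [h60, show (60 : ℕ) = 2 ^ 2 * 15 from rfl, Nat.factorization_mul (by norm_num) (by norm_num),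
      Finsupp.add_apply, Nat.Prime.factorization_pow Nat.prime_two, Finsupp.single_eq_same,
      Nat.factorization_eq_zero_of_not_dvd (by norm_num : ¬ 2 ∣ 15), add_zero]
  let P : Sylow 2 (alternatingGroup (Fin 5)) := Sylow.ofCard fourAlt (by rw [h4, hfac]; rfl)
  have h12 : 12 ∣ Nat.card (Subgroup.normalizer ((P : Subgroup (alternatingGroup (Fin 5))) :
      Set (alternatingGroup (Fin 5)))) := by
    rw [show Nat.card (Subgroup.normalizer ((P : Subgroup (alternatingGroup (Fin 5))) :
        Set (alternatingGroup (Fin 5)))) = (Finset.univ.filter fun g : alternatingGroup (Fin 5) =>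
      ∀ v : alternatingGroup (Fin 5), v ∈ fourAlt → g * v * g⁻¹ ∈ fourAlt).card by
      rw [← Fintype.card_coe, ← Nat.card_eq_fintype_card]
      refine Nat.card_congr (Equiv.subtypeEquivRight fun g => ?_)
      simp only [Finset.mem_filter, Finset.mem_univ, true_and]
      exact ⟨fun h v hv => (Subgroup.mem_normalizer_iff.1 h v).1 hv, fun h => by
        refine Subgroup.mem_normalizer_iff.2 fun v => ⟨h v, fun hv => ?_⟩
        have hmap : fourAlt.map (MulAut.conj g).toMonoidHom = fourAlt :=
          Subgroup.eq_of_le_of_card_ge (by rintro _ ⟨w, hw, rfl⟩; exact h w hw)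
            (Subgroup.card_map_of_injective (MulAut.conj g).injective).ge
        obtain ⟨w, hw, e'⟩ := hmap.ge hv
        rwa [← (MulAut.conj g).injective (show MulAut.conj g w = MulAut.conj g v from e')]⟩]
    rw [fourAlt_facts.2]
  have hidx : (Subgroup.normalizer ((P : Subgroup (alternatingGroup (Fin 5))) :
      Set (alternatingGroup (Fin 5)))).index ∣ 5 := by
    obtain ⟨k, hk⟩ := h12
    have := Subgroup.card_mul_index (Subgroup.normalizer
      ((P : Subgroup (alternatingGroup (Fin 5))) : Set (alternatingGroup (Fin 5))))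
    rw [h60, hk] at this
    exact ⟨k, by nlinarith⟩
  intro h
  let Q : Sylow 2 M := P.mapSurjective (f := e.symm.toMonoidHom) e.symm.surjective
  rw [Sylow.card_eq_index_normalizer Q] at h
  have hN : Subgroup.normalizer ((Q : Subgroup M) : Set M) =
      (Subgroup.normalizer ((P : Subgroup (alternatingGroup (Fin 5))) :
        Set (alternatingGroup (Fin 5)))).map e.symm.toMonoidHom :=
    (Subgroup.map_equiv_normalizer_eq (P : Subgroup (alternatingGroup (Fin 5))) e.symm).symm
  change 3 ∣ (Subgroup.normalizer ((Q : Subgroup M) : Set M)).index at h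
  rw [hN, Subgroup.index_map_of_bijective e.symm.bijective] at h
  exact absurd (h.trans hidx) (by norm_num)

variable {Y : Type u} [Group Y] [Finite Y]

/-- A `3`-group normalising `M`, with `u ∈ M` of order three self-centralised in `M` and no
nontrivial invariant subgroup of order prime to three in `M`: then `M` normalises `⟨u⟩`. -/
theorem self_three {M R : Subgroup Y} (hR : IsPGroup 3 R)
    (hn : ∀ r ∈ R, ∀ m ∈ M, r * m * r⁻¹ ∈ M) {u : Y} (hu : u ∈ M) (hord : orderOf u = 3)
    (hcent : ∀ g ∈ M, g * u = u * g → g ∈ Subgroup.zpowers u)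
    (hsig : ∀ K ≤ M, ¬ 3 ∣ Nat.card K → (∀ r ∈ R, ∀ k ∈ K, r * k * r⁻¹ ∈ K) → K = ⊥) :
    ∀ g ∈ M, g * u * g⁻¹ ∈ Subgroup.zpowers u := by
  classical
  haveI : Fact (Nat.Prime 3) := ⟨Nat.prime_three⟩
  let φ : R →* MulAut M :=
    { toFun := fun r =>
        { toFun := fun m => ⟨r * m * (r : Y)⁻¹, hn r r.2 m m.2⟩
          invFun := fun m => ⟨(r : Y)⁻¹ * m * r, by
            simpa using hn _ (inv_mem r.2) m m.2⟩
          left_inv := fun m => Subtype.ext (by simp [mul_assoc])
          right_inv := fun m => Subtype.ext (by simp [mul_assoc])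
          map_mul' := fun a b => Subtype.ext (show (r : Y) * ((a : Y) * b) * (r : Y)⁻¹ =
            (r : Y) * a * (r : Y)⁻¹ * ((r : Y) * b * (r : Y)⁻¹) by group) }
      map_one' := MulEquiv.ext fun m => Subtype.ext (by simp)
      map_mul' := fun r s => MulEquiv.ext fun m => Subtype.ext (by simp [mul_assoc]) }
  have hinv : ∀ K : Subgroup M, ¬ 3 ∣ Nat.card K →
      (∀ r, K.map (φ r).toMonoidHom = K) → K = ⊥ := by
    intro K h3 hK
    rw [← Subgroup.map_eq_bot_iff_of_injective K M.subtype_injective]
    refine hsig _ (Subgroup.map_subtype_le K) ?_ ?_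
    · rwa [Subgroup.card_map_of_injective M.subtype_injective]
    · rintro r hr _ ⟨k, hk, rfl⟩
      exact ⟨φ ⟨r, hr⟩ k, (hK ⟨r, hr⟩).le ⟨k, hk, rfl⟩, rfl⟩
  set uM : M := ⟨u, hu⟩
  have hX : Nat.card (Subgroup.zpowers uM) = 3 := by
    rw [Nat.card_zpowers, ← Subgroup.orderOf_coe, hord]
  have hmem : ∀ g : M, g ∈ Subgroup.zpowers uM ↔ (g : Y) ∈ Subgroup.zpowers u := fun g => by
    simp only [Subgroup.mem_zpowers_iff]
    exact exists_congr fun n => ⟨fun e => congrArg Subtype.val e, fun e => Subtype.ext e⟩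
  have hC : Subgroup.centralizer (Subgroup.zpowers uM : Set M) = Subgroup.zpowers uM := by
    refine le_antisymm (fun g hg => (hmem g).2 (hcent g g.2 ?_)) ?_
    · exact (congrArg Subtype.val
        (Subgroup.mem_centralizer_iff.1 hg uM (Subgroup.mem_zpowers uM))).symm
    · intro g hg
      obtain ⟨n, rfl⟩ := Subgroup.mem_zpowers_iff.1 hg
      refine Subgroup.mem_centralizer_iff.2 fun h hh => ?_
      obtain ⟨k, rfl⟩ := Subgroup.mem_zpowers_iff.1 hh
      exact zpow_mul_comm _ _ _
  have hcore : Cfsg.pPrimeCore 3 M = ⊥ := hinv _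
    ((Nat.prime_three.coprime_iff_not_dvd).1 (PLocal.coprime_card_pPrimeCore 3 M).symm)
    fun r => PLocal.map_pPrimeCore_equiv (φ r)
  -- a Sylow subgroup fixed by `R` would be invariant
  have hfix : ∀ q : ℕ, [Fact q.Prime] → q ≠ 3 → q ∣ Nat.card M →
      3 ∣ Nat.card (Sylow q M) := by
    intro q _ hq hdvd
    by_contra hn3
    letI : MulDistribMulAction R M := MulDistribMulAction.compHom M φ
    haveI : Finite (Sylow q M) := inferInstance
    obtain ⟨S, hS⟩ := hR.nonempty_fixed_point_of_prime_not_dvd_card (Sylow q M) hn3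
    have hbot : (S : Subgroup M) = ⊥ := by
      refine hinv _ ?_ fun r => ?_
      · intro h3
        obtain ⟨k, hk⟩ := IsPGroup.iff_card.1 S.2
        rw [hk] at h3
        exact hq ((Nat.prime_dvd_prime_iff_eq Nat.prime_three Fact.out).1
          (Nat.prime_three.dvd_of_dvd_pow h3)).symm
      · exact congrArg (fun T : Sylow q M => (T : Subgroup M)) (hS r)
    have h := S.dvd_card_of_dvd_card hdvd
    rw [hbot, Subgroup.card_bot, Nat.dvd_one] at h
    exact (Fact.out : q.Prime).ne_one h
  intro g hg
  suffices hnorm : (Subgroup.zpowers uM).Normal from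
    (hmem _).1 (hnorm.conj_mem uM (Subgroup.mem_zpowers uM) ⟨g, hg⟩)
  rcases Cfsg.Agent.S3331.result _ hX hC with ⟨N, hN, -, hcop, hq⟩ | ⟨N, hN, hcomm, hexp, ⟨e⟩⟩ |
    ⟨⟨e⟩⟩
  · have hN0 : N = ⊥ := le_bot_iff.1 (hcore ▸ le_sSup ⟨hN, hcop⟩)
    subst hN0
    rw [Nat.card_congr QuotientGroup.quotientBot.toEquiv] at hq
    rcases hq with h | ⟨⟨e⟩⟩
    · rw [show Subgroup.zpowers uM = ⊤ from Subgroup.eq_top_of_card_eq _ (by rw [hX, h])]
      infer_instance
    · refine Subgroup.normal_of_index_eq_two ?_
      have h1 := Subgroup.card_mul_index (Subgroup.zpowers uM)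
      rw [hX, Nat.card_congr (QuotientGroup.quotientBot.symm.trans e).toEquiv, Nat.card_perm,
        Nat.card_fin] at h1
      norm_num [Nat.factorial] at h1
      omega
  · exfalso
    haveI : Fact (Nat.Prime 2) := ⟨Nat.prime_two⟩
    have hN2 : IsPGroup 2 N := fun n => ⟨1, Subtype.ext (by simpa using hexp n n.2)⟩
    have hcop : (Nat.card N).Coprime 3 := by
      obtain ⟨k, hk⟩ := IsPGroup.iff_card.1 hN2
      rw [hk]
      exact Nat.Coprime.pow_left _ (by norm_num)
    have hN0 : N = ⊥ := le_bot_iff.1 (hcore ▸ le_sSup ⟨hN, hcop⟩)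
    subst hN0
    have e' := QuotientGroup.quotientBot.symm.trans e
    refine not_three_dvd_sylow_two e' (hfix 2 (by norm_num) ?_)
    rw [Nat.card_congr e'.toEquiv, nat_card_alternatingGroup, Nat.card_fin]
    decide
  · exfalso
    haveI : Fact (Nat.Prime 7) := ⟨by norm_num⟩
    have h168 : Nat.card M = 168 := by
      rw [Nat.card_congr e.toEquiv]
      have h := CfsgLib.DicksonPSL2.card_PSL_formula (K := ZMod 7)
      rw [ZMod.card, show Nat.gcd 2 (7 - 1) = 2 from rfl] at h
      omega
    have h3 := hfix 7 (by norm_num) (by rw [h168]; norm_num)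
    have h1 := card_sylow_modEq_one 7 M
    obtain ⟨S⟩ := (inferInstance : Nonempty (Sylow 7 M))
    have h24 : Nat.card (Sylow 7 M) ∣ 24 := by
      have h7 : Nat.card (S : Subgroup M) = 7 := by
        obtain ⟨k, hk⟩ := IsPGroup.iff_card.1 S.2
        have ha := S.dvd_card_of_dvd_card (show 7 ∣ Nat.card M by rw [h168]; norm_num)
        have hb := Subgroup.card_subgroup_dvd_card (S : Subgroup M)
        rw [hk] at ha hb
        rw [h168] at hb
        rcases k with _ | _ | k
        · norm_num at ha
        · simpa using hk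
        · exfalso
          exact absurd ((pow_dvd_pow 7 (show 2 ≤ k + 1 + 1 by omega)).trans hb) (by norm_num)
      have hi := Subgroup.card_mul_index (S : Subgroup M)
      rw [h7, h168] at hi
      exact S.card_dvd_index.trans (dvd_of_eq (by omega))
    have hle := Nat.le_of_dvd (by norm_num) h24
    unfold Nat.ModEq at h1
    obtain ⟨k, hk⟩ := h3
    rw [hk] at h1 hle h24
    have hk8 : k ≤ 8 := by omega
    interval_cases k <;> first | omega | norm_num at h24

end CfsgLib.SymNineRecog
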