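import Cfsg.Agent.AltNineRecog.NineTwo
import Cfsg.Agent.SylowThreeNine.Klein.Main
import Cfsg.Agent.SymNineRecog.Self3
import Mathlib.GroupTheory.Transfer

/-!
# Self-centralising Sylow subgroups of order nine with small automisers

Without an invariant subgroup of order prime to three the Sylow subgroup is normal when its
automiser is trivial, is one inversion, one reflection, or a four-group of reflections.
-/

set_option autoImplicit false
set_option linter.style.haveILetI false
set_option linter.unusedSectionVars false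

namespace CfsgLib.SymNineRecog

universe u

open scoped IsMulCommutative

variable {X : Type u} [Group X] [Finite X] (c : SylowThreeNine.Setup X)
  (hCS : Subgroup.centralizer (c.S : Set X) ≤ c.S)
  (hsig : ∀ K : Subgroup X, ¬ 3 ∣ Nat.card K → (∀ s ∈ c.S, ∀ k ∈ K, s * k * s⁻¹ ∈ K) → K = ⊥)

include hsig in
theorem core_of_sig (L : Subgroup X) (hL : L.Normal) (h3 : ¬ 3 ∣ Nat.card L) : L = ⊥ :=
  hsig L h3 fun s _ k hk => hL.conj_mem k hk s

/-- The Sylow subgroup as a Sylow subgroup. -/
def nineSylow : Sylow 3 X :=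
  ⟨c.S, c.isPGroup, fun {_} hQ hle => (Subgroup.eq_of_le_of_card_ge hle (by
    rw [c.card_eq]; exact c.card_le hQ)).symm⟩

include hsig in
/-- A trivial automiser. -/
theorem normal_trivial
    (hN : ∀ g ∈ Subgroup.normalizer (c.S : Set X), ∀ s ∈ c.S, g * s * g⁻¹ = s) : c.S.Normal := by
  haveI : Fact (Nat.Prime 3) := ⟨Nat.prime_three⟩
  let P : Sylow 3 (⊤ : Subgroup X) := (nineSylow c).subtype le_top
  have h := AltNineRecog.sylow_eq_top_of_core (core_of_sig c hsig) ⊤ P (fun g hg => by
    refine Subgroup.mem_centralizer_iff.2 fun y hy => Subtype.ext ?_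
    refine (mul_inv_eq_iff_eq_mul.1 (hN g ?_ y hy)).symm
    refine Subgroup.mem_normalizer_iff.2 fun z => ?_
    exact Subgroup.mem_normalizer_iff.1 hg ⟨z, Subgroup.mem_top z⟩)
  have htop : c.S = ⊤ := top_le_iff.1 (Subgroup.subgroupOf_eq_top.1 h)
  rw [htop]
  infer_instance

include hCS hsig in
/-- The automiser is one inversion. -/
theorem normal_inversion
    (hN : ∀ g ∈ Subgroup.normalizer (c.S : Set X),
      (∀ s ∈ c.S, g * s * g⁻¹ = s) ∨ ∀ s ∈ c.S, g * s * g⁻¹ = s⁻¹) : c.S.Normal := by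
  by_cases hinv : ∀ g ∈ Subgroup.normalizer (c.S : Set X), ∀ s ∈ c.S, g * s * g⁻¹ = s
  · exact normal_trivial c hsig hinv
  push Not at hinv
  obtain ⟨n, hn, s₀, hs₀, hne⟩ := hinv
  obtain ⟨a, ha, ha1⟩ := (Subgroup.bot_or_exists_ne_one c.S).resolve_left fun e => by
    have := c.card_eq
    rw [e, Subgroup.card_bot] at this
    omega
  let N : AltNineRecog.NineTwo X :=
    { S := c.S, card_eq := c.card_eq, exp := c.exp, comm := c.comm, not_dvd := c.not_dvd
      a := a, a_mem := ha, a_ne := ha1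
      cent := fun s hs hsa => by
        have hs1 : s ≠ 1 := fun e => hsa (e ▸ one_mem _)
        refine le_antisymm (fun g hg => ?_) fun g hg => ?_
        · refine hCS (Subgroup.mem_centralizer_iff.2 fun t ht => ?_)
          rcases hN g (c.cent s hs hs1 hg) with h | h
          · exact (mul_inv_eq_iff_eq_mul.1 (h t ht)).symm
          · exfalso
            have h1 := h s hs
            rw [Subgroup.mem_centralizer_singleton_iff.1 hg, mul_inv_cancel_right] at h1
            have h2 : s * s = 1 := mul_eq_one_iff_eq_inv.2 h1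
            exact hs1 (by simpa [h2] using c.exp s hs)
        · exact Subgroup.mem_centralizer_singleton_iff.2 (c.comm g hg s hs)
      norm := hN
      inv_elt := ⟨n, (hN n hn).resolve_left fun h => hne (h s₀ hs₀)⟩ }
  exact N.normal (core_of_sig c hsig)

include hsig in
/-- The automiser is one reflection. -/
theorem normal_reflection {a b r : X} (ha : a ∈ c.S) (hb : b ∈ c.S) (hb1 : b ≠ 1)
    (hab : a ∉ Subgroup.zpowers b)
    (hr : r * b * r⁻¹ = b⁻¹)
    (hN : ∀ g ∈ Subgroup.normalizer (c.S : Set X), g * a * g⁻¹ = a ∧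
      ((∀ s ∈ c.S, g * s * g⁻¹ = s) ∨ g * b * g⁻¹ = b⁻¹))
    (hCS : Subgroup.centralizer (c.S : Set X) ≤ c.S) : c.S.Normal := by
  haveI : Fact (Nat.Prime 3) := ⟨Nat.prime_three⟩
  haveI hcomm : IsMulCommutative c.S := ⟨⟨fun s t => Subtype.ext (c.comm s s.2 t t.2)⟩⟩
  set V := MonoidHom.transfer (MonoidHom.id c.S) with hV
  have hfix : ∀ (k : ℕ) (g : X), g⁻¹ * a ^ k * g ∈ c.S → g⁻¹ * a ^ k * g = a ^ k := by
    intro k g hg
    by_cases h1 : a ^ k = 1
    · rw [h1]; simp
    have hgN : g⁻¹ ∈ Subgroup.normalizer (c.S : Set X) :=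
      c.mem_normalizer_of_conj (pow_mem ha k) h1 (by rwa [inv_inv])
    have := (hN _ hgN).1
    calc g⁻¹ * a ^ k * g = g⁻¹ * a ^ k * g⁻¹⁻¹ := by rw [inv_inv]
      _ = a ^ k := by rw [← conj_pow, this]
  have hVa : (V a : X) = a ^ c.S.index := by
    rw [hV, MonoidHom.transfer_eq_pow _ a hfix]; rfl
  have hidx : ¬ 3 ∣ c.S.index := (nineSylow c).not_dvd_index
  have hane : a ≠ 1 := fun e => hab (e ▸ one_mem _)
  have hVane : V a ≠ 1 := fun e => by
    rw [e, Subgroup.coe_one] at hVa
    have h := orderOf_dvd_of_pow_eq_one hVa.symm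
    rw [orderOf_eq_prime (c.pow_three ha) hane] at h
    exact hidx h
  have hVb : V b = 1 := by
    have h1 : V b⁻¹ = V b := by
      rw [← hr, map_mul, map_mul, map_inv, mul_comm (V r) (V b), mul_inv_cancel_right]
    have h2 : V b * V b = 1 := by
      rw [map_inv] at h1
      conv_lhs => lhs; rw [← h1]
      exact inv_mul_cancel _
    have h3 : (V b : X) * V b = 1 := congrArg Subtype.val h2
    exact Subtype.ext (by simpa [h3] using c.exp _ (V b).2)
  set M := V.ker with hM
  have hbM : b ∈ M := hVb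
  -- the Sylow subgroup meets `M` in `⟨b⟩`
  have hsup : c.S = Subgroup.zpowers b ⊔ Subgroup.zpowers a := by
    refine (Subgroup.eq_of_le_of_card_ge (sup_le (Subgroup.zpowers_le.2 hb)
      (Subgroup.zpowers_le.2 ha)) ?_).symm
    rw [c.card_eq]
    by_contra hlt
    have hlt' := not_le.1 hlt
    obtain ⟨k, hk, he⟩ := (Nat.dvd_prime_pow Nat.prime_three).1
      (show Nat.card ↥(Subgroup.zpowers b ⊔ Subgroup.zpowers a) ∣ 3 ^ 2 by
        have h := Subgroup.card_dvd_of_le (sup_le (Subgroup.zpowers_le.2 hb) (Subgroup.zpowers_le.2 ha))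
        rwa [c.card_eq] at h)
    have h3 := Subgroup.card_le_of_le
      (le_sup_left : Subgroup.zpowers b ≤ Subgroup.zpowers b ⊔ Subgroup.zpowers a)
    rw [Nat.card_zpowers, orderOf_eq_prime (c.pow_three hb) hb1, he] at h3
    rw [he] at hlt'
    have hk1 : k = 1 := by interval_cases k <;> simp_all
    refine hab ?_
    rw [Subgroup.eq_of_le_of_card_ge (le_sup_left : Subgroup.zpowers b ≤ _ ⊔ Subgroup.zpowers a)
      (by rw [he, hk1, Nat.card_zpowers, orderOf_eq_prime (c.pow_three hb) hb1]; norm_num)]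
    exact Subgroup.mem_sup_right (Subgroup.mem_zpowers a)
  have hdec : ∀ s ∈ c.S, ∃ m n : ℤ, b ^ m * a ^ n = s := by
    intro s hs
    let T : Subgroup X :=
      { carrier := {s | ∃ m n : ℤ, b ^ m * a ^ n = s}
        one_mem' := ⟨0, 0, by simp⟩
        mul_mem' := by
          rintro _ _ ⟨m, n, rfl⟩ ⟨m', n', rfl⟩
          refine ⟨m + m', n + n', ?_⟩
          have e : Commute (a ^ n) (b ^ m') := (Commute.zpow_left (c.comm a ha b hb : Commute a b) _).zpow_right _
          rw [zpow_add, zpow_add, mul_assoc, mul_assoc, ← mul_assoc (b ^ m'), ← e.eq, mul_assoc]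
        inv_mem' := by
          rintro _ ⟨m, n, rfl⟩
          refine ⟨-m, -n, ?_⟩
          have e : Commute (b ^ m) (a ^ n) := (Commute.zpow_left (c.comm b hb a ha : Commute b a) _).zpow_right _
          rw [zpow_neg, zpow_neg, e.eq, mul_inv_rev] }
    have hle : c.S ≤ T := by
      rw [hsup]
      exact sup_le (Subgroup.zpowers_le.2 ⟨1, 0, by simp⟩) (Subgroup.zpowers_le.2 ⟨0, 1, by simp⟩)
    exact hle hs
  have hSM : ∀ s ∈ c.S, s ∈ M → s ∈ Subgroup.zpowers b := by
    intro s hs hsM
    obtain ⟨m, n, rfl⟩ := hdec s hs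
    have h1 : V a ^ n = 1 := by
      have h := MonoidHom.mem_ker.1 hsM
      rwa [map_mul, map_zpow, map_zpow, hVb, one_zpow, one_mul] at h
    have ho : orderOf (V a) = 3 := orderOf_eq_prime (by
      rw [← map_pow, c.pow_three ha, map_one]) hVane
    have hd := orderOf_dvd_iff_zpow_eq_one.2 h1
    rw [ho] at hd
    obtain ⟨k, rfl⟩ := hd
    have : a ^ ((3 : ℕ) : ℤ) = 1 := by rw [zpow_natCast, c.pow_three ha]
    rw [zpow_mul, this, one_zpow, mul_one]
    exact zpow_mem (Subgroup.mem_zpowers b) m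
  have key := self_three (M := M) (R := c.S) c.isPGroup
    (fun s _ m hm => (MonoidHom.normal_ker V).conj_mem m hm s) hbM
    (orderOf_eq_prime (c.pow_three hb) hb1) (fun g hg hgb => by
      have hgN := c.cent b hb hb1 (Subgroup.mem_centralizer_singleton_iff.2 hgb)
      refine hSM g (hCS (Subgroup.mem_centralizer_iff.2 fun t ht => ?_)) hg
      rcases (hN g hgN).2 with h | h
      · exact (mul_inv_eq_iff_eq_mul.1 (h t ht)).symm
      · exfalso
        rw [hgb, mul_inv_cancel_right] at h
        have h2 : b * b = 1 := mul_eq_one_iff_eq_inv.2 h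
        exact hb1 (by simpa [h2] using c.exp b hb))
    (fun K _ h3 hK => hsig K h3 hK)
  -- the whole group normalises `⟨b⟩`
  have hgen : ∀ g : X, ∃ n : ℤ, g * a ^ n ∈ M := by
    intro g
    have htop : c.S ⊔ M = ⊤ := by
      refine eq_top_iff.2 fun y _ => ?_
      have hb3 : Subgroup.zpowers (V a) = V.range := by
        refine Subgroup.eq_of_le_of_card_ge (Subgroup.zpowers_le.2 ⟨a, rfl⟩) ?_
        have hne : V.range ≠ ⊤ := by
          intro e
          have hcard := Subgroup.index_ker V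
          rw [e, Subgroup.card_top, c.card_eq] at hcard
          -- then `V` would be injective on `S`
          have h9 : ¬ 3 ∣ Nat.card M := by
            intro h3
            refine c.not_dvd ?_
            rw [← Subgroup.card_mul_index M, hcard]
            exact Nat.mul_dvd_mul_right h3 9
          refine h9 ?_
          have := Subgroup.orderOf_dvd_natCard M hbM
          rwa [orderOf_eq_prime (c.pow_three hb) hb1] at this
        obtain ⟨k, hk, he⟩ := (Nat.dvd_prime_pow Nat.prime_three).1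
          (show Nat.card V.range ∣ 3 ^ 2 by
            have := Subgroup.card_subgroup_dvd_card V.range
            rwa [c.card_eq] at this)
        rw [Nat.card_zpowers, orderOf_eq_prime (by rw [← map_pow, c.pow_three ha, map_one]) hVane,
          he]
        interval_cases k
        · norm_num
        · norm_num
        · exact absurd (Subgroup.eq_top_of_card_eq _ (by rw [he, c.card_eq]; norm_num)) hne
      obtain ⟨n, hn⟩ := Subgroup.mem_zpowers_iff.1 (hb3.ge ⟨y, rfl⟩)
      have : a ^ (-n) * y ∈ M := by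
        rw [hM, MonoidHom.mem_ker, map_mul, map_zpow, ← hn, ← zpow_add, neg_add_cancel, zpow_zero]
      have := mul_mem (Subgroup.mem_sup_left (zpow_mem ha n) : a ^ n ∈ c.S ⊔ M)
        (Subgroup.mem_sup_right this)
      rwa [← mul_assoc, ← zpow_add, add_neg_cancel, zpow_zero, one_mul] at this
    haveI : M.Normal := MonoidHom.normal_ker V
    have hg : g ∈ ((M ⊔ c.S : Subgroup X) : Set X) := by
      rw [sup_comm, htop]; trivial
    rw [Subgroup.normal_mul] at hg
    obtain ⟨m, hm, s, hs, rfl⟩ := hg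
    obtain ⟨i, j, rfl⟩ := hdec s hs
    refine ⟨-j, ?_⟩
    have : m * (b ^ i * a ^ j) * a ^ (-j) = m * b ^ i := by simp [mul_assoc]
    rw [this]
    exact mul_mem hm (zpow_mem hbM i)
  have hall : ∀ g : X, g * b * g⁻¹ ∈ Subgroup.zpowers b := by
    intro g
    obtain ⟨n, hn⟩ := hgen g
    have hab' : a ^ n * b = b * a ^ n := (Commute.zpow_left (c.comm a ha b hb : Commute a b) n).eq
    have h := key _ hn
    rwa [show g * a ^ n * b * (g * a ^ n)⁻¹ = g * (a ^ n * b * (a ^ n)⁻¹) * g⁻¹ by group, hab',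
      mul_inv_cancel_right] at h
  refine ⟨fun s hs g => ?_⟩
  have hsb : Commute s (g⁻¹ * b * g) := by
    obtain ⟨n, hn⟩ := Subgroup.mem_zpowers_iff.1 (hall g⁻¹)
    rw [inv_inv] at hn
    rw [← hn]
    exact Commute.zpow_right (c.comm s hs b hb) n
  refine c.mem_of_normalizes (by rw [conj_pow, c.pow_three hs, mul_one, mul_inv_cancel]) ?_
  refine c.cent b hb hb1 (Subgroup.mem_centralizer_singleton_iff.2 ?_)
  calc g * s * g⁻¹ * b = g * (s * (g⁻¹ * b * g)) * g⁻¹ := by group
    _ = g * ((g⁻¹ * b * g) * s) * g⁻¹ := by rw [hsb.eq]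
    _ = _ := by group

include hCS in
/-- The automiser is a four-group of reflections. -/
theorem normal_klein {x y r q : X} (hx : x ∈ c.S) (hy : y ∈ c.S) (hx1 : x ≠ 1)
    (hyx : y ∉ Subgroup.zpowers x)
    (hr : r ∈ Subgroup.normalizer (c.S : Set X)) (hq : q ∈ Subgroup.normalizer (c.S : Set X))
    (hrx : r * x * r⁻¹ = x) (hry : r * y * r⁻¹ = y⁻¹)
    (hqx : q * x * q⁻¹ = x⁻¹) (hqy : q * y * q⁻¹ = y)
    (hN : ∀ g ∈ Subgroup.normalizer (c.S : Set X),
      (g * x * g⁻¹ = x ∨ g * x * g⁻¹ = x⁻¹) ∧ (g * y * g⁻¹ = y ∨ g * y * g⁻¹ = y⁻¹)) :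
    c.S.Normal := by
  haveI : Fact (Nat.Prime 3) := ⟨Nat.prime_three⟩
  have hy1 : y ≠ 1 := fun e => hyx (e ▸ one_mem _)
  have hne : ∀ z ∈ c.S, z ≠ 1 → z ≠ z⁻¹ := fun z hz hz1 e => hz1 (by
    have h2 : z * z = 1 := mul_eq_one_iff_eq_inv.2 e
    simpa [h2] using c.exp z hz)
  let w : Fin 2 × Fin 2 → X := fun i => r ^ (i.1 : ℕ) * q ^ (i.2 : ℕ)
  let e : X → Fin 2 → X := fun z i => if i = 0 then z else z⁻¹
  have hw : ∀ i, w i * x * (w i)⁻¹ = e x i.2 ∧ w i * y * (w i)⁻¹ = e y i.1 := by
    rintro ⟨i, j⟩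
    fin_cases i <;> fin_cases j <;> refine ⟨?_, ?_⟩ <;>
      simp only [w, e, Fin.mk_one, Fin.zero_eta, Fin.val_one, Fin.val_zero, pow_one, pow_zero,
        one_mul, mul_one, inv_one, if_pos, Fin.isValue, one_ne_zero, if_false, hrx, hry, hqx, hqy,
        ↓reduceIte]
    · calc r * q * x * (r * q)⁻¹ = r * (q * x * q⁻¹) * r⁻¹ := by group
        _ = x⁻¹ := by rw [hqx, ← conj_inv, hrx]
    · calc r * q * y * (r * q)⁻¹ = r * (q * y * q⁻¹) * r⁻¹ := by group
        _ = y⁻¹ := by rw [hqy, hry]
  have hgen : c.S = Subgroup.zpowers x ⊔ Subgroup.zpowers y := by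
    refine (Subgroup.eq_of_le_of_card_ge (sup_le (Subgroup.zpowers_le.2 hx)
      (Subgroup.zpowers_le.2 hy)) ?_).symm
    rw [c.card_eq]
    by_contra hlt
    have hlt' := not_le.1 hlt
    obtain ⟨k, hk, he⟩ := (Nat.dvd_prime_pow Nat.prime_three).1
      (show Nat.card ↥(Subgroup.zpowers x ⊔ Subgroup.zpowers y) ∣ 3 ^ 2 by
        have h := Subgroup.card_dvd_of_le (sup_le (Subgroup.zpowers_le.2 hx) (Subgroup.zpowers_le.2 hy))
        rwa [c.card_eq] at h)
    have h3 := Subgroup.card_le_of_le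
      (le_sup_left : Subgroup.zpowers x ≤ Subgroup.zpowers x ⊔ Subgroup.zpowers y)
    rw [Nat.card_zpowers, orderOf_eq_prime (c.pow_three hx) hx1, he] at h3
    rw [he] at hlt'
    have hk1 : k = 1 := by interval_cases k <;> simp_all
    refine hyx ?_
    rw [Subgroup.eq_of_le_of_card_ge (le_sup_left : Subgroup.zpowers x ≤ _ ⊔ Subgroup.zpowers y)
      (by rw [he, hk1, Nat.card_zpowers, orderOf_eq_prime (c.pow_three hx) hx1]; norm_num)]
    exact Subgroup.mem_sup_right (Subgroup.mem_zpowers y)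
  have hcent : ∀ g : X, g * x * g⁻¹ = x → g * y * g⁻¹ = y → g ∈ c.S := by
    intro g h1 h2
    refine hCS (Subgroup.le_centralizer_iff.1 ?_ (Subgroup.mem_zpowers g))
    rw [hgen]
    refine sup_le (Subgroup.zpowers_le.2 ?_) (Subgroup.zpowers_le.2 ?_) <;>
      refine Subgroup.mem_centralizer_iff.2 fun z hz => ?_ <;>
      obtain ⟨n, rfl⟩ := Subgroup.mem_zpowers_iff.1 hz
    · exact (Commute.zpow_left (mul_inv_eq_iff_eq_mul.1 h1 : Commute g x) n).eq
    · exact (Commute.zpow_left (mul_inv_eq_iff_eq_mul.1 h2 : Commute g y) n).eq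
  have hwm : ∀ i, w i ∈ Subgroup.normalizer (c.S : Set X) := fun i =>
    mul_mem (pow_mem hr _) (pow_mem hq _)
  have hcard : Nat.card (Subgroup.normalizer (c.S : Set X)) = 36 := by
    have hb : Function.Bijective fun p : c.S × (Fin 2 × Fin 2) =>
        (⟨(p.1 : X) * w p.2, mul_mem (Subgroup.le_normalizer p.1.2) (hwm p.2)⟩ :
          Subgroup.normalizer (c.S : Set X)) := by
      constructor
      · rintro ⟨s, i⟩ ⟨t, j⟩ h
        have h' : (s : X) * w i = (t : X) * w j := congrArg Subtype.val h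
        have hact : ∀ z ∈ c.S, w i * z * (w i)⁻¹ = w j * z * (w j)⁻¹ := by
          intro z hz
          have hmem : ∀ k, w k * z * (w k)⁻¹ ∈ c.S := fun k =>
            (Subgroup.mem_normalizer_iff.1 (hwm k) z).1 hz
          have hs : ∀ (u : c.S) k, (u : X) * w k * z * ((u : X) * w k)⁻¹ = w k * z * (w k)⁻¹ :=
            fun u k => by
              calc (u : X) * w k * z * ((u : X) * w k)⁻¹ = u * (w k * z * (w k)⁻¹) * (u : X)⁻¹ := by
                    group
                _ = _ := by rw [c.comm _ u.2 _ (hmem k), mul_inv_cancel_right]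
          rw [← hs s i, ← hs t j, h']
        have hij : i = j := by
          have h1 := hact x hx
          have h2 := hact y hy
          rw [(hw i).1, (hw j).1] at h1
          rw [(hw i).2, (hw j).2] at h2
          have key : ∀ z ∈ c.S, z ≠ 1 → ∀ a b : Fin 2, e z a = e z b → a = b := by
            intro z hz hz1 a b hab
            fin_cases a <;> fin_cases b <;> simp [e] at hab <;>
              first | rfl | exact absurd hab (hne z hz hz1) | exact absurd hab.symm (hne z hz hz1)
          exact Prod.ext (key y hy hy1 _ _ h2) (key x hx hx1 _ _ h1)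
        subst hij
        exact Prod.ext (Subtype.ext (mul_right_cancel h')) rfl
      · rintro ⟨g, hg⟩
        obtain ⟨h1, h2⟩ := hN g hg
        obtain ⟨j, hj⟩ : ∃ j, g * x * g⁻¹ = e x j := by
          rcases h1 with h | h
          · exact ⟨0, by simp [e, h]⟩
          · exact ⟨1, by simp [e, h]⟩
        obtain ⟨i, hi⟩ : ∃ i, g * y * g⁻¹ = e y i := by
          rcases h2 with h | h
          · exact ⟨0, by simp [e, h]⟩
          · exact ⟨1, by simp [e, h]⟩
        have hm : (w (i, j))⁻¹ * g ∈ c.S := by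
          refine hcent _ ?_ ?_
          · calc (w (i, j))⁻¹ * g * x * ((w (i, j))⁻¹ * g)⁻¹
                = (w (i, j))⁻¹ * (g * x * g⁻¹) * w (i, j) := by group
              _ = x := by rw [hj, ← (hw (i, j)).1]; group
          · calc (w (i, j))⁻¹ * g * y * ((w (i, j))⁻¹ * g)⁻¹
                = (w (i, j))⁻¹ * (g * y * g⁻¹) * w (i, j) := by group
              _ = y := by rw [hi, ← (hw (i, j)).2]; group
        refine ⟨(⟨_, (Subgroup.mem_normalizer_iff.1 (hwm (i, j)) _).1 hm⟩, (i, j)), Subtype.ext ?_⟩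
        show w (i, j) * ((w (i, j))⁻¹ * g) * (w (i, j))⁻¹ * w (i, j) = g
        group
    rw [← Nat.card_congr (Equiv.ofBijective _ hb), Nat.card_prod, c.card_eq]
    simp
  let A : SylowThreeNine.Klein.Axes c :=
    { x := x, y := y, r := r, q := q, x_mem := hx, y_mem := hy, x_ne := hx1, y_not := hyx
      r_x := hrx, r_y := hry, q_x := hqx, q_y := hqy, r_mem := hr, q_mem := hq, card_N := hcard }
  exact Subgroup.normalizer_eq_top_iff.1 A.normalizer_eq_top

end CfsgLib.SymNineRecog
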