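import Cfsg.Agent.SymNineRecog.Data
import Cfsg.Agent.SymNineRecog.Nine

/-!
# Small automisers in coordinates

`Small ker L`: on the quotient of the coordinate space by the kernel the matrices of `L` form a
subgroup of an inversion, a reflection, or a four-group of reflections.
-/

set_option autoImplicit false
set_option linter.style.haveILetI false
set_option linter.unusedSectionVars false

namespace CfsgLib.SymNineRecog

set_option maxRecDepth 100000

universe u

/-- Equal modulo the kernel. -/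
def cong (ker : Vec → Bool) (v w : Vec) : Prop := ker (v.add (negVec w)) = true

instance (ker : Vec → Bool) (v w : Vec) : Decidable (cong ker v w) :=
  inferInstanceAs (Decidable (_ = _))

/-- Independent modulo the kernel. -/
def indep (ker : Vec → Bool) (a b : Vec) : Prop :=
  ¬ cong ker b oVec ∧ ¬ cong ker a oVec ∧ ¬ cong ker a b ∧ ¬ cong ker a (negVec b)

instance (ker : Vec → Bool) (a b : Vec) : Decidable (indep ker a b) :=
  inferInstanceAs (Decidable (_ ∧ _))

/-- One inversion at most. -/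
def smallInv (ker : Vec → Bool) (L : List Mat) : Prop :=
  ∀ m ∈ L, (∀ v, cong ker (m.app v) v) ∨ ∀ v, cong ker (m.app v) (negVec v)

/-- One reflection, fixing `a`. -/
def smallRefl (ker : Vec → Bool) (L : List Mat) (a b : Vec) : Prop :=
  indep ker a b ∧
    (∀ m ∈ L, cong ker (m.app a) a ∧
      ((∀ v, cong ker (m.app v) v) ∨ cong ker (m.app b) (negVec b))) ∧
    ∃ m ∈ L, cong ker (m.app b) (negVec b)

/-- A four-group of reflections. -/
def smallKlein (ker : Vec → Bool) (L : List Mat) (a b : Vec) : Prop :=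
  indep ker a b ∧
    (∀ m ∈ L, (cong ker (m.app a) a ∨ cong ker (m.app a) (negVec a)) ∧
      (cong ker (m.app b) b ∨ cong ker (m.app b) (negVec b))) ∧
    (∃ m ∈ L, cong ker (m.app a) a ∧ cong ker (m.app b) (negVec b)) ∧
    ∃ m ∈ L, cong ker (m.app a) (negVec a) ∧ cong ker (m.app b) b

/-- The three cases. -/
def Small (ker : Vec → Bool) (L : List Mat) : Prop :=
  smallInv ker L ∨ (∃ a b, smallRefl ker L a b) ∨ ∃ a b, smallKlein ker L a b

instance (ker : Vec → Bool) (L : List Mat) : Decidable (smallInv ker L) :=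
  inferInstanceAs (Decidable (∀ _ ∈ L, _))

instance (ker : Vec → Bool) (L : List Mat) (a b : Vec) : Decidable (smallRefl ker L a b) :=
  inferInstanceAs (Decidable (_ ∧ _))

instance (ker : Vec → Bool) (L : List Mat) (a b : Vec) : Decidable (smallKlein ker L a b) :=
  inferInstanceAs (Decidable (_ ∧ _))

instance (ker : Vec → Bool) (L : List Mat) : Decidable (Small ker L) :=
  inferInstanceAs (Decidable (_ ∨ _))

variable {X : Type u} [Group X] [Finite X]

/-- A small automiser makes the Sylow subgroup normal. -/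
theorem normal_of_small (c : SylowThreeNine.Setup X)
    (hCS : Subgroup.centralizer (c.S : Set X) ≤ c.S)
    (hsig : ∀ K : Subgroup X, ¬ 3 ∣ Nat.card K →
      (∀ s ∈ c.S, ∀ k ∈ K, s * k * s⁻¹ ∈ K) → K = ⊥)
    (ι : Vec → X) (hadd : ∀ v w, ι (v.add w) = ι v * ι w)
    (hS : ∀ y, y ∈ c.S ↔ ∃ v, ι v = y)
    {ker : Vec → Bool} (hker : ∀ v, ι v = 1 ↔ ker v = true)
    {L : List Mat} (hL : ∀ g ∈ Subgroup.normalizer (c.S : Set X),
      ∃ m ∈ L, ∀ v, g * ι v * g⁻¹ = ι (m.app v))
    (hreal : ∀ m ∈ L, ∃ g ∈ Subgroup.normalizer (c.S : Set X),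
      ∀ v, g * ι v * g⁻¹ = ι (m.app v))
    (h : Small ker L) : c.S.Normal := by
  have h0 : ι oVec = 1 := by
    have e := hadd oVec oVec
    rw [(vec_facts.1 oVec).1] at e
    exact mul_eq_left.1 e.symm
  have hneg : ∀ v, ι (negVec v) = (ι v)⁻¹ := fun v =>
    eq_inv_of_mul_eq_one_right (by rw [← hadd, (vec_facts.1 v).2.1, h0])
  have hc : ∀ v w, cong ker v w ↔ ι v = ι w := fun v w => by
    rw [cong, ← hker, hadd, hneg, mul_inv_eq_one]
  have hmem : ∀ v, ι v ∈ c.S := fun v => (hS _).2 ⟨v, rfl⟩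
  have hind : ∀ a b, indep ker a b → ι b ≠ 1 ∧ ι a ≠ 1 ∧ ι a ∉ Subgroup.zpowers (ι b) := by
    rintro a b ⟨hb, ha, h1, h2⟩
    rw [hc, h0] at hb ha
    rw [hc] at h1 h2
    rw [hneg] at h2
    refine ⟨hb, ha, fun hz => ?_⟩
    obtain ⟨n, hn⟩ := Subgroup.mem_zpowers_iff.1 hz
    have h3 : orderOf (ι b) = 3 := by
      haveI : Fact (Nat.Prime 3) := ⟨Nat.prime_three⟩
      exact orderOf_eq_prime (c.pow_three (hmem b)) hb
    rw [← zpow_mod_orderOf, h3] at hn
    have hlo := Int.emod_nonneg n (show (3 : ℤ) ≠ 0 by norm_num)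
    have hhi := Int.emod_lt_of_pos n (show (0 : ℤ) < 3 by norm_num)
    push_cast at hn
    rcases (show n % 3 = 0 ∨ n % 3 = 1 ∨ n % 3 = 2 by omega) with e | e | e <;> rw [e] at hn
    · exact ha (by rw [← hn, zpow_zero])
    · exact h1 (by rw [← hn, zpow_one])
    · exact h2 (by rw [← hn, zpow_two, eq_inv_of_mul_eq_one_left (c.exp _ (hmem b))])
  rcases h with h | ⟨a, b, hab, h, m, hm, hmb⟩ | ⟨a, b, hab, h, ⟨r, hr, hra, hrb⟩, q, hq, hqa, hqb⟩
  · refine normal_inversion c hCS hsig fun g hg => ?_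
    obtain ⟨m, hm, e⟩ := hL g hg
    rcases h m hm with h' | h'
    · left
      intro s hs
      obtain ⟨v, rfl⟩ := (hS s).1 hs
      rw [e, (hc _ _).1 (h' v)]
    · right
      intro s hs
      obtain ⟨v, rfl⟩ := (hS s).1 hs
      rw [e, (hc _ _).1 (h' v), hneg]
  · obtain ⟨hb1, -, hz⟩ := hind a b hab
    obtain ⟨g, -, e⟩ := hreal m hm
    refine normal_reflection c hsig (hmem a) (hmem b) hb1 hz (r := g)
      (by rw [e, (hc _ _).1 hmb, hneg]) (fun g hg => ?_) hCS
    obtain ⟨m', hm', e'⟩ := hL g hg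
    obtain ⟨ha', h'⟩ := h m' hm'
    refine ⟨by rw [e', (hc _ _).1 ha'], h'.imp (fun h'' s hs => ?_) fun h'' => ?_⟩
    · obtain ⟨v, rfl⟩ := (hS s).1 hs
      rw [e', (hc _ _).1 (h'' v)]
    · rw [e', (hc _ _).1 h'', hneg]
  · obtain ⟨hb1, ha1, hz⟩ := hind a b hab
    obtain ⟨gr, hgr, er⟩ := hreal r hr
    obtain ⟨gq, hgq, eq'⟩ := hreal q hq
    refine normal_klein c hCS (hmem a) (hmem b) ha1 ?_ hgr hgq
      (by rw [er, (hc _ _).1 hra]) (by rw [er, (hc _ _).1 hrb, hneg])
      (by rw [eq', (hc _ _).1 hqa, hneg]) (by rw [eq', (hc _ _).1 hqb]) fun g hg => ?_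
    · intro hzb
      refine hz ?_
      haveI : Fact (Nat.Prime 3) := ⟨Nat.prime_three⟩
      rw [Subgroup.eq_of_le_of_card_ge (Subgroup.zpowers_le.2 hzb) (by
        rw [Nat.card_zpowers, Nat.card_zpowers, orderOf_eq_prime (c.pow_three (hmem b)) hb1,
          orderOf_eq_prime (c.pow_three (hmem a)) ha1])]
      exact Subgroup.mem_zpowers _
    · obtain ⟨m', hm', e'⟩ := hL g hg
      obtain ⟨ha', hb'⟩ := h m' hm'
      rw [e', e']
      exact ⟨ha'.imp (fun h'' => (hc _ _).1 h'') fun h'' => by rw [(hc _ _).1 h'', hneg],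
        hb'.imp (fun h'' => (hc _ _).1 h'') fun h'' => by rw [(hc _ _).1 h'', hneg]⟩

end CfsgLib.SymNineRecog
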