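import Cfsg.Agent.SymNineRecog.Plane
import Cfsg.Agent.SymNineRecog.Aut
import Cfsg.Agent.SymNineRecog.Small

/-!
# The centraliser of an element of the base outside the class of `x`

The quotient by the element has the image of the base as a self-centralising Sylow subgroup of
order nine whose normaliser comes from `H`.
-/

set_option autoImplicit false
set_option linter.style.haveILetI false
set_option linter.unusedSectionVars false

namespace CfsgLib.SymNineRecog

set_option maxRecDepth 100000

universe u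

open scoped Pointwise

/-- The kernel of the quotient by a vector. -/
def lineKer (v u : Vec) : Bool := u.beq oVec || u.beq v || u.beq (negVec v)

theorem cyc_moves : ∀ i : Fin 3, i ≠ 0 → ∀ v, ¬ (cong (lineKer v) (tact i 0 eVec1) eVec1 ∧
    cong (lineKer v) (tact i 0 eVec2) eVec2) := by decide +kernel

namespace Setup

variable {G : Type u} [Group G] [Finite G] (d : Setup G)

/-- The matrices of `H` form the list. -/
def AutList (L : List Mat) : Prop :=
  (∀ g ∈ d.H, d.mat g ∈ L) ∧ ∀ m ∈ L, ∃ g ∈ d.H, d.mat g = m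

/-- The line of a vector in its centraliser. -/
def lineSub (v : Vec) : Subgroup (Subgroup.centralizer ({d.el v} : Set G)) :=
  (Subgroup.zpowers (d.el v)).subgroupOf _

instance lineSub_normal (v : Vec) : (d.lineSub v).Normal :=
  ⟨fun e he g => by
    obtain ⟨n, hn⟩ := Subgroup.mem_zpowers_iff.1 (Subgroup.mem_subgroupOf.1 he)
    refine Subgroup.mem_subgroupOf.2 (Subgroup.mem_zpowers_iff.2 ⟨n, ?_⟩)
    have hg : Commute (g : G) (d.el v) := Subgroup.mem_centralizer_singleton_iff.1 g.2
    rw [Subgroup.coe_mul, Subgroup.coe_mul, Subgroup.coe_inv, ← hn, (hg.zpow_right n).eq,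
      mul_inv_cancel_right]⟩

/-- A vector in the quotient. -/
def quot (v u : Vec) : Subgroup.centralizer ({d.el v} : Set G) ⧸ d.lineSub v :=
  QuotientGroup.mk' _ ⟨d.el u, Subgroup.mem_centralizer_singleton_iff.2 (d.el_comm u v)⟩

theorem quot_add (v a b : Vec) : d.quot v (a.add b) = d.quot v a * d.quot v b := by
  rw [quot, quot, quot, ← map_mul]
  exact congrArg _ (Subtype.ext (d.el_add a b))

theorem mem_line {v : Vec} {g : G} :
    g ∈ Subgroup.zpowers (d.el v) ↔ g = 1 ∨ g = d.el v ∨ g = (d.el v)⁻¹ := by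
  constructor
  · intro h
    obtain ⟨n, rfl⟩ := Subgroup.mem_zpowers_iff.1 h
    have h3 : d.el v ^ (3 : ℤ) = 1 := by
      have := d.el_cube v
      rw [zpow_ofNat, pow_succ, pow_two]
      exact this
    rw [← Int.emod_add_mul_ediv n 3, zpow_add, zpow_mul, h3, one_zpow, mul_one]
    have hlo := Int.emod_nonneg n (show (3 : ℤ) ≠ 0 by norm_num)
    have hhi := Int.emod_lt_of_pos n (show (0 : ℤ) < 3 by norm_num)
    rcases (show n % 3 = 0 ∨ n % 3 = 1 ∨ n % 3 = 2 by omega) with e | e | e <;> rw [e]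
    · exact Or.inl (zpow_zero _)
    · exact Or.inr (Or.inl (zpow_one _))
    · right; right
      rw [zpow_two]
      exact eq_inv_of_mul_eq_one_left (d.el_cube v)
  · rintro (rfl | rfl | rfl)
    exacts [one_mem _, Subgroup.mem_zpowers _, inv_mem (Subgroup.mem_zpowers _)]

theorem el_mem_line {v u : Vec} :
    d.el u ∈ Subgroup.zpowers (d.el v) ↔ lineKer v u = true := by
  rw [d.mem_line, ← d.el_neg, ← d.el_zero, d.el_inj.eq_iff, d.el_inj.eq_iff, d.el_inj.eq_iff]
  simp [lineKer, Vec.beq_iff, or_assoc]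

theorem quot_eq_iff {v a b : Vec} : d.quot v a = d.quot v b ↔ cong (lineKer v) a b := by
  rw [quot, quot, eq_comm, QuotientGroup.mk'_apply, QuotientGroup.mk'_apply, QuotientGroup.eq,
    lineSub, Subgroup.mem_subgroupOf, cong, ← d.el_mem_line, d.el_add, d.el_neg]
  simp only [Subgroup.coe_mul, InvMemClass.coe_inv]
  rw [d.J_comm (inv_mem (d.el_mem b)) (d.el_mem a)]

theorem quot_eq_one {v a : Vec} : d.quot v a = 1 ↔ lineKer v a = true := by
  rw [quot, QuotientGroup.mk'_apply, QuotientGroup.eq_one_iff, lineSub, Subgroup.mem_subgroupOf]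
  exact d.el_mem_line

/-- The image of the base. -/
def quotS (v : Vec) : Subgroup (Subgroup.centralizer ({d.el v} : Set G) ⧸ d.lineSub v) where
  carrier := {y | ∃ u, d.quot v u = y}
  one_mem' := ⟨oVec, d.quot_eq_one.2 (by simp [lineKer, Vec.beq_iff])⟩
  mul_mem' := by rintro _ _ ⟨a, rfl⟩ ⟨b, rfl⟩; exact ⟨_, d.quot_add v a b⟩
  inv_mem' := by
    rintro _ ⟨a, rfl⟩
    refine ⟨negVec a, eq_inv_of_mul_eq_one_right ?_⟩
    rw [← d.quot_add, (vec_facts.1 a).2.1]
    exact d.quot_eq_one.2 (by simp [lineKer, Vec.beq_iff])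

theorem quot_conj_iff {v : Vec} (g : Subgroup.centralizer ({d.el v} : Set G)) {a b : Vec} :
    QuotientGroup.mk' (d.lineSub v) g * d.quot v a * (QuotientGroup.mk' (d.lineSub v) g)⁻¹ =
      d.quot v b ↔ (d.el b)⁻¹ * ((g : G) * d.el a * (g : G)⁻¹) ∈ Subgroup.zpowers (d.el v) := by
  rw [quot, quot, ← map_inv, ← map_mul, ← map_mul, eq_comm, QuotientGroup.mk'_apply,
    QuotientGroup.mk'_apply, QuotientGroup.eq, lineSub, Subgroup.mem_subgroupOf]
  simp [Subgroup.coe_mul, Subgroup.coe_inv]

theorem mem_H_iff_normalizes {v : Vec} (g : Subgroup.centralizer ({d.el v} : Set G)) :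
    (g : G) ∈ d.H ↔
      QuotientGroup.mk' (d.lineSub v) g ∈ Subgroup.normalizer (d.quotS v : Set _) := by
  constructor
  · intro h
    refine Subgroup.mem_normalizer_iff.2 fun y => ⟨?_, ?_⟩
    · rintro ⟨a, rfl⟩
      refine ⟨d.act g a, ((d.quot_conj_iff g).2 ?_).symm⟩
      rw [← d.act_spec h, inv_mul_cancel]
      exact one_mem _
    · rintro ⟨b, hb⟩
      refine ⟨d.act (g : G)⁻¹ b, ?_⟩
      have h' := (d.quot_conj_iff g (a := d.act (g : G)⁻¹ b) (b := b)).2 (by
        rw [d.act_spec (inv_mem h)]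
        simp [mul_assoc])
      rw [hb] at h'
      exact mul_left_cancel (mul_right_cancel h')
  · intro h
    refine d.mem_H.2 fun a => ?_
    obtain ⟨b, hb⟩ := (Subgroup.mem_normalizer_iff.1 h _).1 ⟨a, rfl⟩
    have h' := (d.quot_conj_iff g).1 hb.symm
    obtain ⟨n, hn⟩ := Subgroup.mem_zpowers_iff.1 h'
    have := mul_mem (d.el_mem b) (zpow_mem (d.el_mem v) n)
    rwa [hn, mul_inv_cancel_left] at this

variable {v : Vec} (hv : v ≠ oVec)
  (hX : ∀ g ∈ d.H, d.act g v ≠ xVec ∧ d.act g v ≠ yVec)

include hv hX in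
/-- The base is a Sylow subgroup of the centraliser. -/
theorem not_dvd_cent : ¬ 81 ∣ Nat.card (Subgroup.centralizer ({d.el v} : Set G)) := by
  haveI : Fact (Nat.Prime 3) := ⟨Nat.prime_three⟩
  intro h81
  set Y := Subgroup.centralizer ({d.el v} : Set G) with hY
  have hJY : d.J ≤ Y := fun j hj =>
    Subgroup.mem_centralizer_singleton_iff.2 (d.J_comm hj (d.el_mem v))
  obtain ⟨R, hR⟩ := (d.isPGroup_J.of_equiv
    (Subgroup.subgroupOfEquivOfLe hJY).symm).exists_le_sylow
  have hcard : 3 ^ 4 ∣ Nat.card R := Sylow.pow_dvd_card_of_pow_dvd_card R (by simpa using h81)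
  set R' := (R : Subgroup Y).map Y.subtype with hR'
  have hJR : d.J ≤ R' := fun j hj => ⟨⟨j, hJY hj⟩, hR hj, rfl⟩
  have hR'H := d.le_H_of_isPGroup (R.2.map Y.subtype) hJR
  obtain ⟨g, hg, hgJ⟩ : ∃ g ∈ R', g ∉ d.J := by
    by_contra hno
    push Not at hno
    have := Subgroup.card_le_of_le (show R' ≤ d.J from hno)
    rw [d.card_J, hR', Subgroup.card_map_of_injective Y.subtype_injective] at this
    have h0 : 0 < Nat.card R := Nat.card_pos
    have := Nat.le_of_dvd h0 hcard
    omega
  obtain ⟨n, hn⟩ := (R.2.map Y.subtype) ⟨g, hg⟩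
  obtain ⟨k, hk, hfix⟩ := d.fix_outside (hR'H hg) (n := n) (by simpa using congrArg Subtype.val hn)
    hgJ
  obtain ⟨y, -, rfl⟩ := hg
  obtain ⟨h1, h2⟩ := hX k hk
  rcases hfix v (Subgroup.mem_centralizer_singleton_iff.1 y.2) with e | e | e
  · exact hv (d.el_eq_one.1 (conj_eq_one_iff.1 e))
  · exact h1 (d.act_eq hk e)
  · exact h2 (d.act_eq hk (by rw [e, show yVec = negVec xVec by decide, d.el_neg]; rfl))

include hv in
theorem card_quotS : Nat.card (d.quotS v) = 9 := by
  let φ : d.J →* Subgroup.centralizer ({d.el v} : Set G) ⧸ d.lineSub v :=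
    (QuotientGroup.mk' _).comp (Subgroup.inclusion fun j hj =>
      Subgroup.mem_centralizer_singleton_iff.2 (d.J_comm hj (d.el_mem v)))
  have hrange : φ.range = d.quotS v := by
    ext y
    constructor
    · rintro ⟨⟨_, u, rfl⟩, rfl⟩; exact ⟨u, rfl⟩
    · rintro ⟨u, rfl⟩; exact ⟨⟨_, d.el_mem u⟩, rfl⟩
  have hker : Nat.card φ.ker = 3 := by
    have h3 : orderOf (d.el v) = 3 := by
      haveI : Fact (Nat.Prime 3) := ⟨Nat.prime_three⟩
      refine orderOf_eq_prime (by simpa [pow_succ] using d.el_cube v) fun e => hv ?_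
      exact d.el_eq_one.1 e
    rw [← h3, ← Nat.card_zpowers]
    refine Nat.card_congr
      { toFun := fun a => ⟨((a : d.J) : G), Subgroup.mem_subgroupOf.1
          ((QuotientGroup.eq_one_iff (N := d.lineSub v) _).1 a.2)⟩
        invFun := fun a => ⟨⟨a, Subgroup.zpowers_le.2 (d.el_mem v) a.2⟩,
          (QuotientGroup.eq_one_iff (N := d.lineSub v) _).2 (Subgroup.mem_subgroupOf.2 a.2)⟩
        left_inv := fun a => rfl
        right_inv := fun a => rfl }
  have h := Subgroup.card_mul_index φ.ker
  rw [Subgroup.index_ker, hrange, hker, d.card_J] at h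
  omega

include hv hX in
/-- The quotient in the form of the lemmas on Sylow subgroups of order nine. -/
theorem exists_quot :
    ∃ c : SylowThreeNine.Setup (Subgroup.centralizer ({d.el v} : Set G) ⧸ d.lineSub v),
      c.S = d.quotS v ∧ Subgroup.centralizer (c.S : Set _) ≤ c.S ∧
        ∀ K : Subgroup (Subgroup.centralizer ({d.el v} : Set G) ⧸ d.lineSub v),
          ¬ 3 ∣ Nat.card K → (∀ s ∈ c.S, ∀ k ∈ K, s * k * s⁻¹ ∈ K) → K = ⊥ := by
  haveI : Fact (Nat.Prime 3) := ⟨Nat.prime_three⟩
  set C := Subgroup.centralizer ({d.el v} : Set G) with hC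
  set π := QuotientGroup.mk' (d.lineSub v)
  have hπ : Function.Surjective π := QuotientGroup.mk'_surjective _
  have h3 : orderOf (d.el v) = 3 :=
    orderOf_eq_prime (by simpa [pow_succ] using d.el_cube v) fun e => hv (d.el_eq_one.1 e)
  have hlineC : Subgroup.zpowers (d.el v) ≤ C :=
    Subgroup.zpowers_le.2 (Subgroup.mem_centralizer_singleton_iff.2 rfl)
  have hcardC : Nat.card C = Nat.card (C ⧸ d.lineSub v) * 3 := by
    rw [Subgroup.card_eq_card_quotient_mul_card_subgroup (d.lineSub v), lineSub,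
      Nat.card_congr (Subgroup.subgroupOfEquivOfLe hlineC).toEquiv, Nat.card_zpowers, h3]
  let c : SylowThreeNine.Setup (C ⧸ d.lineSub v) :=
    { S := d.quotS v
      card_eq := d.card_quotS hv
      exp := by
        rintro _ ⟨a, rfl⟩
        rw [← d.quot_add, ← d.quot_add, (vec_facts.1 a).2.2.1]
        exact d.quot_eq_one.2 (by simp [lineKer, Vec.beq_iff])
      comm := by
        rintro _ ⟨a, rfl⟩ _ ⟨b, rfl⟩
        rw [← d.quot_add, ← d.quot_add, vec_facts.2]
      not_dvd := fun h => d.not_dvd_cent hv hX (by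
        rw [hcardC]
        exact (show 81 = 27 * 3 from rfl) ▸ Nat.mul_dvd_mul_right h 3)
      cent := by
        rintro _ ⟨a, rfl⟩ ha y hy
        obtain ⟨g, rfl⟩ := hπ y
        refine (d.mem_H_iff_normalizes g).1 ?_
        have hy' : π g * d.quot v a * (π g)⁻¹ = d.quot v a := by
          rw [Subgroup.mem_centralizer_singleton_iff.1 hy, mul_inv_cancel_right]
        have h' := (d.quot_conj_iff g).1 hy'
        set E := Subgroup.zpowers (d.el v) ⊔ Subgroup.zpowers (d.el a)
        have hEJ : E ≤ d.J := sup_le (Subgroup.zpowers_le.2 (d.el_mem v))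
          (Subgroup.zpowers_le.2 (d.el_mem a))
        have hgv : (g : G) * d.el v * (g : G)⁻¹ = d.el v := by
          rw [Subgroup.mem_centralizer_singleton_iff.1 g.2, mul_inv_cancel_right]
        have hgE : E ≤ E.comap (MulAut.conj (g : G)).toMonoidHom := by
          refine sup_le (Subgroup.zpowers_le.2 ?_) (Subgroup.zpowers_le.2 ?_)
          · show (g : G) * d.el v * (g : G)⁻¹ ∈ E
            rw [hgv]
            exact Subgroup.mem_sup_left (Subgroup.mem_zpowers _)
          · show (g : G) * d.el a * (g : G)⁻¹ ∈ E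
            have := mul_mem (Subgroup.mem_sup_right (Subgroup.mem_zpowers (d.el a)) :
              d.el a ∈ E) (Subgroup.mem_sup_left h')
            rwa [mul_inv_cancel_left] at this
        refine d.norm_plane hEJ ?_ fun e he => hgE he
        have hna : d.el a ∉ Subgroup.zpowers (d.el v) := fun h =>
          ha (d.quot_eq_one.2 (d.el_mem_line.1 h))
        obtain ⟨k, hk, he⟩ := (Nat.dvd_prime_pow Nat.prime_three).1
          (show Nat.card E ∣ 3 ^ 3 by
            have h := Subgroup.card_dvd_of_le hEJ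
            rwa [d.card_J] at h)
        have hl := Subgroup.card_le_of_le (le_sup_left : Subgroup.zpowers (d.el v) ≤ E)
        rw [Nat.card_zpowers, h3, he] at hl
        rw [he]
        interval_cases k
        · norm_num at hl
        · exfalso
          refine hna ?_
          rw [Subgroup.eq_of_le_of_card_ge (le_sup_left : Subgroup.zpowers (d.el v) ≤ E)
            (by rw [he, Nat.card_zpowers, h3]; norm_num)]
          exact Subgroup.mem_sup_right (Subgroup.mem_zpowers _)
        · norm_num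
        · exfalso
          have hn : Subgroup.zpowers (d.el a) ≤
              Subgroup.normalizer (Subgroup.zpowers (d.el v) : Set G) := by
            rw [Subgroup.zpowers_le]
            refine Subgroup.centralizer_le_normalizer _ (Subgroup.mem_centralizer_iff.2 fun z hz => ?_)
            exact d.J_comm (Subgroup.zpowers_le.2 (d.el_mem v) hz) (d.el_mem a)
          have hc9 : Nat.card E ≤ 9 := by
            have he2 : (E : Set G) = (Subgroup.zpowers (d.el v) : Set G) *
                (Subgroup.zpowers (d.el a) : Set G) :=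
              Subgroup.coe_mul_of_right_le_normalizer_left _ _ hn
            show Nat.card (E : Set G) ≤ 9
            rw [he2]
            refine Set.natCard_mul_le.trans ?_
            show Nat.card (Subgroup.zpowers (d.el v)) * Nat.card (Subgroup.zpowers (d.el a)) ≤ 9
            rw [Nat.card_zpowers, Nat.card_zpowers, h3]
            have := orderOf_le_of_pow_eq_one (n := 3) (by norm_num)
              (show d.el a ^ 3 = 1 by simpa [pow_succ] using d.el_cube a)
            omega
          rw [he] at hc9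
          norm_num at hc9 }
  refine ⟨c, rfl, fun y hy => ?_, fun K hK3 hK => ?_⟩
  · -- the quotient is self-centralised
    obtain ⟨g, rfl⟩ := hπ y
    have hgc : ∀ a, π g * d.quot v a * (π g)⁻¹ = d.quot v a := fun a => by
      rw [← Subgroup.mem_centralizer_iff.1 hy _ ⟨a, rfl⟩, mul_inv_cancel_right]
    have hgH : (g : G) ∈ d.H := (d.mem_H_iff_normalizes g).2
      (Subgroup.centralizer_le_normalizer _ hy)
    have hgv : (g : G) * d.el v * (g : G)⁻¹ = d.el v := by
      rw [Subgroup.mem_centralizer_singleton_iff.1 g.2, mul_inv_cancel_right]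
    have hcomm : ∀ a, ∃ e ∈ Subgroup.zpowers (d.el v),
        (g : G) * d.el a * (g : G)⁻¹ = d.el a * e := fun a =>
      ⟨_, (d.quot_conj_iff g).1 (hgc a), (mul_inv_cancel_left _ _).symm⟩
    have h3J : (g : G) ^ 3 ∈ d.J := by
      refine d.centJ fun a => mul_inv_eq_iff_eq_mul.1 ?_
      obtain ⟨e, he, hge⟩ := hcomm a
      have hfix : ∀ b, (g : G) * (b * e) * (g : G)⁻¹ = (g : G) * b * (g : G)⁻¹ * e := fun b => by
        obtain ⟨n, hn⟩ := Subgroup.mem_zpowers_iff.1 he
        have hge' : Commute (g : G) e :=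
          hn ▸ Commute.zpow_right (Subgroup.mem_centralizer_singleton_iff.1 g.2 :
            Commute (g : G) (d.el v)) n
        rw [show (g : G) * (b * e) * (g : G)⁻¹ = (g : G) * b * (e * (g : G)⁻¹) by group,
          (hge'.inv_left.eq).symm]
        group
      calc (g : G) ^ 3 * d.el a * ((g : G) ^ 3)⁻¹
          = g * (g * ((g : G) * d.el a * (g : G)⁻¹) * (g : G)⁻¹) * (g : G)⁻¹ := by
            simp [pow_succ, mul_assoc]
        _ = d.el a * e * e * e := by rw [hge, hfix, hge, hfix, hfix, hge]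
        _ = d.el a * (e * e * e) := by group
        _ = d.el a := by
          rw [d.J_cube (Subgroup.zpowers_le.2 (d.el_mem v) he), mul_one]
    have h9g : (g : G) ^ 3 ^ 2 = 1 := by
      have := d.J_cube h3J
      rw [← this, show (3 : ℕ) ^ 2 = 3 + 3 + 3 from rfl, pow_add, pow_add]
    by_contra hgS
    have hgJ : (g : G) ∉ d.J := by
      rintro ⟨u, hu⟩
      exact hgS ⟨u, congrArg π (Subtype.ext hu)⟩
    obtain ⟨k, hk, w, i, hi, hk'⟩ := d.exists_outside hgH h9g hgJ
    have key : ∀ b, cong (lineKer (d.act k v)) (tact i 0 b) b := by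
      intro b
      obtain ⟨a, rfl⟩ : ∃ a, d.act k a = b :=
        ⟨d.act k⁻¹ b, by rw [← d.act_mul hk (inv_mem hk)]; exact d.act_eq (by simp) (by simp)⟩
      obtain ⟨e, he, hge⟩ := hcomm a
      rw [cong, ← d.el_mem_line, d.el_add, d.el_neg]
      have h1 : d.el (tact i 0 (d.act k a)) = k * ((g : G) * d.el a * (g : G)⁻¹) * k⁻¹ := by
        have h := d.of_act (w, i, 0) (d.act k a)
        rw [← hk', d.act_spec hk] at h
        rw [eq_mul_inv_of_mul_eq h.symm]
        group
      obtain ⟨n, hn⟩ := Subgroup.mem_zpowers_iff.1 he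
      refine Subgroup.mem_zpowers_iff.2 ⟨n, ?_⟩
      rw [h1, hge, d.act_spec hk, d.act_spec hk, conj_zpow, hn]
      have : d.el a * e = e * d.el a :=
        d.J_comm (d.el_mem a) (Subgroup.zpowers_le.2 (d.el_mem v) he)
      rw [this]
      group
    exact cyc_moves i hi (d.act k v) ⟨key eVec1, key eVec2⟩
  · -- no signalisers
    set L := (K.comap π).map C.subtype with hL
    have hlL : Subgroup.zpowers (d.el v) ≤ L := fun e he => ⟨⟨e, hlineC he⟩, by
      show π ⟨e, hlineC he⟩ ∈ K
      rw [show π ⟨e, hlineC he⟩ = 1 from (QuotientGroup.eq_one_iff _).2 he]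
      exact one_mem K, rfl⟩
    have hidx : (Subgroup.zpowers (d.el v)).relIndex L = Nat.card K := by
      have h1 := Subgroup.relIndex_mul_relIndex (⊥ : Subgroup G) _ L bot_le hlL
      rw [Subgroup.relIndex_bot_left, Subgroup.relIndex_bot_left, hL,
        Subgroup.card_map_of_injective C.subtype_injective, Nat.card_zpowers, h3] at h1
      have h2 : Nat.card (K.comap π) = 3 * Nat.card K := by
        have h4 := Subgroup.card_mul_index (K.comap π)
        rw [Subgroup.index_comap_of_surjective _ hπ] at h4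
        have h5 := Subgroup.card_mul_index K
        have hpos : 0 < K.index := Nat.pos_of_ne_zero Subgroup.index_ne_zero_of_finite
        refine Nat.eq_of_mul_eq_mul_right hpos ?_
        rw [h4, mul_assoc, h5, hcardC, mul_comm]
      rw [h2] at h1
      exact Nat.eq_of_mul_eq_mul_left (by norm_num) h1
    obtain ⟨K', -, hK'3, hsup, hinv⟩ := exists_central_complement hlL
      (d.isPGroup_J.to_le (Subgroup.zpowers_le.2 (d.el_mem v))) (by rwa [hidx]) (fun e he l hl => by
        obtain ⟨y, -, rfl⟩ := hl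
        obtain ⟨n, rfl⟩ := Subgroup.mem_zpowers_iff.1 he
        exact (Commute.zpow_right (Subgroup.mem_centralizer_singleton_iff.1 y.2 :
          Commute (y : G) (d.el v)) n).eq.symm)
    have hK'bot : K' = ⊥ := d.sig_bot hK'3 fun a ha => hinv a (by
      obtain ⟨u, rfl⟩ := ha
      rintro _ ⟨y, hy, rfl⟩
      refine ⟨⟨d.el u, Subgroup.mem_centralizer_singleton_iff.2 (d.el_comm u v)⟩ * y *
        ⟨d.el u, Subgroup.mem_centralizer_singleton_iff.2 (d.el_comm u v)⟩⁻¹, ?_, rfl⟩
      show π _ ∈ K
      rw [map_mul, map_mul, map_inv]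
      exact hK _ ⟨u, rfl⟩ _ hy)
    rw [hK'bot, sup_bot_eq] at hsup
    refine eq_bot_iff.2 fun y hy => Subgroup.mem_bot.2 ?_
    obtain ⟨g, rfl⟩ := hπ y
    exact (QuotientGroup.eq_one_iff g).2 (hsup ⟨g, hy, rfl⟩)

include hv hX in
/-- If the stabiliser of the vector is small, its centraliser lies in `H`. -/
theorem cent_vec_le {L : List Mat} (hA : d.AutList L)
    (hsmall : Small (lineKer v) (L.filter fun m => (m.app v).beq v)) :
    Subgroup.centralizer ({d.el v} : Set G) ≤ d.H := by
  obtain ⟨c, hcS, hCS, hsig⟩ := d.exists_quot hv hX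
  have hS : ∀ y, y ∈ c.S ↔ ∃ u, d.quot v u = y := fun y => by rw [hcS]; rfl
  have key : ∀ (g : Subgroup.centralizer ({d.el v} : Set G)), (g : G) ∈ d.H → ∀ u,
      QuotientGroup.mk' (d.lineSub v) g * d.quot v u * (QuotientGroup.mk' (d.lineSub v) g)⁻¹ =
        d.quot v ((d.mat g).app u) := fun g hg u => (d.quot_conj_iff g).2 (by
    rw [d.mat_app hg, ← d.act_spec hg, inv_mul_cancel]
    exact one_mem _)
  have hfix : ∀ g : G, g ∈ d.H → ((d.mat g).app v = v ↔ g * d.el v = d.el v * g) := fun g hg => by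
    rw [d.mat_app hg]
    exact ⟨fun h => mul_inv_eq_iff_eq_mul.1 (by rw [← d.act_spec hg, h]),
      fun h => d.act_eq hg (mul_inv_eq_iff_eq_mul.2 h)⟩
  have hn : c.S.Normal := normal_of_small c hCS hsig (d.quot v) (d.quot_add v) hS
    (fun u => d.quot_eq_one) (L := L.filter fun m => (m.app v).beq v) (fun y hy => by
      obtain ⟨g, rfl⟩ := QuotientGroup.mk'_surjective (d.lineSub v) y
      rw [hcS] at hy
      have hgH := (d.mem_H_iff_normalizes g).2 hy
      refine ⟨d.mat g, List.mem_filter.2 ⟨hA.1 _ hgH, (Vec.beq_iff _ _).2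
        ((hfix _ hgH).2 (Subgroup.mem_centralizer_singleton_iff.1 g.2))⟩, key g hgH⟩)
    (fun m hm => by
      obtain ⟨hmL, hmv⟩ := List.mem_filter.1 hm
      obtain ⟨g, hg, rfl⟩ := hA.2 m hmL
      refine ⟨QuotientGroup.mk' _ ⟨g, Subgroup.mem_centralizer_singleton_iff.2
        ((hfix g hg).1 ((Vec.beq_iff _ _).1 hmv))⟩, ?_, key _ hg⟩
      rw [hcS]
      exact (d.mem_H_iff_normalizes _).1 hg) hsmall
  intro g hg
  refine (d.mem_H_iff_normalizes ⟨g, hg⟩).2 ?_
  rw [← hcS, @Subgroup.normalizer_eq_top _ _ _ hn]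
  exact Subgroup.mem_top _

end Setup

end CfsgLib.SymNineRecog
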