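import Cfsg.Agent.SymNineRecog.Matrix
import Mathlib.GroupTheory.Perm.Fin
import Mathlib.GroupTheory.Sylow
import Mathlib.Tactic

/-!
# The centraliser of `(0 1 2)(3 4 5)(6 7 8)` in coordinates

`Setup` is the group with the centraliser of `x` written as `(3 × 3 × 3) : Sym 3` and the hypothesis
on the signalisers of the base.
-/

set_option autoImplicit false
set_option linter.unusedSectionVars false

namespace CfsgLib.SymNineRecog

set_option maxRecDepth 100000

universe u

instance : Fintype T3 := ⟨⟨[T3.z, T3.o, T3.t], by decide⟩, fun a => by cases a <;> decide⟩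

instance : Fintype Vec :=
  Fintype.ofEquiv (T3 × T3 × T3)
    { toFun := fun t => .mk t.1 t.2.1 t.2.2
      invFun := fun v => match v with | .mk a b c => (a, b, c)
      left_inv := fun _ => rfl
      right_inv := fun v => by cases v; rfl }

/-- The zero vector. -/
def oVec : Vec := .mk .z .z .z

/-- The negative of a vector. -/
def negVec (v : Vec) : Vec := Vec.smul .t v

/-- The first coordinate vector. -/
def eVec1 : Vec := .mk .o .z .z

/-- The second coordinate vector. -/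
def eVec2 : Vec := .mk .z .o .z

/-- The third coordinate vector. -/
def eVec3 : Vec := .mk .z .z .o

theorem vec_facts : (∀ v, Vec.add oVec v = v ∧ Vec.add v (negVec v) = oVec ∧
    Vec.add (Vec.add v v) v = oVec ∧ negVec (negVec v) = v ∧ Vec.smul .z v = oVec ∧
    Vec.smul .o v = v ∧ Vec.add v v = negVec v) ∧
    (∀ v w, Vec.add v w = Vec.add w v) := by decide +kernel

/-- The action of `c ^ i * s ^ j`. -/
def tact (i : Fin 3) (j : Fin 2) (v : Vec) : Vec :=
  let w := match j with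
    | 0 => v
    | 1 => Mat.swp.app v
  match i with
  | 0 => w
  | 1 => Mat.cyc.app w
  | 2 => Mat.cyc.app (Mat.cyc.app w)

/-- Coordinates for the centraliser of `x`. -/
abbrev Tri : Type := Vec × Fin 3 × Fin 2

/-- The product in coordinates. -/
def tmul : Tri → Tri → Tri
  | (v, i, j), (w, k, l) => (v.add (tact i j w), i + (if j = 0 then k else -k), j + l)

theorem tact_eq : ∀ i j k l, (∀ v, tact i j v = tact k l v) → i = k ∧ j = l := by decide +kernel

/-- A group with the centraliser of an element `x` of order three in coordinates. -/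
structure Frame (G : Type u) [Group G] where
  el : Vec → G
  el_add : ∀ v w, el (v.add w) = el v * el w
  el_inj : Function.Injective el
  c : G
  s : G
  c_cube : c * c * c = 1
  s_sq : s * s = 1
  s_c : s * c = c * c * s
  conj_c : ∀ v, c * el v = el (Mat.cyc.app v) * c
  conj_s : ∀ v, s * el v = el (Mat.swp.app v) * s
  cent : ∀ g, g * el xVec = el xVec * g →
    ∃ (v : Vec) (i : Fin 3) (j : Fin 2), g = el v * c ^ (i : ℕ) * s ^ (j : ℕ)

/-- The same with no nontrivial signaliser of the base. -/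
structure Setup (G : Type u) [Group G] extends Frame G where
  sig : ∀ K : Subgroup G, ¬ 3 ∣ Nat.card K →
    (∀ v, ∀ k ∈ K, el v * k * (el v)⁻¹ ∈ K) → K = ⊥

namespace Frame

variable {G : Type u} [Group G] (d : Frame G)

/-- The element of the given coordinates. -/
def of (t : Tri) : G := d.el t.1 * d.c ^ (t.2.1 : ℕ) * d.s ^ (t.2.2 : ℕ)

/-- The element `(0 1 2)(3 4 5)(6 7 8)`. -/
def x : G := d.el xVec

theorem el_zero : d.el oVec = 1 := by
  have h := d.el_add oVec oVec
  rw [(vec_facts.1 oVec).1] at h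
  exact mul_eq_left.1 h.symm

theorem el_neg (v : Vec) : d.el (negVec v) = (d.el v)⁻¹ :=
  eq_inv_of_mul_eq_one_right (by rw [← d.el_add, (vec_facts.1 v).2.1, d.el_zero])

theorem el_comm (v w : Vec) : d.el v * d.el w = d.el w * d.el v := by
  rw [← d.el_add, ← d.el_add, vec_facts.2]

theorem el_cube (v : Vec) : d.el v * d.el v * d.el v = 1 := by
  rw [← d.el_add, ← d.el_add, (vec_facts.1 v).2.2.1, d.el_zero]

theorem el_eq_one {v : Vec} : d.el v = 1 ↔ v = oVec := by
  rw [← d.el_zero]; exact d.el_inj.eq_iff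

theorem c_pow_el (i : Fin 3) (v : Vec) :
    d.c ^ (i : ℕ) * d.el v = d.el (tact i 0 v) * d.c ^ (i : ℕ) := by
  fin_cases i
  · simp [tact]
  · simp [tact, d.conj_c]
  · show d.c ^ 2 * d.el v = d.el (Mat.cyc.app (Mat.cyc.app v)) * d.c ^ 2
    rw [pow_two, mul_assoc, d.conj_c, ← mul_assoc, d.conj_c, mul_assoc]

theorem s_pow_el (j : Fin 2) (v : Vec) :
    d.s ^ (j : ℕ) * d.el v = d.el (tact 0 j v) * d.s ^ (j : ℕ) := by
  fin_cases j
  · simp [tact]
  · simp [tact, d.conj_s]

theorem tact_split (i : Fin 3) (j : Fin 2) (v : Vec) : tact i j v = tact i 0 (tact 0 j v) := by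
  fin_cases i <;> rfl

theorem c_pow_add (i k : Fin 3) :
    d.c ^ ((i + k : Fin 3) : ℕ) = d.c ^ (i : ℕ) * d.c ^ (k : ℕ) := by
  have h3 : d.c ^ 3 = 1 := by rw [pow_succ, pow_two]; exact d.c_cube
  rw [← pow_add, Fin.val_add, eq_comm, pow_eq_pow_mod _ h3]

theorem s_pow_add (i k : Fin 2) :
    d.s ^ ((i + k : Fin 2) : ℕ) = d.s ^ (i : ℕ) * d.s ^ (k : ℕ) := by
  have h2 : d.s ^ 2 = 1 := by rw [pow_two]; exact d.s_sq
  rw [← pow_add, Fin.val_add, eq_comm, pow_eq_pow_mod _ h2]

theorem s_pow_c (j : Fin 2) (k : Fin 3) :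
    d.s ^ (j : ℕ) * d.c ^ (k : ℕ) =
      d.c ^ ((if j = 0 then k else -k : Fin 3) : ℕ) * d.s ^ (j : ℕ) := by
  have h2 : d.s * (d.c * d.c) = d.c * d.s := by
    rw [← mul_assoc, d.s_c, mul_assoc, d.s_c, ← mul_assoc, ← mul_assoc, d.c_cube, one_mul]
  fin_cases j
  · simp
  · fin_cases k
    · simp
    · simpa [show (-(1 : Fin 3)) = 2 from rfl, pow_two] using d.s_c
    · simpa [show (-(2 : Fin 3)) = 1 from rfl, pow_two] using h2

theorem of_mul (a b : Tri) : d.of (tmul a b) = d.of a * d.of b := by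
  obtain ⟨v, i, j⟩ := a
  obtain ⟨w, k, l⟩ := b
  simp only [of, tmul]
  rw [d.el_add, tact_split, d.c_pow_add, d.s_pow_add]
  symm
  calc d.el v * d.c ^ (i : ℕ) * d.s ^ (j : ℕ) * (d.el w * d.c ^ (k : ℕ) * d.s ^ (l : ℕ))
      = d.el v * d.c ^ (i : ℕ) * (d.s ^ (j : ℕ) * d.el w) * d.c ^ (k : ℕ) * d.s ^ (l : ℕ) := by
        group
    _ = d.el v * (d.c ^ (i : ℕ) * d.el (tact 0 j w)) * (d.s ^ (j : ℕ) * d.c ^ (k : ℕ)) *
        d.s ^ (l : ℕ) := by rw [d.s_pow_el]; group
    _ = _ := by rw [d.c_pow_el, d.s_pow_c]; group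

theorem of_zero (v : Vec) : d.of (v, 0, 0) = d.el v := by simp [of]

theorem of_act (t : Tri) (v : Vec) :
    d.of t * d.el v = d.el (tact t.2.1 t.2.2 v) * d.of t := by
  obtain ⟨w, i, j⟩ := t
  calc d.of (w, i, j) * d.el v = d.el w * d.c ^ (i : ℕ) * (d.s ^ (j : ℕ) * d.el v) := by
        rw [of]; group
    _ = d.el w * (d.c ^ (i : ℕ) * d.el (tact 0 j v)) * d.s ^ (j : ℕ) := by rw [d.s_pow_el]; group
    _ = d.el w * d.el (tact i j v) * d.c ^ (i : ℕ) * d.s ^ (j : ℕ) := by
        rw [d.c_pow_el, ← tact_split]; group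
    _ = _ := by rw [d.el_comm w, of]; group

theorem of_injective : Function.Injective d.of := by
  rintro ⟨v, i, j⟩ ⟨w, k, l⟩ h
  obtain ⟨rfl, rfl⟩ := tact_eq i j k l fun u => d.el_inj (by
    have h1 := d.of_act (v, i, j) u
    rw [h, d.of_act (w, k, l) u] at h1
    exact (mul_right_cancel h1).symm)
  simp only [of] at h
  rw [d.el_inj (mul_right_cancel (mul_right_cancel h))]

theorem mem_cent_iff {g : G} : g * d.x = d.x * g ↔ ∃ t, d.of t = g := by
  constructor
  · intro h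
    obtain ⟨v, i, j, e⟩ := d.cent g h
    exact ⟨(v, i, j), e.symm⟩
  · rintro ⟨t, rfl⟩
    have hx : ∀ i j, tact i j xVec = xVec := by decide
    rw [x, d.of_act, hx]

end Frame

/-! ### The model -/

/-- A power of a permutation. -/
def pw (σ : Equiv.Perm (Fin 9)) : T3 → Equiv.Perm (Fin 9)
  | .z => 1
  | .o => σ
  | .t => σ * σ

/-- The base. -/
def pt : Vec → Equiv.Perm (Fin 9)
  | .mk a b c => pw (Equiv.swap 0 1 * Equiv.swap 1 2) a * pw (Equiv.swap 3 4 * Equiv.swap 4 5) b *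
      pw (Equiv.swap 6 7 * Equiv.swap 7 8) c

/-- The permutation of the blocks of order three. -/
def pc : Equiv.Perm (Fin 9) :=
  Equiv.swap 0 3 * Equiv.swap 3 6 * (Equiv.swap 1 4 * Equiv.swap 4 7) *
    (Equiv.swap 2 5 * Equiv.swap 5 8)

/-- The exchange of the first two blocks. -/
def ps : Equiv.Perm (Fin 9) := Equiv.swap 0 3 * Equiv.swap 1 4 * Equiv.swap 2 5

/-- The elements of the centraliser. -/
def md (v : Vec) (i : Fin 3) (j : Fin 2) : Equiv.Perm (Fin 9) :=
  pt v * pc ^ (i : ℕ) * ps ^ (j : ℕ)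

/-- The fixed permutation. -/
def pi9 : Equiv.Perm (Fin 9) :=
  Equiv.swap 0 1 * Equiv.swap 1 2 * Equiv.swap 3 4 * Equiv.swap 4 5 * Equiv.swap 6 7 * Equiv.swap 7 8

theorem model_el : (∀ v w, pt (v.add w) = pt v * pt w) ∧ (∀ v, pt v = 1 → v = oVec) ∧
    pt xVec = pi9 := by decide +kernel

theorem model_rel : pc * pc * pc = 1 ∧ ps * ps = 1 ∧ ps * pc = pc * pc * ps ∧
    (∀ v, pc * pt v = pt (Mat.cyc.app v) * pc) ∧ (∀ v, ps * pt v = pt (Mat.swp.app v) * ps) ∧
    pc * pi9 = pi9 * pc ∧ ps * pi9 = pi9 * ps ∧ (∀ v, pt v * pi9 = pi9 * pt v) := by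
  decide +kernel

theorem model_images : ∀ a b c : Fin 9, a.val / 3 ≠ b.val / 3 → a.val / 3 ≠ c.val / 3 →
    b.val / 3 ≠ c.val / 3 → ∃ (i : Fin 3) (j : Fin 2), ((pc ^ (i : ℕ) * ps ^ (j : ℕ)) 0).val / 3 = a.val / 3 ∧
      ((pc ^ (i : ℕ) * ps ^ (j : ℕ)) 3).val / 3 = b.val / 3 ∧
      ∃ v, md v i j 0 = a ∧ md v i j 3 = b ∧ md v i j 6 = c := by decide +kernel

theorem model_blocks : (∀ a b : Fin 9, a.val / 3 = b.val / 3 →
      b = a ∨ b = pi9 a ∨ b = pi9 (pi9 a)) ∧
    pi9 0 = 1 ∧ pi9 1 = 2 ∧ pi9 3 = 4 ∧ pi9 4 = 5 ∧ pi9 6 = 7 ∧ pi9 7 = 8 := by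
  decide +kernel

theorem model_centre : ∀ v i j, md v i j * pc = pc * md v i j → md v i j * ps = ps * md v i j →
    md v i j * pt eVec1 = pt eVec1 * md v i j →
    md v i j = 1 ∨ md v i j = pt xVec ∨ md v i j = pt yVec := by decide +kernel

theorem model_surj {g : Equiv.Perm (Fin 9)} (h : g * pi9 = pi9 * g) :
    ∃ v i j, md v i j = g := by
  obtain ⟨hb, h0, h1, h3, h4, h6, h7⟩ := model_blocks
  have hg : ∀ z, g (pi9 z) = pi9 (g z) := fun z => DFunLike.congr_fun h z
  have e : g 1 = pi9 (g 0) ∧ g 2 = pi9 (pi9 (g 0)) ∧ g 4 = pi9 (g 3) ∧ g 5 = pi9 (pi9 (g 3)) ∧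
      g 7 = pi9 (g 6) ∧ g 8 = pi9 (pi9 (g 6)) := by
    refine ⟨?_, ?_, ?_, ?_, ?_, ?_⟩ <;> simp only [← hg, h0, h1, h3, h4, h6, h7]
  have hne : ∀ p q : Fin 9, (g p).val / 3 = (g q).val / 3 →
      q = p ∨ q = pi9 p ∨ q = pi9 (pi9 p) := fun p q he => by
    rcases hb _ _ he with e | e | e
    · exact Or.inl (g.injective e)
    · rw [← hg] at e; exact Or.inr (Or.inl (g.injective e))
    · rw [← hg, ← hg] at e; exact Or.inr (Or.inr (g.injective e))
  obtain ⟨i, j, -, -, v, a, b, c⟩ := model_images (g 0) (g 3) (g 6)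
    (fun he => absurd (hne 0 3 he) (by decide +kernel))
    (fun he => absurd (hne 0 6 he) (by decide +kernel))
    (fun he => absurd (hne 3 6 he) (by decide +kernel))
  refine ⟨v, i, j, Equiv.ext fun z => ?_⟩
  have hm : md v i j * pi9 = pi9 * md v i j := by
    obtain ⟨-, -, -, -, -, hc, hs, hv⟩ := model_rel
    exact ((Commute.mul_left (hv v) (Commute.pow_left hc _)).mul_left (Commute.pow_left hs _)).eq
  have hmd : ∀ w, md v i j (pi9 w) = pi9 (md v i j w) := fun w => DFunLike.congr_fun hm w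
  fin_cases z
  · exact a
  · show md v i j 1 = g 1; rw [e.1, ← h0, hmd, a]
  · show md v i j 2 = g 2; rw [e.2.1, ← h1, ← h0, hmd, hmd, a]
  · exact b
  · show md v i j 4 = g 4; rw [e.2.2.1, ← h3, hmd, b]
  · show md v i j 5 = g 5; rw [e.2.2.2.1, ← h4, ← h3, hmd, hmd, b]
  · exact c
  · show md v i j 7 = g 7; rw [e.2.2.2.2.1, ← h6, hmd, c]
  · show md v i j 8 = g 8; rw [e.2.2.2.2.2, ← h7, ← h6, hmd, hmd, c]

/-- The only elementary subgroup of order `27` in coordinates. -/
theorem tri_facts : (∀ t : Tri, tmul (tmul t t) t = (oVec, 0, 0) → t.2.2 = 0) ∧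
    ∀ v : Vec, ∀ i : Fin 3, i ≠ 0 →
      (Finset.univ.filter fun w : Vec × Fin 3 =>
        tmul (v, i, 0) (w.1, w.2, 0) = tmul (w.1, w.2, 0) (v, i, 0)).card ≤ 9 := by
  decide +kernel

namespace Frame

variable {G : Type u} [Group G] (d : Frame G)

/-- An elementary subgroup of order `27` commuting with `x` is the base. -/
theorem eq_base {A : Subgroup G} [Finite A] (hx : ∀ a ∈ A, a * d.x = d.x * a)
    (hc : ∀ a ∈ A, ∀ b ∈ A, a * b = b * a) (he : ∀ a ∈ A, a * a * a = 1)
    (h27 : Nat.card A = 27) {g : G} : g ∈ A ↔ ∃ v, d.el v = g := by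
  have hform : ∀ a ∈ A, ∃ w : Vec × Fin 3, d.of (w.1, w.2, 0) = a := by
    intro a ha
    obtain ⟨⟨v, i, j⟩, rfl⟩ := d.mem_cent_iff.1 (hx a ha)
    have h : tmul (tmul (v, i, j) (v, i, j)) (v, i, j) = (oVec, 0, 0) := d.of_injective (by
      rw [d.of_mul, d.of_mul, he _ ha, d.of_zero, d.el_zero])
    obtain rfl : j = 0 := tri_facts.1 (v, i, j) h
    exact ⟨(v, i), rfl⟩
  have hbase : ∀ a ∈ A, ∃ v, d.el v = a := by
    intro a ha
    obtain ⟨⟨v, i⟩, rfl⟩ := hform a ha
    by_cases hi : i = 0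
    · subst hi; exact ⟨v, (d.of_zero v).symm⟩
    exfalso
    choose f hf using hform
    have hle : Nat.card A ≤ (Finset.univ.filter fun w : Vec × Fin 3 =>
        tmul (v, i, 0) (w.1, w.2, 0) = tmul (w.1, w.2, 0) (v, i, 0)).card := by
      rw [← Fintype.card_coe, ← Nat.card_eq_fintype_card]
      refine Nat.card_le_card_of_injective (fun b => ⟨f b b.2, ?_⟩) fun b b' e => ?_
      · refine Finset.mem_filter.2 ⟨Finset.mem_univ _, d.of_injective ?_⟩
        rw [d.of_mul, d.of_mul, hf b b.2]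
        exact hc _ ha _ b.2
      · refine Subtype.ext ?_
        rw [← hf b b.2, ← hf b' b'.2, show f b b.2 = f b' b'.2 from congrArg Subtype.val e]
    have := tri_facts.2 v i hi
    omega
  refine ⟨hbase g, ?_⟩
  rintro ⟨v, rfl⟩
  choose f hf using hbase
  have hb : Function.Bijective fun b : A => f b b.2 :=
    (Nat.bijective_iff_injective_and_card _).2 ⟨fun b b' e => Subtype.ext (by
      rw [← hf b b.2, ← hf b' b'.2]; exact congrArg d.el e),
      by rw [h27, Nat.card_eq_fintype_card]; rfl⟩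
  obtain ⟨b, hb⟩ := hb.2 v
  rw [← hb]
  show d.el (f b b.2) ∈ A
  rw [hf b b.2]
  exact b.2

end Frame

/-- The hypotheses give the coordinates. -/
theorem exists_setup {G : Type u} [Group G] [Finite G] {x : G} (hx : orderOf x = 3)
    (eC : Subgroup.centralizer ({x} : Set G) ≃*
      Subgroup.centralizer ({pi9} : Set (Equiv.Perm (Fin 9))))
    {J : Subgroup G} (hJC : J ≤ Subgroup.centralizer ({x} : Set G))
    (hJcomm : ∀ a ∈ J, ∀ b ∈ J, a * b = b * a)
    (hJexp : ∀ j ∈ J, j * j * j = 1) (hJcard : Nat.card J = 27)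
    (hJsig : ∀ K : Subgroup G, ¬ 3 ∣ Nat.card K →
      (∀ j ∈ J, ∀ k ∈ K, j * k * j⁻¹ ∈ K) → K = ⊥) :
    ∃ d : Setup G, ∀ g, g ∈ J ↔ ∃ v, d.el v = g := by
  obtain ⟨hc3, hs2, hsc, hcv, hsv, hcp, hsp, hvp⟩ := model_rel
  have hmem : ∀ g : Equiv.Perm (Fin 9), g * pi9 = pi9 * g →
      g ∈ Subgroup.centralizer ({pi9} : Set (Equiv.Perm (Fin 9))) := fun g h =>
    Subgroup.mem_centralizer_singleton_iff.2 h
  have hx1 : x ≠ 1 := by intro e; rw [e, orderOf_one] at hx; omega
  let xC : Subgroup.centralizer ({x} : Set G) :=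
    ⟨x, Subgroup.mem_centralizer_singleton_iff.2 rfl⟩
  have hxC : ∀ g, xC * g = g * xC := fun g =>
    Subtype.ext (Subgroup.mem_centralizer_singleton_iff.1 g.2).symm
  -- `x` corresponds to `pi9` up to inversion
  have hz : (eC xC : Equiv.Perm (Fin 9)) = pt xVec ∨ (eC xC : Equiv.Perm (Fin 9)) = pt yVec := by
    obtain ⟨v, i, j, e⟩ := model_surj (Subgroup.mem_centralizer_singleton_iff.1 (eC xC).2)
    have hcomm : ∀ (m : Equiv.Perm (Fin 9)), m * pi9 = pi9 * m →
        md v i j * m = m * md v i j := by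
      intro m hm
      rw [e]
      have h := congrArg eC (hxC (eC.symm ⟨m, hmem m hm⟩))
      simp only [map_mul, MulEquiv.apply_symm_apply] at h
      exact congrArg Subtype.val h
    rcases model_centre v i j (hcomm _ hcp) (hcomm _ hsp) (hcomm _ (hvp _)) with h | h | h
    · exfalso
      refine hx1 (congrArg Subtype.val (eC.injective (a₁ := xC) (a₂ := 1) ?_))
      rw [map_one]
      exact Subtype.ext (e ▸ h)
    · exact Or.inl (e ▸ h)
    · exact Or.inr (e ▸ h)
  obtain ⟨T, hTadd, hTinj, hTc, hTs, hTx⟩ : ∃ T : Vec → Vec, (∀ v w, T (v.add w) = (T v).add (T w)) ∧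
      Function.Injective T ∧ (∀ v, T (Mat.cyc.app v) = Mat.cyc.app (T v)) ∧
      (∀ v, T (Mat.swp.app v) = Mat.swp.app (T v)) ∧
      (eC xC : Equiv.Perm (Fin 9)) = pt (T xVec) := by
    rcases hz with h | h
    · exact ⟨id, fun _ _ => rfl, fun _ _ e => e, fun _ => rfl, fun _ => rfl, h⟩
    · exact ⟨negVec, by decide +kernel, fun a b e => by
        rw [← (vec_facts.1 a).2.2.2.1, e, (vec_facts.1 b).2.2.2.1],
        by decide +kernel, by decide +kernel, h⟩
  let f : Equiv.Perm (Fin 9) → G := fun m =>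
    if h : m * pi9 = pi9 * m then ((eC.symm ⟨m, hmem m h⟩ : _) : G) else 1
  have hf : ∀ m n, m * pi9 = pi9 * m → n * pi9 = pi9 * n → f (m * n) = f m * f n := by
    intro m n hm hn
    simp only [f, dif_pos hm, dif_pos hn, dif_pos (Commute.mul_left hm hn).eq]
    rw [← Subgroup.coe_mul, ← map_mul]
    rfl
  have hfinj : ∀ m n, m * pi9 = pi9 * m → n * pi9 = pi9 * n → f m = f n → m = n := by
    intro m n hm hn e
    simp only [f, dif_pos hm, dif_pos hn] at e
    exact congrArg Subtype.val (eC.symm.injective (Subtype.ext e))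
  have hf1 : f 1 = 1 := by
    have := hf 1 1 (by simp) (by simp)
    rw [mul_one] at this
    exact mul_eq_left.1 this.symm
  have hfx : f (pt (T xVec)) = x := by
    rw [← hTx]
    simp only [f, dif_pos (Subgroup.mem_centralizer_singleton_iff.1 (eC xC).2)]
    rw [Subtype.coe_eta, MulEquiv.symm_apply_apply]
  obtain ⟨hpt, hpt1, hptx⟩ := model_el
  let el : Vec → G := fun v => f (pt (T v))
  have hadd : ∀ v w, el (v.add w) = el v * el w := fun v w => by
    simp only [el]
    rw [hTadd, hpt, hf _ _ (hvp _) (hvp _)]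
  have hinj : Function.Injective el := fun v w e => by
    refine hTinj ?_
    have h := hfinj _ _ (hvp _) (hvp _) e
    have h' : pt ((T v).add (negVec (T w))) = 1 := by
      rw [hpt, h, ← hpt, (vec_facts.1 (T w)).2.1]; decide +kernel
    have key : ∀ a b : Vec, a.add (negVec b) = oVec → a = b := by decide +kernel
    exact key _ _ (hpt1 _ h')
  have hcent : ∀ g, g * el xVec = el xVec * g →
      ∃ (v : Vec) (i : Fin 3) (j : Fin 2), g = el v * f pc ^ (i : ℕ) * f ps ^ (j : ℕ) := by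
    intro g hg
    rw [show el xVec = x from hfx] at hg
    obtain ⟨v, i, j, e⟩ := model_surj (Subgroup.mem_centralizer_singleton_iff.1
      (eC ⟨g, Subgroup.mem_centralizer_singleton_iff.2 hg⟩).2)
    obtain ⟨w, rfl⟩ := (Finite.surjective_of_injective hTinj) v
    refine ⟨w, i, j, ?_⟩
    have hpow : ∀ m, m * pi9 = pi9 * m → ∀ n : ℕ, f (m ^ n) = f m ^ n := by
      intro m hm n
      induction n with
      | zero => rw [pow_zero, pow_zero, hf1]
      | succ n ih => rw [pow_succ, pow_succ, hf _ _ (Commute.pow_left hm n).eq hm, ih]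
    rw [← hpow _ hcp, ← hpow _ hsp,
      show el w * f (pc ^ (i : ℕ)) = f (pt (T w) * pc ^ (i : ℕ)) from
        (hf _ _ (hvp _) (Commute.pow_left hcp _).eq).symm,
      ← hf _ _ (Commute.mul_left (hvp _) (Commute.pow_left hcp _)).eq (Commute.pow_left hsp _).eq]
    simp only [show pt (T w) * pc ^ (i : ℕ) * ps ^ (j : ℕ) = _ from e,
      f, dif_pos (Subgroup.mem_centralizer_singleton_iff.1 (eC ⟨g, _⟩).2)]
    rw [Subtype.coe_eta, MulEquiv.symm_apply_apply]
  have h2 : ∀ m, m * pi9 = pi9 * m → (m * m) * pi9 = pi9 * (m * m) := fun m h =>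
    (Commute.mul_left h h).eq
  let d0 : Frame G :=
    { el := el, el_add := hadd, el_inj := hinj, c := f pc, s := f ps
      c_cube := by rw [← hf _ _ hcp hcp, ← hf _ _ (h2 _ hcp) hcp, hc3, hf1]
      s_sq := by rw [← hf _ _ hsp hsp, hs2, hf1]
      s_c := by
        rw [← hf _ _ hsp hcp, hsc, hf _ _ (h2 _ hcp) hsp, hf _ _ hcp hcp]
      conj_c := fun v => by
        simp only [el]
        rw [← hf _ _ hcp (hvp _), hcv, hf _ _ (hvp _) hcp, hTc]
      conj_s := fun v => by
        simp only [el]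
        rw [← hf _ _ hsp (hvp _), hsv, hf _ _ (hvp _) hsp, hTs]
      cent := hcent }
  -- the base is `J`
  have hiff : ∀ g, g ∈ J ↔ ∃ v, el v = g := fun g =>
    d0.eq_base (fun a ha => by
      show a * el xVec = el xVec * a
      rw [show el xVec = x from hfx]
      exact Subgroup.mem_centralizer_singleton_iff.1 (hJC ha)) hJcomm hJexp hJcard
  refine ⟨{ toFrame := d0, sig := ?_ }, hiff⟩
  intro K h3 hK
  refine hJsig K h3 fun j hj k hk => ?_
  obtain ⟨v, rfl⟩ := (hiff j).1 hj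
  exact hK v k hk

end CfsgLib.SymNineRecog
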