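import Cfsg.Agent.Coprime.Generation
import Mathlib.GroupTheory.Transfer
import Mathlib.GroupTheory.Sylow
import Mathlib.Tactic

/-!
# General lemmas: central Sylow subgroups and generation by centralisers
-/

set_option autoImplicit false
set_option linter.unusedSectionVars false

namespace CfsgLib.SymNineRecog

universe u

variable {G : Type u} [Group G] [Finite G]

/-- A central Sylow `p`-subgroup has a complement which is invariant under everything normalising
the group. -/
theorem exists_central_complement {p : ℕ} [Fact p.Prime] {E L : Subgroup G} (hEL : E ≤ L)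
    (hE : IsPGroup p E) (hidx : ¬ p ∣ E.relIndex L)
    (hcen : ∀ e ∈ E, ∀ l ∈ L, e * l = l * e) :
    ∃ K ≤ L, ¬ p ∣ Nat.card K ∧ L ≤ E ⊔ K ∧
      ∀ g : G, (∀ y ∈ L, g * y * g⁻¹ ∈ L) → ∀ k ∈ K, g * k * g⁻¹ ∈ K := by
  have hp : IsPGroup p (E.subgroupOf L) :=
    hE.of_equiv (Subgroup.subgroupOfEquivOfLe hEL).symm
  set P : Sylow p L := hp.toSylow hidx
  have hle : Subgroup.normalizer ((P : Subgroup L) : Set L) ≤
      Subgroup.centralizer ((P : Subgroup L) : Set L) := fun l _ =>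
    Subgroup.mem_centralizer_iff.2 fun e he => Subtype.ext (hcen (e : G) he l l.2)
  set φ := MonoidHom.transferSylow P hle
  have hc : Subgroup.IsComplement' φ.ker (P : Subgroup L) :=
    MonoidHom.ker_transferSylow_isComplement' P hle
  have hnd : ¬ p ∣ Nat.card φ.ker := MonoidHom.not_dvd_card_ker_transferSylow P hle
  have hchar : ∀ y : L, ¬ p ∣ orderOf y → φ y = 1 := fun y hy => by
    obtain ⟨k, hk⟩ := IsPGroup.iff_card.1 P.2
    have h1 : orderOf (φ y) ∣ p ^ k := hk ▸ orderOf_dvd_natCard _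
    have hco : (p ^ k).Coprime (orderOf y) :=
      Nat.Coprime.pow_left _ (((Fact.out : p.Prime).coprime_iff_not_dvd).2 hy)
    exact orderOf_eq_one_iff.1 (Nat.eq_one_of_dvd_coprimes hco h1 (orderOf_map_dvd φ y))
  refine ⟨φ.ker.map L.subtype, Subgroup.map_subtype_le _, ?_, ?_, ?_⟩
  · rwa [Subgroup.card_map_of_injective L.subtype_injective]
  · intro l hl
    obtain ⟨⟨k, e⟩, he, -⟩ := hc.existsUnique ⟨l, hl⟩
    have he' : (k : L) * (e : L) = ⟨l, hl⟩ := he
    rw [show l = ((k : L) : G) * ((e : L) : G) from (congrArg Subtype.val he').symm]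
    exact mul_mem (Subgroup.mem_sup_right ⟨k, k.2, rfl⟩) (Subgroup.mem_sup_left e.2)
  · rintro g hg _ ⟨k, hk, rfl⟩
    refine ⟨⟨_, hg k k.2⟩, MonoidHom.mem_ker.2 (hchar _ fun h => hnd ?_), rfl⟩
    rw [← Subgroup.orderOf_coe] at h
    have e : orderOf (g * (k : G) * g⁻¹) = orderOf (k : G) := (MulAut.conj g).orderOf_eq (k : G)
    change p ∣ orderOf (g * (k : G) * g⁻¹) at h
    rw [e, Subgroup.orderOf_coe] at h
    exact h.trans (Subgroup.orderOf_dvd_natCard _ hk)

/-- Generation by centralisers under an elementary group of order nine. -/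
theorem le_of_nine {K R T : Subgroup G} (hK : ¬ 3 ∣ Nat.card K) (h9 : Nat.card R = 9)
    (hexp : ∀ r ∈ R, r * r * r = 1) (hn : ∀ r ∈ R, ∀ k ∈ K, r * k * r⁻¹ ∈ K)
    (h : ∀ r ∈ R, r ≠ 1 → ∀ k ∈ K, k * r = r * k → k ∈ T) : K ≤ T := by
  haveI : Fact (Nat.Prime 3) := ⟨Nat.prime_three⟩
  haveI : IsMulCommutative R :=
    ⟨⟨IsPGroup.commutative_of_card_eq_prime_sq (p := 3) (by rw [h9]; norm_num)⟩⟩
  have hR : R ≤ Subgroup.normalizer (K : Set G) := fun r hr =>
    Subgroup.mem_normalizer_iff.2 fun k => ⟨hn r hr k, fun hk => by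
      simpa [mul_assoc] using hn _ (inv_mem hr) _ hk⟩
  refine Coprime.le_of_forall_inf_centralizer_le ?_ hR ?_ fun a ha ha1 k hk =>
    h a ha ha1 k hk.1 (Subgroup.mem_centralizer_singleton_iff.1 hk.2)
  · intro hcyc
    obtain ⟨r, hr⟩ := hcyc.exists_generator
    have h3 : orderOf r ∣ 3 := orderOf_dvd_of_pow_eq_one (Subtype.ext (by
      simpa [pow_succ] using hexp r r.2))
    have h9' : orderOf r = 9 := by rw [orderOf_eq_card_of_forall_mem_zpowers hr, h9]
    rw [h9'] at h3
    norm_num at h3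
  · rw [h9, show (9 : ℕ) = 3 ^ 2 from rfl]
    exact Nat.Coprime.pow_left _ ((Nat.prime_three.coprime_iff_not_dvd).2 hK)

end CfsgLib.SymNineRecog
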