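import Cfsg.Agent.AltNineRecog.Final
import Cfsg.Agent.S3344
import Cfsg.Agent.AutAlt.Basic

/-!
# A subgroup of index two containing the base with the local subgroup of `Alt 9`

Then the base is normal or the group is `Sym 9`.
-/

set_option autoImplicit false
set_option linter.style.haveILetI false

namespace CfsgLib.SymNineRecog

universe u

/-- A subgroup of index two whose local subgroup at the base has the shape of that of `Alt 9`. -/
theorem sym_nine_of_index_two {G : Type u} [Group G] [Finite G] (J : Subgroup G)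
    (hJexp : ∀ j ∈ J, j * j * j = 1) (hJcard : Nat.card J = 27)
    (hCJ : Subgroup.centralizer (J : Set G) = J)
    (hsig : ∀ K : Subgroup G, ¬ 3 ∣ Nat.card K →
      (∀ j ∈ J, ∀ k ∈ K, j * k * j⁻¹ ∈ K) → K = ⊥)
    (K : Subgroup G) (hK : K.index = 2) (hJK : J ≤ K)
    (eH : ↥(K ⊓ Subgroup.normalizer (J : Set G)) ≃* CfsgLib.AltNineThree.M) :
    J.Normal ∨ Nonempty (G ≃* Equiv.Perm (Fin 9)) := by
  haveI hKn : K.Normal := Subgroup.normal_of_index_eq_two hK
  haveI : Fact (Nat.Prime 3) := ⟨Nat.prime_three⟩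
  obtain ⟨J', hJ'⟩ : ∃ J' : Subgroup K, J' = J.subgroupOf K := ⟨_, rfl⟩
  have hJ'mem : ∀ x : K, x ∈ J' ↔ (x : G) ∈ J := fun x => by rw [hJ', Subgroup.mem_subgroupOf]
  have hJ'card : Nat.card J' = 27 := by
    rw [hJ', Nat.card_congr (Subgroup.subgroupOfEquivOfLe hJK).toEquiv, hJcard]
  have hJ'exp : ∀ x ∈ J', x ^ 3 = 1 := fun x hx => Subtype.ext (by
    rw [Subgroup.coe_pow, Subgroup.coe_one, pow_succ, pow_two]
    exact hJexp _ ((hJ'mem x).1 hx))
  have hnorm : ∀ x : K, x ∈ Subgroup.normalizer (J' : Set K) ↔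
      (x : G) ∈ Subgroup.normalizer (J : Set G) := by
    intro x
    rw [Subgroup.mem_normalizer_iff, Subgroup.mem_normalizer_iff]
    constructor
    · intro h g
      by_cases hg : g ∈ K
      · have := h ⟨g, hg⟩
        rw [hJ'mem, hJ'mem] at this
        exact this
      · refine ⟨fun hgJ => absurd (hJK hgJ) hg, fun hgJ => ?_⟩
        refine absurd ?_ hg
        have h1 := mul_mem (mul_mem (inv_mem x.2) (hJK hgJ)) x.2
        rwa [show (x : G)⁻¹ * (x * g * (x : G)⁻¹) * x = g by group] at h1
    · intro h g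
      rw [hJ'mem, hJ'mem]
      exact h g
  obtain ⟨e'⟩ : Nonempty (Subgroup.normalizer (J' : Set K) ≃* CfsgLib.AltNineThree.M) := by
    refine ⟨MulEquiv.trans ?_ eH⟩
    exact
      { toFun := fun x => ⟨x.1.1, x.1.2, (hnorm x.1).1 x.2⟩
        invFun := fun x => ⟨⟨x.1, x.2.1⟩, (hnorm _).2 x.2.2⟩
        left_inv := fun _ => rfl
        right_inv := fun _ => rfl
        map_mul' := fun _ _ => rfl }
  have hJc : ∀ a ∈ J, ∀ b ∈ J, a * b = b * a := fun a ha b hb => by
    have hb' : b ∈ Subgroup.centralizer (J : Set G) := by rw [hCJ]; exact hb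
    exact Subgroup.mem_centralizer_iff.1 hb' a ha
  have hcores : ∀ x ∈ J', orderOf x = 3 →
      Cfsg.pPrimeCore 3 (Subgroup.centralizer ({x} : Set K)) = ⊥ := by
    intro x hx _
    rw [eq_bot_iff]
    refine sSup_le ?_
    rintro L ⟨hLn, hL⟩
    have hJx : ∀ j ∈ J, ∀ hj : j ∈ K, (⟨j, hj⟩ : K) ∈ Subgroup.centralizer ({x} : Set K) :=
      fun j hj hjK => Subgroup.mem_centralizer_singleton_iff.2
        (Subtype.ext (hJc j hj x ((hJ'mem x).1 hx)))
    obtain ⟨f, hf⟩ : ∃ f : Subgroup.centralizer ({x} : Set K) →* G,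
        f = K.subtype.comp (Subgroup.centralizer ({x} : Set K)).subtype := ⟨_, rfl⟩
    have hfinj : Function.Injective f := hf ▸ K.subtype_injective.comp (Subgroup.subtype_injective _)
    have h1 : L.map f = ⊥ := by
      refine hsig _ ?_ ?_
      · rw [Subgroup.card_map_of_injective hfinj]
        exact (Nat.prime_three.coprime_iff_not_dvd).1 hL.symm
      · rintro j hj _ ⟨l, hl, rfl⟩
        refine ⟨⟨⟨j, hJK hj⟩, hJx j hj (hJK hj)⟩ * l * ⟨⟨j, hJK hj⟩, hJx j hj (hJK hj)⟩⁻¹,
          hLn.conj_mem l hl _, ?_⟩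
        rw [map_mul, map_mul, map_inv, hf]
        rfl
    intro l hl
    rw [Subgroup.mem_bot]
    refine hfinj ?_
    rw [map_one, ← Subgroup.mem_bot, ← h1]
    exact ⟨l, hl, rfl⟩
  rcases AltNineRecog.alt_nine_or_top_of_base
      (fun s hs L hL Q hQ h1 h2 e X h3 h4 =>
        Cfsg.Agent.S3344.result s hs L hL Q hQ h1 h2 e X h3 h4)
      J' hJ'exp hJ'card _ rfl e' hcores with htop | ⟨⟨e⟩⟩
  · left
    obtain ⟨eK⟩ : Nonempty (K ≃* CfsgLib.AltNineThree.M) :=
      ⟨(Subgroup.topEquiv.symm.trans (MulEquiv.subgroupCongr htop.symm)).trans e'⟩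
    have hJn : J'.Normal := Subgroup.normalizer_eq_top_iff.1 htop
    have key : ∀ A : Subgroup K, A.Normal → Nat.card A = 27 →
        A.map eK.toMonoidHom = CfsgLib.AltNineThree.eSub := by
      intro A hA hA27
      refine Subgroup.eq_of_le_of_card_ge ?_ ?_
      · rw [← AltNineThree.pCore_eq]
        exact le_sSup ⟨hA.map _ eK.surjective,
          (IsPGroup.of_card (n := 3) (by rw [hA27]; norm_num)).map _⟩
      · rw [Subgroup.card_map_of_injective eK.injective, hA27,
          ← AltNineThree.card_E, ← Fintype.card_subtype, ← Nat.card_eq_fintype_card]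
        exact le_rfl
    refine ⟨fun j hj g => ?_⟩
    obtain ⟨φ, hφ⟩ : ∃ φ : K ≃* K, φ = MulAut.conjNormal g := ⟨_, rfl⟩
    have h2 : J'.map φ.toMonoidHom = J' := by
      refine Subgroup.map_injective (f := eK.toMonoidHom) eK.injective ?_
      rw [key J' hJn hJ'card, key _ (hJn.map _ φ.surjective)
        (by rw [Subgroup.card_map_of_injective φ.injective, hJ'card])]
    have h3 : φ ⟨j, hJK hj⟩ ∈ J' := h2.le ⟨⟨j, hJK hj⟩, (hJ'mem _).2 hj, rfl⟩
    rw [hJ'mem, hφ, MulAut.conjNormal_apply] at h3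
    exact h3
  · right
    haveI : IsSimpleGroup (alternatingGroup (Fin 9)) :=
      alternatingGroup.isSimpleGroup (by simp)
    have hAc : ∀ z : K, (∀ k : K, k * z = z * k) → z = 1 := by
      intro z hz
      have h1 : e z ∈ Subgroup.center (alternatingGroup (Fin 9)) :=
        Subgroup.mem_center_iff.2 fun a => by
          obtain ⟨k, rfl⟩ := e.surjective a
          rw [← map_mul, ← map_mul, hz k]
      rw [alternatingGroup.center_eq_bot (by simp), Subgroup.mem_bot] at h1
      exact e.injective (h1.trans e.map_one.symm)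
    let θ : G →* MulAut (alternatingGroup (Fin 9)) :=
      (MulAut.congr e).toMonoidHom.comp (MulAut.conjNormal (H := K))
    have hinj : Function.Injective θ := by
      refine (injective_iff_map_eq_one θ).2 fun g hg => ?_
      have h1 : MulAut.conjNormal (H := K) g = 1 :=
        (MulAut.congr e).injective (hg.trans (map_one _).symm)
      have hc : ∀ k : K, g * (k : G) = k * g := fun k => by
        have h2 := congrArg (fun a : MulAut K => ((a k : K) : G)) h1
        simp only [MulAut.conjNormal_apply, MulAut.one_apply] at h2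
        exact mul_inv_eq_iff_eq_mul.1 h2
      have hgJ : g ∈ J := by
        rw [← hCJ, Subgroup.mem_centralizer_iff]
        exact fun x hx => (hc ⟨x, hJK hx⟩).symm
      have h3 := hAc ⟨g, hJK hgJ⟩ fun k => Subtype.ext (hc k).symm
      exact congrArg Subtype.val h3
    have hperm := AutAlt.conjNormal_bijective (α := Fin 9) (by simp) (by simp)
    have hcard : Nat.card G = Nat.card (MulAut (alternatingGroup (Fin 9))) := by
      rw [← Nat.card_congr (Equiv.ofBijective _ hperm), ← K.card_mul_index, hK,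
        Nat.card_congr e.toEquiv, mul_comm, two_mul_nat_card_alternatingGroup]
    have hb : Function.Bijective θ :=
      (Nat.bijective_iff_injective_and_card θ).2 ⟨hinj, hcard⟩
    exact ⟨(MulEquiv.ofBijective θ hb).trans (MulEquiv.ofBijective _ hperm).symm⟩

end CfsgLib.SymNineRecog
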