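import Cfsg.Agent.SymNineRecog.CentInvol
import Cfsg.Agent.SymNineRecog.FrameCheck

/-!
# The four possible automisers
-/

set_option autoImplicit false

namespace CfsgLib.SymNineRecog

set_option maxRecDepth 100000
set_option synthInstance.maxSize 1024
set_option synthInstance.maxHeartbeats 200000

/-- `Sym 3`. -/
def listA : List Mat := pmats

/-- `2 × Sym 3`. -/
def listB : List Mat := pmats ++ pmats.map fun p => Mat.negOne.mul p

/-- `Sym 4`, the signs of determinant one. -/
def listE : List Mat :=
  [diag .o .o .o, diag .o .t .t, diag .t .o .t, diag .t .t .o].flatMap fun a =>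
    pmats.map fun p => a.mul p

/-- All signed permutations. -/
def listF : List Mat := signed

/-- The sign change of the last two coordinates. -/
def dMat : Mat := diag .o .t .t

theorem monoList_zero : ∀ m ∈ monoList 0, m ∈ listF := by decide +kernel

theorem lists_facts :
    (∀ p ∈ pmats, p ∈ listA ∧ p ∈ listB ∧ p ∈ listE ∧ p ∈ listF) ∧
    listA.Nodup ∧ listB.Nodup ∧ listE.Nodup ∧ listF.Nodup ∧
    listA.length = 6 ∧ listB.length = 12 ∧ listE.length = 24 ∧ listF.length = 48 := by
  decide +kernel

theorem leave_A : ∀ m ∈ listF, m ∉ listA → ∃ p ∈ pmats, ∃ q ∈ pmats, ∃ r ∈ pmats,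
    (p.mul m).mul q = Mat.negOne ∨ (p.mul m).mul q = dMat ∨
      (((p.mul m).mul q).mul m).mul r = dMat := by decide +kernel

theorem leave_B : ∀ m ∈ listF, m ∉ listB → ∃ p ∈ pmats, ∃ q ∈ pmats, ∃ r ∈ pmats,
    (p.mul m).mul q = dMat ∨ (((p.mul m).mul q).mul m).mul r = dMat := by decide +kernel

theorem leave_E : ∀ m ∈ listF, m ∉ listE → ∃ p ∈ pmats, ∃ q ∈ pmats, ∃ r ∈ pmats,
    (p.mul m).mul q = Mat.negOne ∨ (((p.mul m).mul q).mul dMat).mul r = Mat.negOne := by
  decide +kernel

theorem made_B : ∀ m ∈ listB, ∃ p ∈ pmats, m = p ∨ m = Mat.negOne.mul p := by decide +kernel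

theorem made_E : ∀ m ∈ listE, ∃ p ∈ pmats, ∃ q ∈ pmats, m = p ∨ m = (p.mul dMat).mul q := by
  decide +kernel

theorem made_F : ∀ m ∈ listF, ∃ p ∈ pmats, ∃ q ∈ pmats, m = p ∨ m = Mat.negOne.mul p ∨
    m = (p.mul dMat).mul q ∨ m = Mat.negOne.mul ((p.mul dMat).mul q) := by decide +kernel

/-- Elements of `2`-power order. -/
def twoMat (m : Mat) : Bool :=
  m.force fun m => (m.mul m).force fun m2 => (m2.mul m2).force fun m4 => (m4.mul m4).beq Mat.one

/-- The Sylow subgroup through the transposition. -/
def sylList (L : List Mat) : List Mat :=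
  L.filter fun m => twoMat m && twoMat (m.mul Mat.swp) && twoMat (Mat.swp.mul m)

/-- A vector is outside the class of `x`. -/
def offX (L : List Mat) (v : Vec) : Bool :=
  L.all fun m => !((m.app v).beq xVec || (m.app v).beq yVec)

/-- All vectors outside the class of `x` have small stabilisers. -/
def AllSmall (L : List Mat) : Prop :=
  ∀ v, v ≠ oVec → offX L v = true → Small (lineKer v) (L.filter fun m => (m.app v).beq v)

instance (L : List Mat) : Decidable (AllSmall L) := inferInstanceAs (Decidable (∀ _, _))

theorem allSmall_A : AllSmall listA := by decide +kernel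

theorem allSmall_B : AllSmall listB := by decide +kernel

theorem allSmall_E : AllSmall listE := by decide +kernel

theorem involCheck_A : InvolCheck listA Mat.swp := by decide +kernel

theorem involCheck_B : InvolCheck listB Mat.swp := by decide +kernel

theorem involCheck_E : InvolCheck listE Mat.swp := by decide +kernel

end CfsgLib.SymNineRecog
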