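import Cfsg.Agent.SymNineRecog.Data
import Mathlib.GroupTheory.Nilpotent

/-!
# The base is weakly closed

The base `J` is its own centraliser, `P = J⟨c⟩` is a Sylow subgroup, and the normaliser `H` of `J`
controls the fusion in `J`.
-/

set_option autoImplicit false
set_option linter.unusedSectionVars false

namespace CfsgLib.SymNineRecog

set_option maxRecDepth 100000

universe u

theorem tri_local :
    (∀ i j, (∀ v, tact i j v = v) → i = 0 ∧ j = 0) ∧ (∀ i v, tact i 0 v = v → i ≠ 0 →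
      v = oVec ∨ v = xVec ∨ v = yVec) ∧
    (∀ t : Tri, tmul (tmul t t) t = (oVec, 0, 0) → t.2.2 = 0) ∧
    (∀ v, tmul (v, 0, 0) (oVec, 1, 0) = tmul (oVec, 1, 0) (v, 0, 0) →
      v = oVec ∨ v = xVec ∨ v = yVec) ∧
    Mat.cyc.app xVec = xVec ∧ Mat.swp.app xVec = xVec := by decide +kernel

namespace Setup

variable {G : Type u} [Group G] [Finite G] (d : Setup G)

/-- The base. -/
def J : Subgroup G where
  carrier := {g | ∃ v, d.el v = g}
  one_mem' := ⟨oVec, d.el_zero⟩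
  mul_mem' := by rintro _ _ ⟨v, rfl⟩ ⟨w, rfl⟩; exact ⟨v.add w, d.el_add v w⟩
  inv_mem' := by rintro _ ⟨v, rfl⟩; exact ⟨negVec v, d.el_neg v⟩

theorem el_mem (v : Vec) : d.el v ∈ d.J := ⟨v, rfl⟩

/-- The `3`-subgroup `J⟨c⟩`. -/
def P : Subgroup G where
  carrier := {g | ∃ v i, d.of (v, i, 0) = g}
  one_mem' := ⟨oVec, 0, by rw [d.of_zero, d.el_zero]⟩
  mul_mem' := by
    rintro _ _ ⟨v, i, rfl⟩ ⟨w, k, rfl⟩
    exact ⟨_, _, by rw [← d.of_mul]; rfl⟩
  inv_mem' := by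
    rintro _ ⟨v, i, rfl⟩
    refine ⟨tact (-i) 0 (negVec v), -i, eq_inv_of_mul_eq_one_left ?_⟩
    rw [← d.of_mul]
    have h : ∀ v i, tmul (tact (-i) 0 (negVec v), -i, 0) (v, i, 0) = (oVec, 0, 0) := by
      decide +kernel
    rw [h, d.of_zero, d.el_zero]

theorem of_mem_P (v : Vec) (i : Fin 3) : d.of (v, i, 0) ∈ d.P := ⟨v, i, rfl⟩

theorem J_le_P : d.J ≤ d.P := by rintro _ ⟨v, rfl⟩; exact ⟨v, 0, d.of_zero v⟩

theorem c_mem_P : d.c ∈ d.P := ⟨oVec, 1, by simp [Frame.of, d.el_zero]⟩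

theorem card_J : Nat.card d.J = 27 := by
  rw [← Nat.card_congr (Equiv.ofBijective (fun v => (⟨d.el v, v, rfl⟩ : d.J))
    ⟨fun a b e => d.el_inj (congrArg Subtype.val e),
      fun ⟨g, v, hv⟩ => ⟨v, Subtype.ext hv⟩⟩), Nat.card_eq_fintype_card]
  rfl

theorem card_P : Nat.card d.P = 81 := by
  rw [← Nat.card_congr (Equiv.ofBijective
    (fun t : Vec × Fin 3 => (⟨d.of (t.1, t.2, 0), t.1, t.2, rfl⟩ : d.P))
    ⟨fun a b e => by
      have h := d.of_injective (congrArg Subtype.val e)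
      exact Prod.ext (congrArg (fun t : Tri => t.1) h) (congrArg (fun t : Tri => t.2.1) h),
      fun ⟨g, v, i, hv⟩ => ⟨(v, i), Subtype.ext hv⟩⟩), Nat.card_eq_fintype_card]
  rfl

theorem isPGroup_P : IsPGroup 3 d.P := IsPGroup.of_card (n := 4) (by rw [d.card_P]; norm_num)

theorem isPGroup_J : IsPGroup 3 d.J := d.isPGroup_P.to_le d.J_le_P

theorem J_comm {a b : G} (ha : a ∈ d.J) (hb : b ∈ d.J) : a * b = b * a := by
  obtain ⟨v, rfl⟩ := ha
  obtain ⟨w, rfl⟩ := hb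
  exact d.el_comm v w

theorem J_cube {a : G} (ha : a ∈ d.J) : a * a * a = 1 := by
  obtain ⟨v, rfl⟩ := ha
  exact d.el_cube v

theorem x_ne : d.x ≠ 1 := fun h => absurd (d.el_eq_one.1 h) (by decide)

theorem P_comm_x {g : G} (hg : g ∈ d.P) : g * d.x = d.x * g := by
  obtain ⟨v, i, rfl⟩ := hg
  exact d.mem_cent_iff.2 ⟨_, rfl⟩

/-- The normaliser of the base. -/
def H : Subgroup G := Subgroup.normalizer (d.J : Set G)

theorem mem_H {g : G} : g ∈ d.H ↔ ∀ v, g * d.el v * g⁻¹ ∈ d.J := by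
  refine ⟨fun h v => (Subgroup.mem_normalizer_iff.1 h _).1 ⟨v, rfl⟩, fun h => ?_⟩
  have hle : d.J.map (MulAut.conj g).toMonoidHom = d.J :=
    Subgroup.eq_of_le_of_card_ge (by rintro _ ⟨_, ⟨v, rfl⟩, rfl⟩; exact h v)
      (Subgroup.card_map_of_injective (MulAut.conj g).injective).ge
  refine Subgroup.mem_normalizer_iff.2 fun y => ⟨?_, fun hy => ?_⟩
  · rintro ⟨v, rfl⟩; exact h v
  · rw [← hle] at hy
    obtain ⟨z, hz, e⟩ := hy
    rwa [← (MulAut.conj g).injective (show MulAut.conj g z = MulAut.conj g y from e)]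

theorem cent_le_H {g : G} (hg : g * d.x = d.x * g) : g ∈ d.H := by
  obtain ⟨t, rfl⟩ := d.mem_cent_iff.1 hg
  exact d.mem_H.2 fun v => ⟨tact t.2.1 t.2.2 v, by rw [d.of_act, mul_inv_cancel_right]⟩

theorem of_mem_H (t : Tri) : d.of t ∈ d.H := d.cent_le_H (d.mem_cent_iff.2 ⟨t, rfl⟩)

theorem P_le_H : d.P ≤ d.H := fun _ hg => d.cent_le_H (d.P_comm_x hg)

theorem J_le_H : d.J ≤ d.H := Subgroup.le_normalizer

theorem c_mem_H : d.c ∈ d.H := d.P_le_H d.c_mem_P

theorem s_mem_H : d.s ∈ d.H := by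
  have h := d.of_mem_H (oVec, 0, 1)
  simpa [Frame.of, d.el_zero] using h

/-- The base is its own centraliser. -/
theorem centJ {g : G} (hg : ∀ v, g * d.el v = d.el v * g) : g ∈ d.J := by
  obtain ⟨⟨w, i, j⟩, rfl⟩ := d.mem_cent_iff.1 (hg xVec)
  obtain ⟨rfl, rfl⟩ := tri_local.1 i j fun v => d.el_inj (by
    have h := d.of_act (w, i, j) v
    rw [hg v] at h
    exact (mul_right_cancel h).symm)
  exact ⟨w, (d.of_zero w).symm⟩

/-- An abelian subgroup of order `27` and exponent three of `C(x)` is the base. -/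
theorem eq_J {A : Subgroup G} (hx : ∀ a ∈ A, a * d.x = d.x * a)
    (hc : ∀ a ∈ A, ∀ b ∈ A, a * b = b * a) (he : ∀ a ∈ A, a * a * a = 1)
    (h27 : Nat.card A = 27) : A = d.J :=
  Subgroup.ext fun g => (d.eq_base hx hc he h27).trans Iff.rfl

/-- An element mapping the base into `P` normalises it. -/
theorem mem_H_of_P {g : G} (h : ∀ v, g * d.el v * g⁻¹ ∈ d.P) : g ∈ d.H := by
  have heq : d.J.map (MulAut.conj g).toMonoidHom = d.J := by
    refine d.eq_J ?_ ?_ ?_ ?_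
    · rintro _ ⟨_, ⟨v, rfl⟩, rfl⟩; exact d.P_comm_x (h v)
    · rintro _ ⟨a, ha, rfl⟩ _ ⟨b, hb, rfl⟩
      rw [← map_mul, ← map_mul, d.J_comm ha hb]
    · rintro _ ⟨a, ha, rfl⟩
      rw [← map_mul, ← map_mul, d.J_cube ha, map_one]
    · rw [Subgroup.card_map_of_injective (MulAut.conj g).injective, d.card_J]
  exact d.mem_H.2 fun v => heq.le ⟨_, ⟨v, rfl⟩, rfl⟩

/-- `P` is a Sylow subgroup. -/
theorem exists_sylow : ∃ S : Sylow 3 G, (S : Subgroup G) = d.P := by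
  haveI : Fact (Nat.Prime 3) := ⟨Nat.prime_three⟩
  obtain ⟨S, hS⟩ := d.isPGroup_P.exists_le_sylow
  refine ⟨S, le_antisymm ?_ hS⟩
  by_contra hlt
  haveI : Group.IsNilpotent (S : Subgroup G) := S.2.isNilpotent
  have hnc := Group.normalizerCondition_of_isNilpotent (G := (S : Subgroup G))
    (d.P.subgroupOf S) (lt_top_iff_ne_top.2 fun ht => hlt (Subgroup.subgroupOf_eq_top.1 ht))
  refine hnc.2 fun g hg => Subgroup.mem_subgroupOf.2 ?_
  -- `g` fixes the centre `⟨x⟩` of `P`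
  have hconj : ∀ y ∈ d.P, (g : G) * y * (g : G)⁻¹ ∈ d.P := fun y hy =>
    (Subgroup.mem_normalizer_iff.1 hg ⟨y, hS hy⟩).1 hy
  have hgH : (g : G) ∈ d.H := d.mem_H_of_P fun v => hconj _ (d.J_le_P ⟨v, rfl⟩)
  obtain ⟨v, hv⟩ := d.mem_H.1 hgH xVec
  have hz : ∀ y ∈ d.P, y * d.el v = d.el v * y := by
    have hmap : d.P.map (MulAut.conj (g : G)).toMonoidHom = d.P :=
      Subgroup.eq_of_le_of_card_ge (by rintro _ ⟨y, hy, rfl⟩; exact hconj y hy)
        (Subgroup.card_map_of_injective (MulAut.conj (g : G)).injective).ge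
    intro y hy
    rw [← hmap] at hy
    obtain ⟨z, hz, rfl⟩ := hy
    rw [hv]
    change (g : G) * z * (g : G)⁻¹ * ((g : G) * d.x * (g : G)⁻¹) =
      (g : G) * d.x * (g : G)⁻¹ * ((g : G) * z * (g : G)⁻¹)
    calc _ = (g : G) * (z * d.x) * (g : G)⁻¹ := by group
      _ = (g : G) * (d.x * z) * (g : G)⁻¹ := by rw [d.P_comm_x hz]
      _ = _ := by group
  have hline : v = oVec ∨ v = xVec ∨ v = yVec := by
    refine tri_local.2.2.2.1 v (d.of_injective ?_)
    rw [d.of_mul, d.of_mul, d.of_zero]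
    exact (hz _ (d.of_mem_P oVec 1)).symm
  -- so an odd power, hence `g` itself, centralises `x`
  have hsq : (g : G) * g * d.x = d.x * ((g : G) * g) := by
    have hy : yVec = negVec xVec := by decide
    refine mul_inv_eq_iff_eq_mul.1 ?_
    calc (g : G) * g * d.x * ((g : G) * g)⁻¹ = g * ((g : G) * d.x * (g : G)⁻¹) * (g : G)⁻¹ := by
          group
      _ = (g : G) * d.el v * (g : G)⁻¹ := by rw [hv]; rfl
      _ = d.x := by
        rcases hline with rfl | rfl | rfl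
        · exfalso
          rw [d.el_zero] at hv
          exact d.x_ne (conj_eq_one_iff.1 hv.symm)
        · exact hv.symm
        · rw [hy, d.el_neg, ← conj_inv, ← hv, hy, d.el_neg, inv_inv]
          rfl
  obtain ⟨n, hn⟩ := S.2 g
  have hn' : (g : G) ^ 3 ^ n = 1 := by simpa using congrArg Subtype.val hn
  have hgx : (g : G) * d.x = d.x * g := by
    obtain ⟨m, hm⟩ : ∃ m, 3 ^ n = 2 * m + 1 := (Odd.pow (by decide : Odd 3))
    have e : ((g : G) * g) ^ (m + 1) = g := by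
      rw [← pow_two, ← pow_mul, show 2 * (m + 1) = 3 ^ n + 1 by omega, pow_succ, hn', one_mul]
    rw [← e]
    exact (Commute.pow_left hsq _).eq
  obtain ⟨⟨w, i, j⟩, e⟩ := d.mem_cent_iff.1 hgx
  obtain rfl : j = 0 := by
    by_contra hj
    have hj1 : j = 1 := by omega
    subst hj1
    -- an element outside `P` has even order
    have hpow : ∀ k : ℕ, ∃ t : Tri, d.of t = (g : G) ^ (2 * k + 1) ∧ t.2.2 = 1 := by
      intro k
      induction k with
      | zero => exact ⟨_, by rw [e, pow_one], rfl⟩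
      | succ k ih =>
        obtain ⟨t, ht, ht1⟩ := ih
        refine ⟨tmul (tmul t (w, i, 1)) (w, i, 1), ?_, ?_⟩
        · rw [d.of_mul, d.of_mul, ht, e, mul_assoc, ← pow_two, ← pow_add]
          congr 1
        · show t.2.2 + 1 + 1 = 1
          rw [ht1]; rfl
    obtain ⟨m, hm⟩ : ∃ m, 3 ^ n = 2 * m + 1 := (Odd.pow (by decide : Odd 3))
    obtain ⟨t, ht, ht1⟩ := hpow m
    rw [← hm, hn', ← d.el_zero, ← d.of_zero] at ht
    rw [d.of_injective ht] at ht1
    exact absurd ht1 (by decide)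
  rw [← e]
  exact d.of_mem_P w i

include d in
theorem card_le_of_isPGroup {R : Subgroup G} (hR : IsPGroup 3 R) : Nat.card R ≤ 81 := by
  haveI : Fact (Nat.Prime 3) := ⟨Nat.prime_three⟩
  obtain ⟨S, hS⟩ := d.exists_sylow
  obtain ⟨Q, hQ⟩ := hR.exists_le_sylow
  refine (Subgroup.card_le_of_le hQ).trans (le_of_eq ?_)
  rw [Sylow.card_eq_multiplicity Q, ← Sylow.card_eq_multiplicity S]
  show Nat.card (S : Subgroup G) = 81
  rw [hS, d.card_P]

include d in
theorem not_dvd_card : ¬ 3 ^ 5 ∣ Nat.card G := by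
  haveI : Fact (Nat.Prime 3) := ⟨Nat.prime_three⟩
  intro h
  obtain ⟨K, hK⟩ := Sylow.exists_subgroup_card_pow_prime 3 h
  have := d.card_le_of_isPGroup (IsPGroup.of_card hK)
  rw [hK] at this
  norm_num at this

theorem exists_conj_le {R : Subgroup G} (hR : IsPGroup 3 R) (h : d.J ≤ R) :
    ∃ k ∈ d.H, ∀ r ∈ R, k * r * k⁻¹ ∈ d.P := by
  haveI : Fact (Nat.Prime 3) := ⟨Nat.prime_three⟩
  obtain ⟨S, hS⟩ := d.exists_sylow
  obtain ⟨Q, hQ⟩ := hR.exists_le_sylow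
  obtain ⟨k, hk⟩ := MulAction.exists_smul_eq G Q S
  have hmem : ∀ r ∈ R, k * r * k⁻¹ ∈ d.P := fun r hr => by
    rw [← hS, ← hk, Sylow.coe_subgroup_smul]
    exact ⟨r, hQ hr, rfl⟩
  exact ⟨k, d.mem_H_of_P fun v => hmem _ (h ⟨v, rfl⟩), hmem⟩

theorem le_H_of_isPGroup {R : Subgroup G} (hR : IsPGroup 3 R) (h : d.J ≤ R) : R ≤ d.H := by
  obtain ⟨k, hk, hkR⟩ := d.exists_conj_le hR h
  intro r hr
  have := d.H.mul_mem (d.H.mul_mem (d.H.inv_mem hk) (d.P_le_H (hkR r hr))) hk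
  simpa [mul_assoc] using this

/-- An element mapping the base into a `3`-subgroup through it normalises it. -/
theorem mem_H_of_isPGroup {R : Subgroup G} (hR : IsPGroup 3 R) (h : d.J ≤ R) {g : G}
    (hg : ∀ v, g * d.el v * g⁻¹ ∈ R) : g ∈ d.H := by
  obtain ⟨k, hk, hkR⟩ := d.exists_conj_le hR h
  have hkg : k * g ∈ d.H := d.mem_H_of_P fun v => by
    simpa [mul_assoc] using hkR _ (hg v)
  simpa using d.H.mul_mem (d.H.inv_mem hk) hkg

/-- `H` controls the fusion in the base. -/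
theorem fusion {v w : Vec} {g : G} (hg : g * d.el v * g⁻¹ = d.el w) :
    ∃ y h, y * d.el w = d.el w * y ∧ h ∈ d.H ∧ g = y * h ∧ h * d.el v * h⁻¹ = d.el w := by
  haveI : Fact (Nat.Prime 3) := ⟨Nat.prime_three⟩
  set Y := Subgroup.centralizer ({d.el w} : Set G) with hY
  have h1 : d.J ≤ Y := fun j hj =>
    Subgroup.mem_centralizer_singleton_iff.2 (d.J_comm hj ⟨w, rfl⟩)
  set J' := d.J.map (MulAut.conj g).toMonoidHom with hJ'
  have h2 : J' ≤ Y := by
    rintro _ ⟨j, hj, rfl⟩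
    refine Subgroup.mem_centralizer_singleton_iff.2 ?_
    change g * j * g⁻¹ * d.el w = d.el w * (g * j * g⁻¹)
    rw [← hg]
    calc g * j * g⁻¹ * (g * d.el v * g⁻¹) = g * (j * d.el v) * g⁻¹ := by group
      _ = g * (d.el v * j) * g⁻¹ := by rw [d.J_comm hj ⟨v, rfl⟩]
      _ = _ := by group
  have hp1 : IsPGroup 3 (d.J.subgroupOf Y) :=
    d.isPGroup_J.of_equiv (Subgroup.subgroupOfEquivOfLe h1).symm
  have hp2 : IsPGroup 3 (J'.subgroupOf Y) :=
    (d.isPGroup_J.map _).of_equiv (Subgroup.subgroupOfEquivOfLe h2).symm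
  obtain ⟨R1, hR1⟩ := hp1.exists_le_sylow
  obtain ⟨R2, hR2⟩ := hp2.exists_le_sylow
  obtain ⟨e, he⟩ := MulAction.exists_smul_eq Y R2 R1
  have hez : (e : G) * g ∈ d.H := by
    refine d.mem_H_of_isPGroup (R := (R1 : Subgroup Y).map Y.subtype) (R1.2.map _)
      (fun j hj => ⟨⟨j, h1 hj⟩, hR1 hj, rfl⟩) fun u => ?_
    have hj' : g * d.el u * g⁻¹ ∈ J' := ⟨_, ⟨u, rfl⟩, rfl⟩
    refine ⟨e * ⟨g * d.el u * g⁻¹, h2 hj'⟩ * e⁻¹, ?_, ?_⟩
    · show e * ⟨g * d.el u * g⁻¹, h2 hj'⟩ * e⁻¹ ∈ (R1 : Subgroup Y)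
      rw [← he, Sylow.coe_subgroup_smul]
      exact ⟨_, hR2 hj', rfl⟩
    · simp [mul_assoc]
  have hew : (e : G) * d.el w = d.el w * e := Subgroup.mem_centralizer_singleton_iff.1 e.2
  refine ⟨(e : G)⁻¹, _, (Commute.inv_left hew).eq, hez, by rw [inv_mul_cancel_left], ?_⟩
  calc (e : G) * g * d.el v * ((e : G) * g)⁻¹ = e * (g * d.el v * g⁻¹) * (e : G)⁻¹ := by group
    _ = d.el w := by rw [hg, hew, mul_inv_cancel_right]

/-- A `3`-element of `H` outside the base is conjugate in `H` to one of the coset of `c` or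
`c⁻¹`. -/
theorem exists_outside {g : G} (hg : g ∈ d.H) {n : ℕ} (hn : g ^ 3 ^ n = 1) (hgJ : g ∉ d.J) :
    ∃ k ∈ d.H, ∃ v i, i ≠ 0 ∧ k * g * k⁻¹ = d.of (v, i, 0) := by
  haveI : Fact (Nat.Prime 3) := ⟨Nat.prime_three⟩
  have hp : IsPGroup 3 (Subgroup.zpowers g) := by
    obtain ⟨i, -, hi⟩ := (Nat.dvd_prime_pow Nat.prime_three).1 (orderOf_dvd_of_pow_eq_one hn)
    exact IsPGroup.of_card (n := i) (by rw [Nat.card_zpowers, hi])
  have hsup := hp.to_sup_of_normal_right' d.isPGroup_J (Subgroup.zpowers_le.2 hg)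
  obtain ⟨k, hk, hkR⟩ := d.exists_conj_le hsup le_sup_right
  obtain ⟨v, i, e⟩ := hkR g (Subgroup.mem_sup_left (Subgroup.mem_zpowers g))
  refine ⟨k, hk, v, i, ?_, e.symm⟩
  rintro rfl
  refine hgJ ?_
  have h : k * g * k⁻¹ ∈ d.J := ⟨v, by rw [← e, d.of_zero]⟩
  exact (Subgroup.mem_normalizer_iff.1 hk g).2 h

/-- The fixed points in the base of a `3`-element of `H` outside it. -/
theorem fix_outside {g : G} (hg : g ∈ d.H) {n : ℕ} (hn : g ^ 3 ^ n = 1) (hgJ : g ∉ d.J) :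
    ∃ k ∈ d.H, ∀ u, g * d.el u = d.el u * g →
      k * d.el u * k⁻¹ = 1 ∨ k * d.el u * k⁻¹ = d.x ∨ k * d.el u * k⁻¹ = d.x⁻¹ := by
  obtain ⟨k, hk, v, i, hi, e⟩ := d.exists_outside hg hn hgJ
  refine ⟨k, hk, fun u hu => ?_⟩
  obtain ⟨w, hw⟩ := d.mem_H.1 hk u
  rw [← hw]
  have hfix : tact i 0 w = w := d.el_inj (by
    have h := d.of_act (v, i, 0) w
    have hc : d.of (v, i, 0) * d.el w = d.el w * d.of (v, i, 0) := by
      rw [← e, hw]
      calc k * g * k⁻¹ * (k * d.el u * k⁻¹) = k * (g * d.el u) * k⁻¹ := by group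
        _ = k * (d.el u * g) * k⁻¹ := by rw [hu]
        _ = _ := by group
    rw [hc] at h
    exact (mul_right_cancel h).symm)
  rcases tri_local.2.1 i w hfix hi with rfl | rfl | rfl
  · exact Or.inl d.el_zero
  · exact Or.inr (Or.inl rfl)
  · right; right
    rw [show yVec = negVec xVec by decide, d.el_neg]
    rfl

end Setup

end CfsgLib.SymNineRecog
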