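import Cfsg.Agent.SymNineRecog.Data

/-!
# Machine checks on matrices
-/

set_option autoImplicit false

namespace CfsgLib.SymNineRecog

set_option maxRecDepth 100000

/-- The matrix of `c ^ i * s ^ j`. -/
def pmat (i : Fin 3) (j : Fin 2) : Mat :=
  .mk (tact i j eVec1) (tact i j eVec2) (tact i j eVec3)

/-- The six permutation matrices. -/
def pmats : List Mat := [pmat 0 0, pmat 1 0, pmat 2 0, pmat 0 1, pmat 1 1, pmat 2 1]

/-- A kernel or a small order. -/
def ordCheck (m : Mat) : Bool :=
  m.force fun m => if m.det.beq .z then !(Vec.all fun v => v.beq oVec || !(m.app v).beq oVec) else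
    (m.mul m).force fun m2 => (m2.mul m2).force fun m4 => (m4.mul m4).force fun m8 =>
      (m8.mul m8).force fun m16 => (m16.mul m16).force fun m32 =>
        ((m32.mul m32).mul m32).beq Mat.one || ((m16.mul m8).mul m2).beq Mat.one

/-- What is known of an element inverting `x`. -/
def minusCond (m : Mat) : Bool :=
  m.force fun m => (m.app xVec).beq yVec && !m.det.beq .z &&
    pmats.any (fun p => (m.mul m).beq p) &&
    pmats.any (fun p => (m.mul Mat.cyc).beq (p.mul m)) &&
    pmats.any (fun p => (m.mul Mat.swp).beq (p.mul m))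

/-- The check on elements inverting `x`. -/
def minusCheck (m : Mat) : Bool := !minusCond m || isPM m

theorem checks_all :
    (Vec.all fun A => Vec.all fun B => Vec.all fun C =>
      ordCheck (.mk A B C) && minusCheck (.mk A B C)) = true := by
  decide +kernel

theorem checks_eq (m : Mat) : ordCheck m = true ∧ minusCheck m = true := by
  rcases m with ⟨A, B, C⟩
  exact Bool.and_eq_true _ _ |>.mp
    (Vec.forall_of_all (Vec.forall_of_all (Vec.forall_of_all checks_all A) B) C)

theorem T3.beq_iff : ∀ a b : T3, a.beq b = true ↔ a = b := by decide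

theorem Vec.beq_iff : ∀ a b : Vec, a.beq b = true ↔ a = b := by decide +kernel

theorem Mat.beq_iff (m n : Mat) : m.beq n = true ↔ m = n := by
  rcases m with ⟨A, B, C⟩
  rcases n with ⟨A', B', C'⟩
  simp [Mat.beq, Vec.beq_iff, and_assoc]

theorem T3.force_eq {α : Type*} (a : T3) (f : T3 → α) : a.force f = f a := by cases a <;> rfl

theorem Vec.force_eq {α : Type*} (a : Vec) (f : Vec → α) : a.force f = f a := by
  cases a; simp [Vec.force, T3.force_eq]

theorem Mat.force_eq {α : Type*} (a : Mat) (f : Mat → α) : a.force f = f a := by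
  cases a; simp [Mat.force, Vec.force_eq]

theorem pmat_facts : (∀ i j, pmat i j ∈ pmats) ∧
    (∀ i j v, (pmat i j).app v = tact i j v) ∧
    (∀ p ∈ pmats, isPM p = true ∧ p.app xVec = xVec ∧ mono0 p = true ∧ mono1 p = true ∧
      mono2 p = true) ∧
    pmat 1 0 = Mat.cyc ∧ pmat 0 1 = Mat.swp ∧ pmat 0 0 = Mat.one := by decide +kernel

theorem mat_facts : (∀ v, Mat.one.app v = v) ∧
    (∀ a b c, Vec.mk a b c = ((Vec.smul a eVec1).add (Vec.smul b eVec2)).add (Vec.smul c eVec3)) ∧
    Mat.one.app xVec = xVec := by decide +kernel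

end CfsgLib.SymNineRecog
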