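import Mathlib.Data.Bool.AllAny
import Mathlib.Tactic.TypeStar

/-!
# The candidates for the automiser of `J`

Matrices over the field with three elements in columns, with a machine check: a matrix `m` all of
whose short words pass `ok` fixes the line of `(1, 1, 1)` or permutes one of three frames up to sign.
-/

set_option autoImplicit false

namespace CfsgLib.SymNineRecog

/-- The field with three elements. -/
inductive T3
  | z | o | t
  deriving DecidableEq

namespace T3

/-- Addition. -/
def add : T3 → T3 → T3
  | z, b => b
  | o, z => o
  | o, o => t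
  | o, t => z
  | t, z => t
  | t, o => z
  | t, t => o

/-- Negation. -/
def neg : T3 → T3
  | z => z
  | o => t
  | t => o

/-- Multiplication. -/
def mul : T3 → T3 → T3
  | z, _ => z
  | o, b => b
  | t, b => b.neg

/-- Equality as a Boolean. -/
def beq : T3 → T3 → Bool
  | z, z => true
  | o, o => true
  | t, t => true
  | _, _ => false

/-- Evaluate before going on. -/
def force {α : Type*} : T3 → (T3 → α) → α
  | z, f => f z
  | o, f => f o
  | t, f => f t

/-- The elements. -/
def all (p : T3 → Bool) : Bool := p z && p o && p t

end T3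

/-- Vectors. -/
inductive Vec
  | mk (a b c : T3)
  deriving DecidableEq

namespace Vec

/-- Addition. -/
def add : Vec → Vec → Vec
  | mk a b c, mk a' b' c' => mk (a.add a') (b.add b') (c.add c')

/-- Scalar multiples. -/
def smul : T3 → Vec → Vec
  | .z, _ => mk .z .z .z
  | .o, v => v
  | .t, mk a b c => mk a.neg b.neg c.neg

/-- Equality as a Boolean. -/
def beq : Vec → Vec → Bool
  | mk a b c, mk a' b' c' => a.beq a' && b.beq b' && c.beq c'

/-- Evaluate the entries before going on. -/
def force {α : Type*} : Vec → (Vec → α) → α
  | mk a b c, f => T3.force a fun a => T3.force b fun b => T3.force c fun c => f (mk a b c)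

/-- The vectors. -/
def all (p : Vec → Bool) : Bool := T3.all fun a => T3.all fun b => T3.all fun c => p (mk a b c)

end Vec

/-- Matrices, in columns. -/
inductive Mat
  | mk (a b c : Vec)
  deriving DecidableEq

namespace Mat

/-- Application. -/
def app : Mat → Vec → Vec
  | mk A B C, .mk a b c => ((Vec.smul a A).add (Vec.smul b B)).add (Vec.smul c C)

/-- Product. -/
def mul : Mat → Mat → Mat
  | m, mk A B C => mk (m.app A) (m.app B) (m.app C)

/-- Evaluate the entries before going on. -/
def force {α : Type*} : Mat → (Mat → α) → α
  | mk A B C, f => Vec.force A fun A => Vec.force B fun B => Vec.force C fun C => f (mk A B C)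

/-- Equality as a Boolean. -/
def beq : Mat → Mat → Bool
  | mk A B C, mk A' B' C' => A.beq A' && B.beq B' && C.beq C'

/-- The determinant. -/
def det : Mat → T3
  | mk (.mk a b c) (.mk d e f) (.mk g h i) =>
    ((a.mul ((e.mul i).add (f.mul h).neg)).add (d.mul ((b.mul i).add (c.mul h).neg)).neg).add
      (g.mul ((b.mul f).add (c.mul e).neg))

/-- The identity. -/
def one : Mat := mk (.mk .o .z .z) (.mk .z .o .z) (.mk .z .z .o)

/-- The cyclic permutation of the coordinates. -/
def cyc : Mat := mk (.mk .z .o .z) (.mk .z .z .o) (.mk .o .z .z)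

/-- The transposition of the first two coordinates. -/
def swp : Mat := mk (.mk .z .o .z) (.mk .o .z .z) (.mk .z .z .o)

/-- Minus the identity. -/
def negOne : Mat := mk (.mk .t .z .z) (.mk .z .t .z) (.mk .z .z .t)

end Mat

/-- The vector `(1, 1, 1)`. -/
def xVec : Vec := .mk .o .o .o

/-- The vector `(2, 2, 2)`. -/
def yVec : Vec := .mk .t .t .t

/-- Membership in the twelve signed permutations of the stabiliser of the line. -/
def isPM : Mat → Bool
  | .mk A B C =>
    let e := fun (v : Vec) (s : T3) =>
      v.beq (.mk s .z .z) || v.beq (.mk .z s .z) || v.beq (.mk .z .z s)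
    let d := !(A.beq B || A.beq C || B.beq C)
    d && ((e A .o && e B .o && e C .o) || (e A .t && e B .t && e C .t))

/-- Fixes the line of `(1, 1, 1)`. -/
def fixLine (m : Mat) : Bool := (m.app xVec).beq xVec || (m.app xVec).beq yVec

/-- One power passes. -/
def okPow (m : Mat) : Bool := !fixLine m || isPM m

/-- An element passes. -/
def ok (m : Mat) : Bool :=
  m.force fun m => okPow m && (m.mul m).force fun m2 =>
    okPow m2 && (okPow (m2.mul m) && (m2.mul m2).force fun m4 =>
      okPow m4 && (m4.mul m4).force fun m8 => (m8.mul m8).force fun m16 =>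
        (m16.mul m16).force fun m32 => ((m32.mul m32).mul m32).beq Mat.one)

/-- Preserves the frame `u`, `v`, `w` up to signs. -/
def monoAt (u v w : Vec) (m : Mat) : Bool :=
  let e := fun (a : Vec) =>
    a.beq u || a.beq v || a.beq w || a.beq (Vec.smul .t u) || a.beq (Vec.smul .t v) ||
      a.beq (Vec.smul .t w)
  e (m.app u) && e (m.app v) && e (m.app w)

/-- The first frame. -/
def mono0 : Mat → Bool := monoAt (.mk .o .z .z) (.mk .z .o .z) (.mk .z .z .o)

/-- The second frame. -/
def mono1 : Mat → Bool := monoAt (.mk .o .o .z) (.mk .z .o .o) (.mk .o .z .o)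

/-- The third frame. -/
def mono2 : Mat → Bool := monoAt (.mk .o .o .t) (.mk .t .o .o) (.mk .o .t .o)

/-- The six words pass. -/
def okWords (g : Mat) : Bool :=
  (g.mul Mat.swp).force fun gs => (gs.mul Mat.cyc).force fun gsc =>
    (gsc.mul Mat.cyc).force fun gscc => (g.mul Mat.cyc).force fun gc =>
      ok (gsc.mul gscc) && (ok (g.mul (gc.mul Mat.cyc)) && (ok gsc && (ok gscc &&
        (ok (g.mul gc) && ok gs))))

/-- The conclusion of the check. -/
def classified (m : Mat) : Bool :=
  m.det.beq .z || fixLine m || mono0 m || mono1 m || mono2 m || !okWords m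

theorem Vec.forall_of_all {p : Vec → Bool} (hp : Vec.all p = true) (v : Vec) : p v = true := by
  rcases v with ⟨a, b, c⟩
  simp only [Vec.all, T3.all, Bool.and_eq_true] at hp
  cases a <;> cases b <;> cases c <;> simp [hp]

theorem classified_all :
    (Vec.all fun A => Vec.all fun B => Vec.all fun C => classified (.mk A B C)) = true := by
  decide +kernel

/-- The check. -/
theorem classified_eq (m : Mat) : classified m = true := by
  rcases m with ⟨A, B, C⟩
  exact Vec.forall_of_all (Vec.forall_of_all (Vec.forall_of_all classified_all A) B) C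

end CfsgLib.SymNineRecog
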