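import Cfsg.Agent.SymNineRecog.TwoSub

/-!
# Separating classes of involutions and of elements of order three
-/

set_option autoImplicit false
set_option linter.style.haveILetI false
set_option linter.unusedSectionVars false

namespace CfsgLib.SymNineRecog

set_option maxRecDepth 100000

universe u

/-- Two opposite transvections generate an element inverting `x`. -/
theorem exists_invert {G : Type u} [Group G] {x u A B : G} (hxu : x * u = u * x)
    (h1 : A * x * A⁻¹ = x) (h2 : A * u * A⁻¹ = u * x)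
    (h3 : B * u * B⁻¹ = u) (h4 : B * x * B⁻¹ = x * u) : ∃ t : G, t * x * t⁻¹ = x⁻¹ := by
  have h5 : B⁻¹ * x * B = x * u⁻¹ := by
    have e : x = B⁻¹ * (x * u) * B := by rw [← h4]; group
    have e2 : B⁻¹ * u * B = u := by
      conv_lhs => rw [← h3]
      group
    calc B⁻¹ * x * B = B⁻¹ * (x * u) * B * (B⁻¹ * u * B)⁻¹ := by group
      _ = x * u⁻¹ := by rw [← e, e2]
  have h6 : B⁻¹ * u * B = u := by
    conv_lhs => rw [← h3]
    group
  have h7 : A * u⁻¹ * A⁻¹ = x⁻¹ * u⁻¹ := by rw [← conj_inv, h2, mul_inv_rev]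
  have hS1 : A * B⁻¹ * A * x * (A * B⁻¹ * A)⁻¹ = u⁻¹ :=
    calc A * B⁻¹ * A * x * (A * B⁻¹ * A)⁻¹ = A * (B⁻¹ * (A * x * A⁻¹) * B) * A⁻¹ := by group
      _ = A * (B⁻¹ * x * B) * A⁻¹ := by rw [h1]
      _ = (A * x * A⁻¹) * (A * u⁻¹ * A⁻¹) := by rw [h5]; group
      _ = u⁻¹ := by rw [h1, h7, mul_inv_cancel_left]
  have hS2 : A * B⁻¹ * A * u * (A * B⁻¹ * A)⁻¹ = x :=
    calc A * B⁻¹ * A * u * (A * B⁻¹ * A)⁻¹ = A * (B⁻¹ * (A * u * A⁻¹) * B) * A⁻¹ := by group
      _ = A * ((B⁻¹ * u * B) * (B⁻¹ * x * B)) * A⁻¹ := by rw [h2]; group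
      _ = A * (u * (x * u⁻¹)) * A⁻¹ := by rw [h5, h6]
      _ = A * x * A⁻¹ := by rw [← mul_assoc u, ← hxu, mul_inv_cancel_right]
      _ = x := h1
  refine ⟨A * B⁻¹ * A * (A * B⁻¹ * A), ?_⟩
  calc A * B⁻¹ * A * (A * B⁻¹ * A) * x * (A * B⁻¹ * A * (A * B⁻¹ * A))⁻¹
      = A * B⁻¹ * A * (A * B⁻¹ * A * x * (A * B⁻¹ * A)⁻¹) * (A * B⁻¹ * A)⁻¹ := by group
    _ = x⁻¹ := by rw [hS1, ← conj_inv, hS2]

/-- The vector moved to `x` by `1 - c`. -/
def shearVec : Vec := .mk .z .o .t

theorem shear_facts : shearVec.add (negVec (Mat.cyc.app shearVec)) = xVec ∧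
    (∀ v : Vec, ∀ i : Fin 3, i ≠ 0 →
      tmul (tmul (v, i, 0) (v, i, 0)) (v, i, 0) = (oVec, 0, 0) →
        ∃ a : Vec, a.add ((tact i 0 (negVec a))) = negVec v) := by decide +kernel

namespace Setup

variable {G : Type u} [Group G] [Finite G] (d : Setup G)

/-- An involution fixing a plane with centraliser in `H` is not conjugate to one fixing only a
line. -/
theorem not_conj_line {L : List Mat} (hA : d.AutList L) {t z : G} (ht : t ∈ d.H) (hz : z ∈ d.H)
    (hC : Subgroup.centralizer ({t} : Set G) ≤ d.H)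
    (h9 : (Finset.univ.filter fun u => (d.mat t).app u = u).card = 9)
    (h3 : (Finset.univ.filter fun u => (d.mat z).app u = u).card = 3)
    (hcent : ∀ u, u ≠ oVec → Subgroup.centralizer ({d.el u} : Set G) ≤ d.H)
    (hT : ∀ m ∈ L, m.mul (d.mat t) = (d.mat t).mul m → (m.mul m).mul m = Mat.one → m = Mat.one)
    (hZ : ∀ m ∈ L, m.mul (d.mat z) = (d.mat z).mul m → (m.mul m).mul m = Mat.one → m = Mat.one)
    (g : G) : g * t * g⁻¹ ≠ z := by
  classical
  intro hg
  have hstep : ∀ {a b : G}, a ∈ d.H → b ∈ d.H → a * a * a = 1 → a * b = b * a →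
      (∀ m ∈ L, m.mul (d.mat b) = (d.mat b).mul m → (m.mul m).mul m = Mat.one → m = Mat.one) →
      a ∈ d.J := by
    intro a b ha hb h h' hchk
    refine d.eq_of_mat_one ha (hchk _ (hA.1 a ha) ?_ ?_)
    · rw [← d.mat_mul ha hb, ← d.mat_mul hb ha, h']
    · rw [← d.mat_mul ha ha, ← d.mat_mul (mul_mem ha ha) ha, h, d.mat_one]
  obtain ⟨w, hw, hw0⟩ : ∃ w, (d.mat z).app w = w ∧ w ≠ oVec := by
    by_contra hno
    push Not at hno
    have h1 : (Finset.univ.filter fun u => (d.mat z).app u = u) ⊆ {oVec} := fun u hu =>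
      Finset.mem_singleton.2 (hno u (Finset.mem_filter.1 hu).2)
    have := Finset.card_le_card h1
    rw [h3, Finset.card_singleton] at this
    omega
  have hwz := (d.fixed_iff hz).1 hw
  -- the conjugate of `w` lies in the plane
  set u := g⁻¹ * d.el w * g with hu
  have hut : u * t = t * u := by
    calc u * t = g⁻¹ * (d.el w * (g * t * g⁻¹)) * g := by rw [hu]; group
      _ = g⁻¹ * ((g * t * g⁻¹) * d.el w) * g := by rw [hg, hwz]
      _ = t * u := by rw [hu]; group
  have huH : u ∈ d.H := hC (Subgroup.mem_centralizer_singleton_iff.2 hut)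
  have hu3 : u * u * u = 1 := by
    calc u * u * u = g⁻¹ * (d.el w * d.el w * d.el w) * g := by rw [hu]; group
      _ = 1 := by rw [d.el_cube, mul_one, inv_mul_cancel]
  have huJ := hstep huH ht hu3 hut hT
  -- so the plane is mapped to the fixed points of `z`
  have hmap : ∀ a, (d.mat t).app a = a → ∃ b, (d.mat z).app b = b ∧ d.el b = g * d.el a * g⁻¹ := by
    intro a ha
    have hat := (d.fixed_iff ht).1 ha
    have hcw : g * d.el a * g⁻¹ * d.el w = d.el w * (g * d.el a * g⁻¹) := by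
      calc g * d.el a * g⁻¹ * d.el w = g * (d.el a * u) * g⁻¹ := by rw [hu]; group
        _ = g * (u * d.el a) * g⁻¹ := by rw [d.J_comm (d.el_mem a) huJ]
        _ = _ := by rw [hu]; group
    have hH := hcent w hw0 (Subgroup.mem_centralizer_singleton_iff.2 hcw)
    have hcz : g * d.el a * g⁻¹ * z = z * (g * d.el a * g⁻¹) := by
      calc g * d.el a * g⁻¹ * z = g * (d.el a * t) * g⁻¹ := by rw [← hg]; group
        _ = g * (t * d.el a) * g⁻¹ := by rw [hat]
        _ = _ := by rw [← hg]; group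
    have h3' : g * d.el a * g⁻¹ * (g * d.el a * g⁻¹) * (g * d.el a * g⁻¹) = 1 := by
      calc _ = g * (d.el a * d.el a * d.el a) * g⁻¹ := by group
        _ = 1 := by rw [d.el_cube, mul_one, mul_inv_cancel]
    obtain ⟨b, hb⟩ := hstep hH hz h3' hcz hZ
    exact ⟨b, (d.fixed_iff hz).2 (by rw [hb, hcz]), hb⟩
  choose f hf using hmap
  have hle : (Finset.univ.filter fun u => (d.mat t).app u = u).card ≤
      (Finset.univ.filter fun u => (d.mat z).app u = u).card := by
    refine Finset.card_le_card_of_injOn (fun a => if h : (d.mat t).app a = a then f a h else a)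
      (fun a ha => ?_) (fun a ha b hb e => ?_)
    · have h := (Finset.mem_filter.1 ha).2
      simp only [dif_pos h]
      exact Finset.mem_filter.2 ⟨Finset.mem_univ _, (hf a h).1⟩
    · have h := (Finset.mem_filter.1 ha).2
      have h' := (Finset.mem_filter.1 hb).2
      simp only [dif_pos h, dif_pos h'] at e
      have e' := congrArg d.el e
      rw [(hf a h).2, (hf b h').2] at e'
      exact d.el_inj (mul_left_cancel (mul_right_cancel e'))
  omega

/-- `c` is not conjugate to `x` when `x` is not conjugate to its inverse and no translate of `x`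
by two vectors of its class stays in it. -/
theorem c_not_conj_x {L : List Mat} (hA : d.AutList L) (hinv : ∀ m ∈ L, m.app xVec ≠ yVec)
    (horb : ∀ m ∈ L, ∀ a ∈ L, ∀ b ∈ L,
      ¬ (a.app xVec = xVec.add (m.app xVec) ∧ b.app xVec = xVec.add (negVec (m.app xVec))))
    (g : G) : g * d.c * g⁻¹ ≠ d.x ∧ g * d.c * g⁻¹ ≠ d.x⁻¹ := by
  have hxinv : ∀ t : G, t * d.x * t⁻¹ ≠ d.x⁻¹ := by
    intro t ht
    rw [show d.x⁻¹ = d.el yVec by rw [show yVec = negVec xVec by decide, d.el_neg]; rfl] at ht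
    obtain ⟨y, h, -, hh, -, e⟩ := d.fusion ht
    exact hinv _ (hA.1 h hh) (by rw [d.mat_app hh]; exact d.act_eq hh e)
  suffices key : ∀ g : G, g * d.c * g⁻¹ ≠ d.x by
    refine ⟨key g, fun h => key (g * d.s) ?_⟩
    have hs : d.s * d.c * d.s⁻¹ = d.c⁻¹ := by
      rw [d.s_c, mul_inv_cancel_right]
      exact eq_inv_of_mul_eq_one_left d.c_cube
    calc g * d.s * d.c * (g * d.s)⁻¹ = g * (d.s * d.c * d.s⁻¹) * g⁻¹ := by group
      _ = d.x := by rw [hs, ← conj_inv, h, inv_inv]
  intro g hg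
  set e := d.el shearVec with he
  have hex : e * d.x * e⁻¹ = d.x := by rw [he, Frame.x, d.el_comm, mul_inv_cancel_right]
  have hec : e * d.c * e⁻¹ = d.x * d.c := by
    calc e * d.c * e⁻¹ = e * (d.c * d.el (negVec shearVec)) := by rw [he, d.el_neg]; group
      _ = _ := by
        rw [d.conj_c, ← mul_assoc, he, ← d.el_add]
        refine congrArg (fun t => d.el t * d.c) ?_
        decide
  set u := g * d.x * g⁻¹ with hu
  have hux : u * d.x = d.x * u := by
    rw [← hg, hu]
    calc g * d.x * g⁻¹ * (g * d.c * g⁻¹) = g * (d.x * d.c) * g⁻¹ := by group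
      _ = g * (d.c * d.x) * g⁻¹ := by rw [d.P_comm_x d.c_mem_P]
      _ = _ := by group
  have hu3 : u * u * u = 1 := by
    calc u * u * u = g * (d.x * d.x * d.x) * g⁻¹ := by rw [hu]; group
      _ = 1 := by rw [Frame.x, d.el_cube, mul_one, mul_inv_cancel]
  obtain ⟨⟨v, i, j⟩, huv⟩ := d.mem_cent_iff.1 hux
  have hcube : tmul (tmul (v, i, j) (v, i, j)) (v, i, j) = (oVec, 0, 0) := d.of_injective (by
    rw [d.of_mul, d.of_mul, huv, hu3, d.of_zero, d.el_zero])
  obtain rfl : j = 0 := tri_facts.1 (v, i, j) hcube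
  set e' := g * e * g⁻¹ with he'
  have he'u : e' * u * e'⁻¹ = u := by
    calc e' * u * e'⁻¹ = g * (e * d.x * e⁻¹) * g⁻¹ := by rw [he', hu]; group
      _ = u := by rw [hex]
  have he'x : e' * d.x * e'⁻¹ = u * d.x := by
    calc e' * d.x * e'⁻¹ = g * (e * d.c * e⁻¹) * g⁻¹ := by rw [he', ← hg]; group
      _ = (g * d.x * g⁻¹) * (g * d.c * g⁻¹) := by rw [hec]; group
      _ = u * d.x := by rw [← hu, hg]
  by_cases hi : i = 0
  · subst hi
    rw [d.of_zero] at huv
    have hgH : ∀ h ∈ d.H, h * d.c * h⁻¹ ≠ d.x := by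
      intro h hh e2
      obtain ⟨w, hw⟩ := d.mem_H.1 (inv_mem hh) xVec
      have hcw : d.el w = d.c := by
        rw [hw, inv_inv]
        show h⁻¹ * d.x * h = d.c
        rw [← e2]; group
      have h1 := congrArg d.mat hcw
      rw [← d.of_zero w, d.mat_of, d.mat_c] at h1
      dsimp only at h1
      rw [pmat_facts.2.2.2.2.2] at h1
      exact absurd h1 (by decide)
    by_cases hvx : v = oVec ∨ v = xVec ∨ v = yVec
    · rcases hvx with rfl | rfl | rfl
      · rw [d.el_zero, hu] at huv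
        exact d.x_ne (conj_eq_one_iff.1 huv.symm)
      · refine hgH g (d.cent_le_H ?_) hg
        exact mul_inv_eq_iff_eq_mul.1 huv.symm
      · rw [show yVec = negVec xVec by decide, d.el_neg] at huv
        exact hxinv g huv.symm
    push Not at hvx
    set E := Subgroup.zpowers d.x ⊔ Subgroup.zpowers u with hE
    have huJ : u ∈ d.J := ⟨v, huv⟩
    have hEJ : E ≤ d.J := sup_le (Subgroup.zpowers_le.2 (d.el_mem xVec))
      (Subgroup.zpowers_le.2 huJ)
    haveI : Fact (Nat.Prime 3) := ⟨Nat.prime_three⟩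
    have hx3 : orderOf d.x = 3 :=
      orderOf_eq_prime (by simpa [pow_succ, Frame.x] using d.el_cube xVec) d.x_ne
    have hnu : u ∉ Subgroup.zpowers d.x := fun h => by
      rw [Frame.x, ← huv, d.el_mem_line, lineKer] at h
      simp only [Bool.or_eq_true, Vec.beq_iff] at h
      rcases h with (h | h) | h
      · exact hvx.1 h
      · exact hvx.2.1 h
      · exact hvx.2.2 (h.trans (by decide))
    have h9 : Nat.card E = 9 := by
      obtain ⟨k, hk, he2⟩ := (Nat.dvd_prime_pow Nat.prime_three).1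
        (show Nat.card E ∣ 3 ^ 3 by
          have h := Subgroup.card_dvd_of_le hEJ
          rwa [d.card_J] at h)
      have hl := Subgroup.card_le_of_le (le_sup_left : Subgroup.zpowers d.x ≤ E)
      rw [Nat.card_zpowers, hx3, he2] at hl
      have hn : Subgroup.zpowers u ≤ Subgroup.normalizer (Subgroup.zpowers d.x : Set G) := by
        rw [Subgroup.zpowers_le]
        refine Subgroup.centralizer_le_normalizer _ (Subgroup.mem_centralizer_iff.2 fun z hz => ?_)
        exact d.J_comm (Subgroup.zpowers_le.2 (d.el_mem xVec) hz) huJ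
      have hc9 : Nat.card E ≤ 9 := by
        show Nat.card (E : Set G) ≤ 9
        rw [hE, Subgroup.coe_mul_of_right_le_normalizer_left _ _ hn]
        refine Set.natCard_mul_le.trans ?_
        show Nat.card (Subgroup.zpowers d.x) * Nat.card (Subgroup.zpowers u) ≤ 9
        rw [Nat.card_zpowers, Nat.card_zpowers, hx3]
        have := orderOf_le_of_pow_eq_one (n := 3) (by norm_num)
          (show u ^ 3 = 1 by simpa [pow_succ] using hu3)
        omega
      rw [he2] at hc9 ⊢
      interval_cases k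
      · norm_num at hl
      · exfalso
        refine hnu ?_
        rw [Subgroup.eq_of_le_of_card_ge (le_sup_left : Subgroup.zpowers d.x ≤ E)
          (by rw [he2, Nat.card_zpowers, hx3]; norm_num)]
        exact Subgroup.mem_sup_right (Subgroup.mem_zpowers _)
      · norm_num
      · norm_num at hc9
    have he'H : e' ∈ d.H := by
      have hle : E ≤ E.comap (MulAut.conj e').toMonoidHom := by
        refine sup_le (Subgroup.zpowers_le.2 ?_) (Subgroup.zpowers_le.2 ?_)
        · show e' * d.x * e'⁻¹ ∈ E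
          rw [he'x]
          exact mul_mem (Subgroup.mem_sup_right (Subgroup.mem_zpowers _))
            (Subgroup.mem_sup_left (Subgroup.mem_zpowers _))
        · show e' * u * e'⁻¹ ∈ E
          rw [he'u]
          exact Subgroup.mem_sup_right (Subgroup.mem_zpowers _)
      exact d.norm_plane hEJ h9 fun y hy => hle hy
    obtain ⟨y, hy, -, hyH, -, hyv⟩ := d.fusion (show g * d.el xVec * g⁻¹ = d.el v from huv.symm)
    have h1 : (d.mat e').app xVec = xVec.add v := by
      rw [d.mat_app he'H]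
      refine d.act_eq he'H ?_
      show e' * d.x * e'⁻¹ = _
      rw [he'x, hux, ← huv, d.el_add]
      rfl
    have h2 : (d.mat e'⁻¹).app xVec = xVec.add (negVec v) := by
      rw [d.mat_app (inv_mem he'H)]
      refine d.act_eq (inv_mem he'H) ?_
      show e'⁻¹ * d.x * e'⁻¹⁻¹ = _
      rw [d.el_add, d.el_neg, huv, inv_inv]
      have e3 : e'⁻¹ * u * e' = u := by
        conv_lhs => rw [← he'u]
        group
      have e4 : e'⁻¹ * d.x * e' = (e'⁻¹ * u * e')⁻¹ * (e'⁻¹ * (u * d.x) * e') := by group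
      rw [e4, e3, ← he'x]
      show u⁻¹ * (e'⁻¹ * (e' * d.x * e'⁻¹) * e') = d.x * u⁻¹
      have hxu' : Commute d.x u⁻¹ := Commute.inv_right (hux.symm : Commute d.x u)
      rw [hxu'.eq]
      group
    have hmv : (d.mat hy).app xVec = v := by
      rw [d.mat_app hyH]; exact d.act_eq hyH hyv
    refine horb _ (hA.1 hy hyH) _ (hA.1 _ he'H) _ (hA.1 _ (inv_mem he'H)) ?_
    rw [hmv]
    exact ⟨h1, h2⟩
  · obtain ⟨a, ha⟩ := shear_facts.2 v i hi hcube
    have hu' : d.el a * u * (d.el a)⁻¹ = d.c ^ (i : ℕ) := by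
      rw [← huv, ← d.el_neg, ← d.of_zero a, ← d.of_zero (negVec a), ← d.of_mul, ← d.of_mul]
      have key : tmul (tmul (a, 0, 0) (v, i, 0)) (negVec a, 0, 0) = (oVec, i, 0) := by
        have k : ∀ a v : Vec, ∀ i : Fin 3, a.add ((tact i 0 (negVec a))) = negVec v →
            tmul (tmul (a, 0, 0) (v, i, 0)) (negVec a, 0, 0) = (oVec, i, 0) := by decide +kernel
        exact k a v i ha
      rw [key]
      simp [Frame.of, d.el_zero]
    set g' := d.el a * g with hg'
    have hg'c : g' * d.c * g'⁻¹ = d.x := by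
      calc g' * d.c * g'⁻¹ = d.el a * (g * d.c * g⁻¹) * (d.el a)⁻¹ := by rw [hg']; group
        _ = d.x := by rw [hg, Frame.x, d.el_comm, mul_inv_cancel_right]
    have hg'x : g' * d.x * g'⁻¹ = d.c ^ (i : ℕ) := by
      rw [← hu', hu, hg']; group
    have hxc : Commute d.x d.c := (d.P_comm_x d.c_mem_P).symm
    have hxu' : d.x * d.c ^ (i : ℕ) = d.c ^ (i : ℕ) * d.x := (hxc.pow_right _).eq
    obtain ⟨A, hA1, hA2⟩ : ∃ A : G, A * d.x * A⁻¹ = d.x ∧
        A * d.c ^ (i : ℕ) * A⁻¹ = d.c ^ (i : ℕ) * d.x := by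
      rcases (show (i : ℕ) = 1 ∨ (i : ℕ) = 2 by omega) with e1 | e1 <;> rw [e1]
      · exact ⟨e, hex, by rw [pow_one, hec]; exact hxc.eq⟩
      · refine ⟨e * e, ?_, ?_⟩
        · calc e * e * d.x * (e * e)⁻¹ = e * (e * d.x * e⁻¹) * e⁻¹ := by group
            _ = d.x := by rw [hex, hex]
        · have h2 : e * e * d.c * (e * e)⁻¹ = d.x * d.x * d.c := by
            calc e * e * d.c * (e * e)⁻¹ = e * (e * d.c * e⁻¹) * e⁻¹ := by group
              _ = e * (d.x * d.c) * e⁻¹ := by rw [hec]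
              _ = (e * d.x * e⁻¹) * (e * d.c * e⁻¹) := by group
              _ = _ := by rw [hex, hec, mul_assoc]
          rw [← conj_pow, h2, Commute.mul_pow (hxc.mul_left hxc), pow_two, pow_two,
            show d.x * d.x * (d.x * d.x) = d.x * d.x * d.x * d.x by group]
          rw [show d.x * d.x * d.x = 1 from d.el_cube xVec, one_mul]
          exact ((hxc.mul_right hxc).eq)
    obtain ⟨t, ht⟩ := exists_invert (A := A) (B := g' * e * g'⁻¹) hxu' hA1 hA2 (by
      rw [← hg'x]
      calc g' * e * g'⁻¹ * (g' * d.x * g'⁻¹) * (g' * e * g'⁻¹)⁻¹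
          = g' * (e * d.x * e⁻¹) * g'⁻¹ := by group
        _ = _ := by rw [hex]) (by
      have h : g' * e * g'⁻¹ * (g' * d.c * g'⁻¹) * (g' * e * g'⁻¹)⁻¹ =
          g' * d.x * g'⁻¹ * (g' * d.c * g'⁻¹) := by
        calc _ = g' * (e * d.c * e⁻¹) * g'⁻¹ := by group
          _ = g' * (d.x * d.c) * g'⁻¹ := by rw [hec]
          _ = _ := by group
      rw [hg'c, hg'x] at h
      rw [hxu']
      exact h)
    exact hxinv t ht

end Setup

end CfsgLib.SymNineRecog
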