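import Cfsg.Agent.SymNineRecog.Local
import Cfsg.Agent.SymNineRecog.Self3
import Cfsg.Agent.SymNineRecog.Generic

/-!
# The centralisers and normalisers of the planes of the base lie in `H`
-/

set_option autoImplicit false
set_option linter.style.haveILetI false
set_option linter.unusedSectionVars false

namespace CfsgLib.SymNineRecog

universe u

namespace Setup

variable {G : Type u} [Group G] [Finite G] (d : Setup G)

/-- A signaliser of the base is trivial, in membership form. -/
theorem sig_bot {K : Subgroup G} (h3 : ¬ 3 ∣ Nat.card K)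
    (hK : ∀ j ∈ d.J, ∀ k ∈ K, j * k * j⁻¹ ∈ K) : K = ⊥ :=
  d.sig K h3 fun v => hK _ (d.el_mem v)

/-- The centraliser of a plane. -/
theorem cent_plane {E : Subgroup G} (hEJ : E ≤ d.J) (h9 : Nat.card E = 9) :
    Subgroup.centralizer (E : Set G) ≤ d.H := by
  haveI : Fact (Nat.Prime 3) := ⟨Nat.prime_three⟩
  set C := Subgroup.centralizer (E : Set G) with hC
  have hcE : ∀ g ∈ C, ∀ e ∈ E, e * g = g * e := fun g hg e he =>
    Subgroup.mem_centralizer_iff.1 hg e he
  have hJC : d.J ≤ C := fun j hj =>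
    Subgroup.mem_centralizer_iff.2 fun e he => d.J_comm (hEJ he) hj
  have hEC : E ≤ C := hEJ.trans hJC
  haveI : (E.subgroupOf C).Normal := ⟨fun e he g => by
    show ((g : C) : G) * e * ((g : C) : G)⁻¹ ∈ E
    rw [← hcE g g.2 e he, mul_inv_cancel_right]
    exact he⟩
  set π := QuotientGroup.mk' (E.subgroupOf C)
  have hπ : Function.Surjective π := QuotientGroup.mk'_surjective _
  have hker : ∀ a b : C, π a = π b ↔ (a : G)⁻¹ * b ∈ E := fun a b => by
    rw [QuotientGroup.mk'_apply, QuotientGroup.mk'_apply, QuotientGroup.eq]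
    rfl
  obtain ⟨j, hj, hjE⟩ : ∃ j ∈ d.J, j ∉ E := by
    by_contra hno
    push Not at hno
    have := Subgroup.card_le_of_le (show d.J ≤ E from hno)
    rw [d.card_J, h9] at this
    omega
  set u := π ⟨j, hJC hj⟩ with hu
  have hu1 : u ≠ 1 := fun e => hjE <| by
    have := (hker 1 ⟨j, hJC hj⟩).1 (by rw [map_one]; exact e.symm)
    simpa using this
  have hord : orderOf u = 3 := orderOf_eq_prime (by
    rw [hu, ← map_pow, ← map_one π]
    exact congrArg π (Subtype.ext (by simpa [pow_succ] using d.J_cube hj))) hu1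
  -- the image of the base
  have hJimg : ∀ g (hg : g ∈ d.J), π ⟨g, hJC hg⟩ ∈ Subgroup.zpowers u := by
    have hle : Subgroup.zpowers u ≤ (d.J.subgroupOf C).map π :=
      Subgroup.zpowers_le.2 ⟨⟨j, hJC hj⟩, hj, rfl⟩
    have hcard : Nat.card ((d.J.subgroupOf C).map π) ≤ Nat.card (Subgroup.zpowers u) := by
      rw [Nat.card_zpowers, hord]
      have h2 : Nat.card ((d.J.subgroupOf C).map π) * 9 = 27 := by
        have h1 := Subgroup.card_mul_index (π.comp (d.J.subgroupOf C).subtype).ker
        rw [Subgroup.index_ker, MonoidHom.range_comp, Subgroup.range_subtype,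
          Nat.card_congr (Subgroup.subgroupOfEquivOfLe hJC).toEquiv, d.card_J] at h1
        have h3 : Nat.card (π.comp (d.J.subgroupOf C).subtype).ker = 9 := by
          rw [← h9]
          refine Nat.card_congr ⟨fun a => ⟨((a : d.J.subgroupOf C) : C), ?_⟩,
            fun e => ⟨⟨⟨e, hEC e.2⟩, hEJ e.2⟩, ?_⟩, fun a => rfl, fun e => rfl⟩
          · exact (QuotientGroup.eq_one_iff ((a : d.J.subgroupOf C) : C)).1 a.2
          · exact (QuotientGroup.eq_one_iff (⟨e, hEC e.2⟩ : C)).2 e.2
        rw [h3] at h1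
        rw [mul_comm]
        exact h1
      omega
    intro g hg
    rw [Subgroup.eq_of_le_of_card_ge hle hcard]
    exact ⟨⟨g, hJC hg⟩, hg, rfl⟩
  have hback : ∀ g : C, (∀ y, π g * u * (π g)⁻¹ = y → y ∈ Subgroup.zpowers u) →
      (g : G) ∈ d.H := by
    intro g hg
    have h := hg _ rfl
    obtain ⟨n, hn⟩ := Subgroup.mem_zpowers_iff.1 h
    rw [hu, ← map_zpow, ← map_inv, ← map_mul, ← map_mul, hker] at hn
    have hgj : (g : G) * j * (g : G)⁻¹ ∈ d.J := by
      have := mul_mem (zpow_mem hj n) (hEJ hn)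
      simpa using this
    have hsup : d.J ≤ E ⊔ Subgroup.zpowers j := by
      refine le_of_eq (Subgroup.eq_of_le_of_card_ge (sup_le hEJ (Subgroup.zpowers_le.2 hj)) ?_).symm
      rw [d.card_J]
      by_contra hlt
      have hlt' := not_le.1 hlt
      have h27 := Subgroup.card_dvd_of_le (sup_le hEJ (Subgroup.zpowers_le.2 hj))
      rw [d.card_J, show (27 : ℕ) = 3 ^ 3 from rfl] at h27
      obtain ⟨k, hk, he⟩ := (Nat.dvd_prime_pow Nat.prime_three).1 h27
      rw [he] at hlt'
      have h9' := Subgroup.card_le_of_le (le_sup_left : E ≤ E ⊔ Subgroup.zpowers j)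
      rw [h9, he] at h9'
      have hk2 : k = 2 := by interval_cases k <;> simp_all
      refine hjE ?_
      rw [Subgroup.eq_of_le_of_card_ge (le_sup_left : E ≤ E ⊔ Subgroup.zpowers j)
        (by rw [he, hk2, h9]; norm_num)]
      exact Subgroup.mem_sup_right (Subgroup.mem_zpowers j)
    refine d.mem_H.2 fun v => ?_
    have hle : E ⊔ Subgroup.zpowers j ≤ d.J.comap (MulAut.conj (g : G)).toMonoidHom := by
      refine sup_le (fun e he => ?_) (Subgroup.zpowers_le.2 hgj)
      show (g : G) * e * (g : G)⁻¹ ∈ d.J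
      rw [← hcE g g.2 e he, mul_inv_cancel_right]
      exact hEJ he
    exact hle (hsup (d.el_mem v))
  have hself : ∀ y, y * u = u * y → y ∈ Subgroup.zpowers u := by
    intro y hy
    obtain ⟨g, rfl⟩ := hπ y
    have hgH : (g : G) ∈ d.H := hback g fun y e => by
      rw [← e, hy, mul_inv_cancel_right]
      exact Subgroup.mem_zpowers u
    have hcomm : ∀ v, (g : G) * d.el v * (g : G)⁻¹ * (d.el v)⁻¹ ∈ E := by
      intro v
      have h1 : π (g * ⟨d.el v, hJC (d.el_mem v)⟩ * g⁻¹) = π ⟨d.el v, hJC (d.el_mem v)⟩ := by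
        obtain ⟨n, hn⟩ := Subgroup.mem_zpowers_iff.1 (hJimg _ (d.el_mem v))
        rw [map_mul, map_mul, map_inv, ← hn, ← conj_zpow, hy, mul_inv_cancel_right]
      have h2 := (hker _ _).1 h1.symm
      have h3 : (d.el v)⁻¹ * ((g : G) * d.el v * (g : G)⁻¹) =
          (g : G) * d.el v * (g : G)⁻¹ * (d.el v)⁻¹ :=
        (d.J_comm (inv_mem (d.el_mem v)) (d.mem_H.1 hgH v))
      rw [← h3]
      exact h2
    -- `g³` centralises the base
    have h3J : (g : G) ^ 3 ∈ d.J := by
      refine d.centJ fun v => mul_inv_eq_iff_eq_mul.1 ?_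
      obtain ⟨e, he, hge⟩ : ∃ e ∈ E, (g : G) * d.el v * (g : G)⁻¹ = e * d.el v :=
        ⟨_, hcomm v, by rw [inv_mul_cancel_right]⟩
      have hfixe : ∀ a, (g : G) * (e * a) * (g : G)⁻¹ = e * ((g : G) * a * (g : G)⁻¹) := fun a => by
        rw [show (g : G) * (e * a) = (g : G) * e * a by group, ← hcE g g.2 e he]
        group
      calc (g : G) ^ 3 * d.el v * ((g : G) ^ 3)⁻¹
          = g * (g * ((g : G) * d.el v * (g : G)⁻¹) * (g : G)⁻¹) * (g : G)⁻¹ := by
            simp [pow_succ, mul_assoc]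
        _ = e * (e * (e * d.el v)) := by rw [hge, hfixe, hge, hfixe, hfixe, hge]
        _ = d.el v := by
          rw [← mul_assoc, ← mul_assoc, d.J_cube (hEJ he), one_mul]
    have h9g : (g : G) ^ 3 ^ 2 = 1 := by
      have := d.J_cube h3J
      rw [← this, show (3 : ℕ) ^ 2 = 3 + 3 + 3 from rfl, pow_add, pow_add]
    by_contra hgu
    have hgJ : (g : G) ∉ d.J := fun h => hgu (hJimg _ h)
    obtain ⟨k, -, hk⟩ := d.fix_outside hgH h9g hgJ
    have hsub : E.map (MulAut.conj k).toMonoidHom ≤ Subgroup.zpowers d.x := by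
      rintro _ ⟨e, he, rfl⟩
      obtain ⟨w, rfl⟩ := (hEJ he : e ∈ d.J)
      rcases hk w (hcE g g.2 _ he).symm with e | e | e
      · exact (show MulAut.conj k (d.el w) = 1 from e) ▸ one_mem _
      · exact (show MulAut.conj k (d.el w) = d.x from e) ▸ Subgroup.mem_zpowers _
      · exact (show MulAut.conj k (d.el w) = d.x⁻¹ from e) ▸ inv_mem (Subgroup.mem_zpowers _)
    have hle := Subgroup.card_le_of_le hsub
    rw [Subgroup.card_map_of_injective (MulAut.conj k).injective, h9, Nat.card_zpowers] at hle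
    have h3 := orderOf_le_of_pow_eq_one (n := 3) (by norm_num)
      (show d.x ^ 3 = 1 by simpa [pow_succ, Frame.x] using d.el_cube xVec)
    omega
  have key := self_three (M := (⊤ : Subgroup (C ⧸ E.subgroupOf C)))
    (R := Subgroup.zpowers u) (IsPGroup.of_card (n := 1) (by rw [Nat.card_zpowers, hord, pow_one]))
    (fun r _ m _ => Subgroup.mem_top _) (Subgroup.mem_top u) hord (fun g _ => hself g) (by
    intro K _ h3 hK
    set L := (K.comap π).map C.subtype with hL
    have hLC : L ≤ C := Subgroup.map_subtype_le _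
    have hEL : E ≤ L := fun e he => ⟨⟨e, hEC he⟩, by
      show π ⟨e, hEC he⟩ ∈ K
      rw [show π ⟨e, hEC he⟩ = 1 from (QuotientGroup.eq_one_iff _).2 he]
      exact one_mem K, rfl⟩
    have hidx : E.relIndex L = Nat.card K := by
      have h1 := Subgroup.relIndex_mul_relIndex (⊥ : Subgroup G) E L bot_le hEL
      rw [Subgroup.relIndex_bot_left, Subgroup.relIndex_bot_left, hL,
        Subgroup.card_map_of_injective C.subtype_injective, h9] at h1
      have h2 : Nat.card (K.comap π) = 9 * Nat.card K := by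
        have h4 := Subgroup.card_mul_index (K.comap π)
        rw [Subgroup.index_comap_of_surjective _ hπ] at h4
        have h5 := Subgroup.card_mul_index K
        have h6 := Subgroup.card_eq_card_quotient_mul_card_subgroup (E.subgroupOf C)
        rw [Nat.card_congr (Subgroup.subgroupOfEquivOfLe hEC).toEquiv, h9] at h6
        have hpos : 0 < K.index := Nat.pos_of_ne_zero Subgroup.index_ne_zero_of_finite
        refine Nat.eq_of_mul_eq_mul_right hpos ?_
        rw [h4, mul_assoc, h5, h6, mul_comm]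
      rw [h2] at h1
      exact Nat.eq_of_mul_eq_mul_left (by norm_num) h1
    obtain ⟨K', hK'L, hK'3, hsup, hinv⟩ := exists_central_complement hEL
      (d.isPGroup_J.to_le hEJ) (by rwa [hidx]) (fun e he l hl => hcE l (hLC hl) e he)
    have hK'bot : K' = ⊥ := d.sig_bot hK'3 fun a ha => hinv a (by
      rintro _ ⟨y, hy, rfl⟩
      refine ⟨⟨a, hJC ha⟩ * y * ⟨a, hJC ha⟩⁻¹, ?_, rfl⟩
      show π _ ∈ K
      rw [map_mul, map_mul, map_inv]
      exact hK _ (hJimg a ha) _ hy)
    rw [hK'bot, sup_bot_eq] at hsup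
    refine eq_bot_iff.2 fun y hy => Subgroup.mem_bot.2 ?_
    obtain ⟨g, rfl⟩ := hπ y
    exact (QuotientGroup.eq_one_iff g).2 (hsup ⟨g, hy, rfl⟩))
  intro g hg
  exact hback ⟨g, hg⟩ fun y e => e ▸ key _ (Subgroup.mem_top _)

/-- The normaliser of a plane. -/
theorem norm_plane {E : Subgroup G} (hEJ : E ≤ d.J) (h9 : Nat.card E = 9) {g : G}
    (hg : ∀ e ∈ E, g * e * g⁻¹ ∈ E) : g ∈ d.H := by
  haveI : Fact (Nat.Prime 3) := ⟨Nat.prime_three⟩
  have heq : E.map (MulAut.conj g).toMonoidHom = E :=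
    Subgroup.eq_of_le_of_card_ge (by rintro _ ⟨e, he, rfl⟩; exact hg e he)
      (Subgroup.card_map_of_injective (MulAut.conj g).injective).ge
  set J' := d.J.map (MulAut.conj g).toMonoidHom
  have hJ'H : J' ≤ d.H := by
    rintro _ ⟨j, hj, rfl⟩
    refine d.cent_plane hEJ h9 (Subgroup.mem_centralizer_iff.2 fun e he => ?_)
    rw [← heq] at he
    obtain ⟨e', he', rfl⟩ := he
    rw [← map_mul, ← map_mul, d.J_comm (hEJ he') hj]
  have hp := (d.isPGroup_J.map (MulAut.conj g).toMonoidHom).to_sup_of_normal_right' d.isPGroup_J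
    hJ'H
  exact d.mem_H_of_isPGroup hp le_sup_right fun v =>
    Subgroup.mem_sup_left ⟨_, d.el_mem v, rfl⟩

end Setup

end CfsgLib.SymNineRecog
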