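import Cfsg.Agent.SymNineRecog.Cases
import Cfsg.Agent.SymNineRecog.FactsE
import Cfsg.Agent.SymNineRecog.IndexTwo

/-!
# `Sym 3 ≀ Sym 3` as the normaliser of the base

When all signed permutations occur, `H` is the wreath product, and a sign of `G` that is odd on a flip
and on the transposition of lines gives the subgroup of index two of the recognition of `Alt 9`.
-/

set_option autoImplicit false
set_option linter.style.haveILetI false
set_option linter.unusedSectionVars false

namespace CfsgLib.SymNineRecog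

open CfsgLib.AltNineThree (W B parHom tr get)
open CfsgLib.TISylowThree (D act sgnHom)

set_option maxRecDepth 100000

universe u

/-- A residue as a coordinate. -/
def toT3 : ZMod 3 → T3
  | 0 => .z
  | 1 => .o
  | 2 => .t

/-- The coordinate vectors. -/
def unitVec : ZMod 3 → Vec
  | 0 => eVec1
  | 1 => eVec2
  | 2 => eVec3

/-- The translation part. -/
def rotD : D → T3
  | .r i => toT3 i
  | .sr i => toT3 (-i)

/-- The sign part. -/
def sgD : D → T3
  | .r _ => .o
  | .sr _ => .t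

/-- The translation part of a triple. -/
def vB (a : B) : Vec := .mk (rotD a.1) (rotD a.2.1) (rotD a.2.2)

/-- The signs of a triple. -/
def mB (a : B) : Mat := diag (sgD a.1) (sgD a.2.1) (sgD a.2.2)

/-- The permutation matrix. -/
def pD (p : D) : Mat := .mk (unitVec (act p 0)) (unitVec (act p 1)) (unitVec (act p 2))

/-- The matrix of an element of the wreath product. -/
def wMat (w : W) : Mat := (mB w.left).mul (pD w.right)

theorem coordD : (∀ a b : D, rotD (a * b) = (rotD a).add ((sgD a).mul (rotD b)) ∧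
      sgD (a * b) = (sgD a).mul (sgD b)) ∧ rotD 1 = .z ∧ sgD 1 = .o := by decide +kernel

theorem diag_facts : (∀ a b c x y w : T3, (diag a b c).app (.mk x y w) =
      .mk (a.mul x) (b.mul y) (c.mul w)) ∧
    (∀ a b c x y w : T3, (diag a b c).mul (diag x y w) = diag (a.mul x) (b.mul y) (c.mul w)) := by
  decide +kernel

theorem pD_mul : ∀ p q : D, pD (p * q) = (pD p).mul (pD q) := by decide +kernel

theorem tr_coord : ∀ (p : D) (b : B), vB (tr p b) = (pD p).app (vB b) ∧
    (mB (tr p b)).mul (pD p) = (pD p).mul (mB b) := by decide +kernel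

theorem mB_vB : ∀ a b : B, vB (a * b) = (vB a).add ((mB a).app (vB b)) ∧
    mB (a * b) = (mB a).mul (mB b) := by
  intro a b
  simp only [vB, mB, Prod.fst_mul, Prod.snd_mul, diag_facts.1, diag_facts.2,
    (coordD.1 _ _).1, (coordD.1 _ _).2]
  exact ⟨rfl, trivial⟩

theorem mB_mem : ∀ a : B, mB a ∈ listF := by decide +kernel

theorem pD_mem : ∀ p : D, pD p ∈ listF := by decide +kernel

theorem card_W : Fintype.card W = 27 * 48 := by
  rw [Fintype.card_congr SemidirectProduct.equivProd, Fintype.card_prod, Fintype.card_prod,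
    Fintype.card_prod, DihedralGroup.card]

theorem wMat_one : ∀ w : W, wMat w = Mat.one → vB w.left = oVec → w = 1 := by decide +kernel

theorem wMat_sign : ∀ w : W, parHom w = detSign (wMat w) := by decide +kernel

theorem wMat_id : wMat 1 = Mat.one ∧ vB (1 : W).left = oVec := by decide +kernel

/-- The flips and the permutations make all signed permutations. -/
theorem made_flips : ∀ m ∈ listF, ∃ a : T3, ∃ b : T3, ∃ c : T3, ∃ p ∈ pmats,
    a ≠ .z ∧ b ≠ .z ∧ c ≠ .z ∧ m = (diag a b c).mul p := by decide +kernel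

theorem detSign_mulF : ∀ m ∈ listF, ∀ n ∈ listF, detSign (m.mul n) = detSign m * detSign n := by
  decide +kernel

theorem flip_facts : (∀ p ∈ pmats, ∃ i j, p = pmat i j) ∧
    Mat.negOne ∈ listF ∧ Mat.one ∈ listF ∧ Mat.negOne.mul Mat.negOne = Mat.one ∧
    (∀ m ∈ listF, m.mul Mat.negOne = Mat.negOne.mul m) ∧
    (∀ v, Mat.negOne.app v = v → v = oVec) := by decide +kernel

theorem flip_gen : Mat.cyc.mul ((diag .o .o .t).mul (pmat 2 0)) = diag .t .o .o ∧
    (pmat 2 0).mul ((diag .o .o .t).mul Mat.cyc) = diag .o .t .o := by decide +kernel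

theorem flip_split : ∀ a b c : T3,
    diag a b c = ((diag a .o .o).mul (diag .o b .o)).mul (diag .o .o c) := by decide +kernel

theorem detSign_gen : detSign Mat.one = 1 ∧ detSign Mat.swp = -1 ∧
    detSign (diag .o .o .t) = -1 ∧ (∀ i, detSign (pmat i 0) = 1) ∧
    (∀ i, ∀ j : Fin 2, pmat i j = if j = 0 then pmat i 0 else (pmat i 0).mul Mat.swp) ∧
    diag .o .o .o = Mat.one ∧ (∀ i, pmat i 0 ∈ listF) ∧
    (∀ a b c : T3, a ≠ .z → b ≠ .z → c ≠ .z → diag a b c ∈ listF) := by decide +kernel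

namespace Setup

variable {G : Type u} [Group G] [Finite G] (d : Setup G) (hA : d.AutList listF)
include hA

/-- An involution inverting the base. -/
theorem exists_inverting : ∃ z ∈ d.H, z * z = 1 ∧ d.mat z = Mat.negOne := by
  obtain ⟨g, hg, hm⟩ := hA.2 _ flip_facts.2.1
  have hgg : g * g ∈ d.J := d.eq_of_mat_one (mul_mem hg hg)
    (by rw [d.mat_mul hg hg, hm]; exact flip_facts.2.2.2.1)
  refine ⟨g * g * g, mul_mem (mul_mem hg hg) hg, ?_, ?_⟩
  · calc g * g * g * (g * g * g) = g * g * (g * g) * (g * g) := by group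
      _ = 1 := d.J_cube hgg
  · obtain ⟨v, hv⟩ := hgg
    rw [← hv, d.mat_mul (d.J_le_H (d.el_mem v)) hg, ← d.of_zero v, d.mat_of, hm]
    dsimp only
    decide

/-- A sign of `G` is the sign on nine points. -/
theorem sign_eq {V : G →* ℤˣ} {t : G} (ht : t ∈ d.H) (htm : d.mat t = diag .o .o .t)
    (hVt : V t = -1) (hVs : V d.s = -1) : ∀ g ∈ d.H, V g = detSign (d.mat g) := by
  have hVcube : ∀ g : G, g * g * g = 1 → V g = 1 := fun g hg => by
    have h : V g * V g * V g = 1 := by rw [← map_mul, ← map_mul, hg, map_one]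
    rcases Int.units_eq_one_or (V g) with e | e
    · exact e
    · rw [e] at h; exact absurd h (by decide)
  have hVmat : ∀ a ∈ d.H, ∀ b ∈ d.H, d.mat a = d.mat b → V a = V b := by
    intro a ha b hb h
    have hj : a⁻¹ * b ∈ d.J := d.eq_of_mat_one (mul_mem (inv_mem ha) hb) (by
      rw [d.mat_mul (inv_mem ha) hb, ← h, ← d.mat_mul (inv_mem ha) ha, inv_mul_cancel, d.mat_one])
    have h1 := hVcube _ (d.J_cube hj)
    rw [map_mul, map_inv, inv_mul_eq_one] at h1
    exact h1
  let P : Mat → Prop := fun m => ∀ g ∈ d.H, d.mat g = m → V g = detSign m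
  have hmk : ∀ {a : G}, a ∈ d.H → ∀ {m}, d.mat a = m → V a = detSign m → P m :=
    fun ha m hm hV g hg hgm => (hVmat g hg _ ha (hgm.trans hm.symm)).trans hV
  have hmul : ∀ m ∈ listF, ∀ n ∈ listF, P m → P n → P (m.mul n) := by
    intro m hm n hn hPm hPn
    obtain ⟨a, ha, ea⟩ := hA.2 m hm
    obtain ⟨b, hb, eb⟩ := hA.2 n hn
    exact hmk (mul_mem ha hb) (by rw [d.mat_mul ha hb, ea, eb])
      (by rw [map_mul, hPm a ha ea, hPn b hb eb, detSign_mulF m hm n hn])
  obtain ⟨h1, hswp, hflip, hrot, hpm, hd1, hrotF, hdiag⟩ := detSign_gen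
  have hPone : P Mat.one := hmk d.H.one_mem d.mat_one (by rw [map_one, h1])
  have hrot' : ∀ i, P (pmat i 0) := fun i => by
    refine hmk (pow_mem d.c_mem_H (i : ℕ)) ?_ (by rw [map_pow, hVcube _ d.c_cube, one_pow, hrot])
    rw [show d.c ^ (i : ℕ) = d.of (oVec, i, 0) by simp [Frame.of, d.el_zero], d.mat_of]
  have hperm : ∀ p ∈ pmats, P p := by
    intro p hp
    obtain ⟨i, j, rfl⟩ := flip_facts.1 p hp
    rw [hpm]
    split
    · exact hrot' i
    · exact hmul _ (hrotF i) _ (d.mat_s ▸ hA.1 _ d.s_mem_H) (hrot' i)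
        (hmk d.s_mem_H d.mat_s (by rw [hVs, hswp]))
  have h3 : P (diag .o .o .t) := hmk ht htm (by rw [hVt, hflip])
  have hconj : ∀ i m, P ((pmat i 0).mul ((diag .o .o .t).mul m)) ∨ ¬ (m ∈ listF ∧ P m ∧
      (diag .o .o .t).mul m ∈ listF) := fun i m => by
    by_contra h
    push Not at h
    exact h.1 (hmul _ (hrotF i) _ h.2.2.2 (hrot' i)
      (hmul _ (hdiag _ _ _ (by decide) (by decide) (by decide)) _ h.2.1 h3 h.2.2.1))
  have hP1 : P (diag .t .o .o) := by
    have h := (hconj 1 (pmat 2 0)).resolve_right fun h => h ⟨hrotF 2, hrot' 2, by decide +kernel⟩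
    rwa [show pmat 1 0 = Mat.cyc by decide, flip_gen.1] at h
  have hP2 : P (diag .o .t .o) := by
    have h := (hconj 2 (pmat 1 0)).resolve_right fun h => h ⟨hrotF 1, hrot' 1, by decide +kernel⟩
    rwa [show pmat 1 0 = Mat.cyc by decide, flip_gen.2] at h
  intro g hg
  obtain ⟨a, b, c, p, hp, ha, hb, hc, e⟩ := made_flips _ (hA.1 g hg)
  have hone : (T3.o : T3) ≠ .z := by decide
  have hPd : ∀ x : T3, x ≠ .z →
      P (diag x .o .o) ∧ P (diag .o x .o) ∧ P (diag .o .o x) := by
    intro x hx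
    cases x
    · exact absurd rfl hx
    · rw [hd1]; exact ⟨hPone, hPone, hPone⟩
    · exact ⟨hP1, hP2, h3⟩
  have hPdiag : P (diag a b c) := by
    rw [flip_split]
    refine hmul _ ?_ _ (hdiag _ _ _ hone hone hc) (hmul _ (hdiag _ _ _ ha hone hone) _
      (hdiag _ _ _ hone hb hone) (hPd a ha).1 (hPd b hb).2.1) (hPd c hc).2.2
    obtain ⟨u, hu, eu⟩ := hA.2 _ (hdiag a .o .o ha hone hone)
    obtain ⟨v, hv, ev⟩ := hA.2 _ (hdiag .o b .o hone hb hone)
    rw [← eu, ← ev, ← d.mat_mul hu hv]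
    exact hA.1 _ (mul_mem hu hv)
  have hpF : p ∈ listF := by
    obtain ⟨i, j, rfl⟩ := flip_facts.1 p hp
    rw [← d.mat_of (oVec, i, j)]
    exact hA.1 _ (d.of_mem_H _)
  have hall := hmul _ (hdiag a b c ha hb hc) p hpF hPdiag (hperm p hp)
  exact (hall g hg e).trans (congrArg detSign e.symm)

/-- A sign odd on a flip and on the exchange of two lines gives `Sym 9`. -/
theorem sym_nine_of_sign {V : G →* ℤˣ} {t : G} (ht : t ∈ d.H) (htm : d.mat t = diag .o .o .t)
    (hVt : V t = -1) (hVs : V d.s = -1) :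
    d.J.Normal ∨ Nonempty (G ≃* Equiv.Perm (Fin 9)) := by
  classical
  obtain ⟨z, hz, hz2, hzm⟩ := d.exists_inverting hA
  have hCz : ∀ m ∈ listF, ∃! f, f ∈ d.H ∧ f * z = z * f ∧ d.mat f = m := by
    intro m hm
    obtain ⟨g, hg, rfl⟩ := hA.2 m hm
    obtain ⟨a, ha, e⟩ := d.conj_of_mat_eq (mul_mem (mul_mem hg hz) (inv_mem hg)) hz
      (by rw [show g * z * g⁻¹ * (g * z * g⁻¹) = g * (z * z) * g⁻¹ by group, hz2, mul_one,
        mul_inv_cancel]) hz2 (by
        rw [d.mat_mul (mul_mem hg hz) (inv_mem hg), d.mat_mul hg hz, hzm,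
          flip_facts.2.2.2.2.1 _ (hA.1 g hg), ← hzm, ← d.mat_mul hz hg,
          ← d.mat_mul (mul_mem hz hg) (inv_mem hg), mul_inv_cancel_right])
    have haH := d.J_le_H ha
    obtain ⟨u, rfl⟩ := ha
    have hm1 : d.mat (d.el u * g) = d.mat g := by
      rw [d.mat_mul haH hg, ← d.of_zero u, d.mat_of]
      dsimp only
      rw [pmat_facts.2.2.2.2.2]
      obtain ⟨A, B, C⟩ := d.mat g
      simp only [Mat.mul, mat_facts.1]
    refine ⟨d.el u * g, ⟨mul_mem haH hg, mul_inv_eq_iff_eq_mul.1 ?_, hm1⟩, fun f ⟨hf, hfz, hfm⟩ => ?_⟩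
    · calc d.el u * g * z * (d.el u * g)⁻¹ = d.el u * (g * z * g⁻¹) * (d.el u)⁻¹ := by group
        _ = z := e
    · have hc : Commute (d.el u * g) z := mul_inv_eq_iff_eq_mul.1 (by
        calc d.el u * g * z * (d.el u * g)⁻¹ = d.el u * (g * z * g⁻¹) * (d.el u)⁻¹ := by group
          _ = z := e)
      obtain ⟨w, hw⟩ := d.eq_of_mat_one (g := (d.el u * g)⁻¹ * f)
        (mul_mem (inv_mem (mul_mem haH hg)) hf) (by
          rw [d.mat_mul (inv_mem (mul_mem haH hg)) hf, hfm, ← hm1,
            ← d.mat_mul (inv_mem (mul_mem haH hg)) (mul_mem haH hg), inv_mul_cancel, d.mat_one])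
      have hwz : d.el w * z = z * d.el w := by
        rw [hw]; exact (hc.inv_left.mul_left hfz).eq
      have h0 := (d.fixed_iff hz).2 hwz
      rw [hzm] at h0
      rw [flip_facts.2.2.2.2.2 w h0, d.el_zero, eq_comm, inv_mul_eq_one] at hw
      exact hw.symm
  choose F hF hFu using fun m hm => hCz m hm
  have hFmul : ∀ m hm n hn k hk, m.mul n = k → F m hm * F n hn = F k hk := fun m hm n hn k hk e =>
    hFu k hk _ ⟨mul_mem (hF m hm).1 (hF n hn).1,
      (show Commute (F m hm) z from (hF m hm).2.1).mul_left (hF n hn).2.1,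
      by rw [d.mat_mul (hF m hm).1 (hF n hn).1, (hF m hm).2.2, (hF n hn).2.2, e]⟩
  have hF1 : ∀ h1, F Mat.one h1 = 1 := fun h1 =>
    (hFu _ h1 1 ⟨one_mem _, by rw [one_mul, mul_one], d.mat_one⟩).symm
  have hFel : ∀ m hm v, F m hm * d.el v = d.el (m.app v) * F m hm := fun m hm v => by
    have h := d.act_spec (hF m hm).1 v
    rw [← d.mat_app (hF m hm).1, (hF m hm).2.2] at h
    rw [h]; group
  let f₁ : B →* G := MonoidHom.mk' (fun a => d.el (vB a) * F (mB a) (mB_mem a)) fun a b => by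
    rw [show d.el (vB a) * F (mB a) (mB_mem a) * (d.el (vB b) * F (mB b) (mB_mem b)) =
      d.el (vB a) * (F (mB a) (mB_mem a) * d.el (vB b)) * F (mB b) (mB_mem b) by group, hFel,
      ← mul_assoc, ← d.el_add, mul_assoc, ← (mB_vB a b).1,
      hFmul _ _ _ (mB_mem b) _ (mB_mem (a * b)) (mB_vB a b).2.symm]
  let f₂ : D →* G := MonoidHom.mk' (fun p => F (pD p) (pD_mem p)) fun p q =>
    (hFmul _ _ _ _ _ _ (pD_mul p q).symm).symm
  let ψ : W →* G := SemidirectProduct.lift f₁ f₂ fun p => MonoidHom.ext fun b => by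
    show d.el (vB (tr p b)) * F (mB (tr p b)) (mB_mem _) =
      F (pD p) (pD_mem p) * (d.el (vB b) * F (mB b) (mB_mem b)) * (F (pD p) (pD_mem p))⁻¹
    have hk : (pD p).mul (mB b) ∈ listF := by
      have h := hA.1 _ (mul_mem (hF _ (pD_mem p)).1 (hF _ (mB_mem b)).1)
      rwa [d.mat_mul (hF _ (pD_mem p)).1 (hF _ (mB_mem b)).1, (hF _ _).2.2, (hF _ _).2.2] at h
    rw [show F (pD p) (pD_mem p) * (d.el (vB b) * F (mB b) (mB_mem b)) =
      F (pD p) (pD_mem p) * d.el (vB b) * F (mB b) (mB_mem b) by group, hFel,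
      mul_assoc (d.el _), hFmul _ _ _ _ _ hk rfl, (tr_coord p b).1,
      ← hFmul _ (mB_mem (tr p b)) _ (pD_mem p) _ hk (tr_coord p b).2]
    group
  have hψ : ∀ w, ψ w = d.el (vB w.left) * F (mB w.left) (mB_mem _) * F (pD w.right) (pD_mem _) :=
    fun w => rfl
  have hψH : ∀ w, ψ w ∈ d.H := fun w => by
    rw [hψ]; exact mul_mem (mul_mem (d.J_le_H (d.el_mem _)) (hF _ _).1) (hF _ _).1
  have hψmat : ∀ w, d.mat (ψ w) = wMat w := by
    intro w
    rw [hψ, mul_assoc, d.mat_mul (d.J_le_H (d.el_mem _)) (mul_mem (hF _ _).1 (hF _ _).1),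
      d.mat_mul (hF _ _).1 (hF _ _).1, (hF _ _).2.2, (hF _ _).2.2, ← d.of_zero (vB w.left),
      d.mat_of]
    dsimp only
    rw [pmat_facts.2.2.2.2.2]
    show Mat.one.mul (wMat w) = wMat w
    obtain ⟨A, C, E⟩ := wMat w
    simp only [Mat.mul, mat_facts.1]
  have hinj : Function.Injective ψ := (injective_iff_map_eq_one ψ).2 fun w hw => by
    have hm : wMat w = Mat.one := by rw [← hψmat, hw, d.mat_one]
    refine wMat_one w hm ?_
    rw [hψ, mul_assoc, hFmul _ _ _ _ _ flip_facts.2.2.1 hm, hF1, mul_one, d.el_eq_one] at hw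
    exact hw
  have hrange : ψ.range = d.H := by
    refine Subgroup.eq_of_le_of_card_ge (by rintro _ ⟨w, rfl⟩; exact hψH w) ?_
    rw [d.card_H_list hA lists_facts.2.2.2.2.1, lists_facts.2.2.2.2.2.2.2.2,
      Nat.card_congr (MonoidHom.ofInjective hinj).symm.toEquiv, Nat.card_eq_fintype_card,
      card_W]
  have hsign : ∀ w, V (ψ w) = parHom w := fun w => by
    rw [d.sign_eq hA ht htm hVt hVs _ (hψH w), hψmat, wMat_sign]
  set K := V.ker with hK
  haveI : K.Normal := V.normal_ker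
  have hJK : d.J ≤ K := fun j hj => by
    have h : V j * V j * V j = 1 := by rw [← map_mul, ← map_mul, d.J_cube hj, map_one]
    rcases Int.units_eq_one_or (V j) with e | e
    · exact MonoidHom.mem_ker.2 e
    · rw [e] at h; exact absurd h (by decide)
  have hidx : K.index = 2 := by
    rw [hK, Subgroup.index_ker, MonoidHom.range_eq_top.2 fun a => ?_, Subgroup.card_top,
      Nat.card_eq_fintype_card, Fintype.card_units_int]
    rcases Int.units_eq_one_or a with rfl | rfl
    · exact ⟨1, map_one _⟩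
    · exact ⟨t, hVt⟩
  have hN : Subgroup.normalizer (d.J : Set G) = d.H := rfl
  let f : AltNineThree.M →* ↥(K ⊓ Subgroup.normalizer (d.J : Set G)) :=
    (ψ.comp parHom.ker.subtype).codRestrict _ fun w =>
      ⟨MonoidHom.mem_ker.2 ((hsign w.1).trans w.2), hψH w.1⟩
  have hf : Function.Bijective f := by
    refine ⟨fun a b e => Subtype.ext (hinj (congrArg Subtype.val e)), fun ⟨g, hgK, hgH⟩ => ?_⟩
    obtain ⟨w, rfl⟩ := (hrange.ge hgH : g ∈ ψ.range)
    exact ⟨⟨w, MonoidHom.mem_ker.2 ((hsign w).symm.trans (MonoidHom.mem_ker.1 hgK))⟩, rfl⟩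
  refine sym_nine_of_index_two d.J (fun j hj => d.J_cube hj) d.card_J ?_
    (fun L hL h => d.sig_bot hL h) K hidx hJK (MulEquiv.ofBijective f hf).symm
  refine le_antisymm (fun g hg => d.centJ fun v => ?_) fun j hj => ?_
  · exact (Subgroup.mem_centralizer_iff.1 hg _ (d.el_mem v)).symm
  · exact Subgroup.mem_centralizer_iff.2 fun i hi => d.J_comm hi hj

end Setup

end CfsgLib.SymNineRecog
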